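import Mathlib
import Cfsg.Agent.H64.Unbounded
import Cfsg.Agent.H64.SL2Spectrum
import Cfsg.Agent.H64.FpfSemidirect

/-! Groups with the prime graph of `SL₂(2ⁿ)` of unbounded order. -/

namespace H64

/-- In characteristic two an extension of natural modules by `SL₂(F)` has the element orders of
`SL₂(F)` up to divisors of `4`. -/
theorem exists_big_char2 {F : Type*} [Field F] [Fintype F] [CharP F 2] (N : ℕ) :
    ∃ (H : Type) (_ : Group H) (_ : Finite H), N < Nat.card H ∧
      (∀ r : ℕ, r.Prime → (r ∣ Nat.card H ↔ r ∣ Nat.card (Matrix.SpecialLinearGroup (Fin 2) F))) ∧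
      (∀ g : Matrix.SpecialLinearGroup (Fin 2) F, ∃ h : H, orderOf h = orderOf g) ∧
      (∀ h : H, orderOf h ∣ 4 ∨ ∃ g : Matrix.SpecialLinearGroup (Fin 2) F, orderOf g = orderOf h) := by
  haveI : Fact (Nat.Prime 2) := ⟨Nat.prime_two⟩
  set V := Multiplicative (Fin N → Fin 2 → F)
  let K := V ⋊[sl2Act F N] Matrix.SpecialLinearGroup (Fin 2) F
  haveI : Finite K := Finite.of_equiv _ SemidirectProduct.equivProd.symm
  obtain ⟨H, i, j, ⟨e⟩⟩ := exists_type_zero_copy K
  have hcard : Nat.card H = Nat.card V * Nat.card (Matrix.SpecialLinearGroup (Fin 2) F) := by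
    rw [Nat.card_congr e.toEquiv, SemidirectProduct.card]
  have hV : Nat.card V = (Fintype.card F ^ 2) ^ N := by
    show Nat.card (Fin N → Fin 2 → F) = _
    simp [Nat.card_eq_fintype_card]
  obtain ⟨n, -, hn⟩ := FiniteField.card F 2
  have h2 : 2 ∣ Nat.card (Matrix.SpecialLinearGroup (Fin 2) F) := by
    let u : Matrix.SpecialLinearGroup (Fin 2) F := ⟨!![1, 1; 0, 1], by simp [Matrix.det_fin_two]⟩
    have hu : orderOf u = 2 := by
      refine orderOf_eq_prime (Subtype.ext ?_) (fun h => ?_)
      · rw [Matrix.SpecialLinearGroup.coe_pow, Matrix.SpecialLinearGroup.coe_one]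
        ext a b
        fin_cases a <;> fin_cases b <;>
          simp [u, sq, Matrix.mul_apply, Fin.sum_univ_two, CharTwo.add_self_eq_zero]
      · have := congrArg (fun g : Matrix.SpecialLinearGroup (Fin 2) F => (g : Matrix (Fin 2) (Fin 2) F) 0 1) h
        simp [u] at this
    exact (dvd_of_eq hu.symm).trans (orderOf_dvd_natCard u)
  refine ⟨H, i, inferInstance, ?_, ?_, ?_, ?_⟩
  · rw [hcard, hV]
    have h1 : N < (Fintype.card F ^ 2) ^ N := lt_of_lt_of_le N.lt_two_pow_self
      (Nat.pow_le_pow_left (le_trans (Fintype.one_lt_card (α := F)) (Nat.le_self_pow (by norm_num) _)) N)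
    exact lt_of_lt_of_le h1 (Nat.le_mul_of_pos_right _ Nat.card_pos)
  · intro r hr
    rw [hcard]
    refine ⟨fun h => ?_, fun h => dvd_mul_of_dvd_right h _⟩
    rcases hr.dvd_mul.1 h with h | h
    · rw [hV, hn, ← pow_mul, ← pow_mul] at h
      rw [(Nat.prime_dvd_prime_iff_eq hr Nat.prime_two).1 (hr.dvd_of_dvd_pow h)]
      exact h2
    · exact h
  · intro g
    refine ⟨e.symm (SemidirectProduct.inr g), ?_⟩
    rw [MulEquiv.orderOf_eq, orderOf_injective _ SemidirectProduct.inr_injective]
  · intro h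
    obtain ⟨z, rfl⟩ := e.symm.surjective h
    rw [MulEquiv.orderOf_eq]
    set g := z.right with hg
    by_cases ht : (g : Matrix (Fin 2) (Fin 2) F).trace = 2
    · left
      have hsq : g ^ 2 = 1 := by
        refine Subtype.ext ?_
        rw [Matrix.SpecialLinearGroup.coe_pow, sl2_sq_eq _ g.2, ht, CharTwo.two_eq_zero (R := F), zero_smul,
          zero_sub, Matrix.SpecialLinearGroup.coe_one]
        ext a b
        fin_cases a <;> fin_cases b <;> simp [CharTwo.neg_eq]
      refine orderOf_dvd_of_pow_eq_one ?_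
      rw [show (4 : ℕ) = 2 * 2 from rfl, pow_mul]
      refine semidirect_pow_of_right_eq_one _ _ 2 (fun v => ?_) ?_
      · refine Multiplicative.toAdd.injective ?_
        rw [toAdd_pow, toAdd_one, two_nsmul]
        funext a b
        exact CharTwo.add_self_eq_zero _
      · exact (map_pow (SemidirectProduct.rightHom (φ := sl2Act F N)) z 2).trans hsq
    · right
      refine ⟨g, (semidirect_orderOf_of_fpf _ z fun w hw => ?_).symm⟩
      refine Multiplicative.toAdd.injective (funext fun a => ?_)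
      exact sl2_fixed_eq_zero _ g.2 ht _ (congrFun (congrArg Multiplicative.toAdd hw) a)

theorem not_prime_mul_dvd_four {p q : ℕ} (hp : p.Prime) (hq : q.Prime) (hne : p ≠ q) : ¬ p * q ∣ 4 := by
  intro h
  have h1 := (Nat.prime_dvd_prime_iff_eq hp Nat.prime_two).1
    (hp.dvd_of_dvd_pow (n := 2) ((Dvd.intro q rfl).trans h))
  have h2 := (Nat.prime_dvd_prime_iff_eq hq Nat.prime_two).1
    (hq.dvd_of_dvd_pow (n := 2) ((Dvd.intro_left p rfl).trans h))
  exact hne (h1.trans h2.symm)

/-- `PSL₂` and `SL₂` agree in characteristic two. -/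
theorem psl2_char2_equiv {F : Type*} [Field F] [CharP F 2] :
    Nonempty (Matrix.SpecialLinearGroup (Fin 2) F ≃* Matrix.ProjectiveSpecialLinearGroup (Fin 2) F) := by
  refine ⟨(QuotientGroup.quotientBot).symm.trans (QuotientGroup.quotientMulEquivOfEq ?_)⟩
  symm
  rw [eq_bot_iff]
  intro g hg
  obtain ⟨r, hr, hr'⟩ := Matrix.SpecialLinearGroup.mem_center_iff.1 hg
  rw [Fintype.card_fin] at hr
  have h1 : r = 1 := by
    have h : (r + 1) ^ 2 = 0 := by rw [CharTwo.add_sq, hr, one_pow, CharTwo.add_self_eq_zero]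
    have := pow_eq_zero_iff (n := 2) (by norm_num) |>.1 h
    rwa [← CharTwo.sub_eq_add, sub_eq_zero] at this
  rw [Subgroup.mem_bot]
  refine Subtype.ext ?_
  rw [← hr', h1, map_one]; rfl

end H64
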