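import Mathlib
import Cfsg.Agent.H64.Unbounded

/-! In a finite solvable group, among three prime divisors two are adjacent in the prime graph. -/

namespace H64

open scoped Classical

theorem exists_orderOf_of_dvd {G : Type*} [Group G] [Finite G] (g : G) {n : ℕ} (h : n ∣ orderOf g) :
    ∃ z ∈ Subgroup.zpowers g, orderOf z = n :=
  ⟨g ^ (orderOf g / n), Subgroup.pow_mem _ (Subgroup.mem_zpowers g) _,
    orderOf_pow_orderOf_div (orderOf_pos g).ne' h⟩

theorem exists_orderOf_map {G H : Type*} [Group G] [Finite G] [Group H] (f : G →* H) {n : ℕ} (g : G)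
    (h : orderOf (f g) = n) : ∃ z ∈ Subgroup.zpowers g, orderOf z = n :=
  exists_orderOf_of_dvd g (h ▸ orderOf_map_dvd f g)

/-- A finite solvable group with prime divisors `s ≠ t` has an element of one of these orders
normalizing a nontrivial subgroup of the other prime-power order. -/
theorem exists_normalized_subgroup {G : Type*} [Group G] [Finite G] (hs : Group.IsSolvable G)
    {s t : ℕ} [Fact s.Prime] [Fact t.Prime] (hst : s ≠ t) (h1 : s ∣ Nat.card G) (h2 : t ∣ Nat.card G) :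
    (∃ (x : G) (Q : Subgroup G), orderOf x = s ∧ IsPGroup t Q ∧ Q ≠ ⊥ ∧ x ∈ Subgroup.normalizer (Q : Set G)) ∨
    (∃ (x : G) (Q : Subgroup G), orderOf x = t ∧ IsPGroup s Q ∧ Q ≠ ⊥ ∧ x ∈ Subgroup.normalizer (Q : Set G)) := by
  induction hn : Nat.card G using Nat.strong_induction_on generalizing G with
  | _ n ih =>
  subst hn
  have htop : (⊤ : Subgroup G) ≠ ⊥ := by
    intro h
    have : Nat.card G = 1 := by rw [← Subgroup.card_top, h, Subgroup.card_bot]
    exact (Fact.out : s.Prime).not_dvd_one (this ▸ h1)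
  haveI : Group.IsSolvable (⊤ : Subgroup G) := inferInstance
  obtain ⟨q, V, hq, hVn, hVne, -, hVe⟩ := hasElemNormal_of_solvable (⊤ : Subgroup G) htop ‹_›
  haveI := hVn
  haveI := Fact.mk hq
  have hVq : IsPGroup q V := fun v => ⟨1, Subtype.ext (by simpa using hVe v v.2)⟩
  have hV' : ∀ g : G, g ∈ Subgroup.normalizer (V : Set G) := fun g => by
    rw [Subgroup.normalizer_eq_top (H := V)]; trivial
  by_cases hqt : q = t
  · subst hqt
    obtain ⟨x, hx⟩ := exists_prime_orderOf_dvd_card' s h1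
    exact Or.inl ⟨x, V, hx, hVq, hVne, hV' x⟩
  by_cases hqs : q = s
  · subst hqs
    obtain ⟨x, hx⟩ := exists_prime_orderOf_dvd_card' t h2
    exact Or.inr ⟨x, V, hx, hVq, hVne, hV' x⟩
  obtain ⟨e, he⟩ := hVq.exists_card_eq
  have hmul : Nat.card G = Nat.card (G ⧸ V) * Nat.card V := Subgroup.card_eq_card_quotient_mul_card_subgroup V
  have hd : ∀ a : ℕ, a.Prime → a ≠ q → a ∣ Nat.card G → a ∣ Nat.card (G ⧸ V) := by
    intro a ha hne hd
    rw [hmul, he] at hd
    rcases ha.dvd_mul.1 hd with h | h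
    · exact h
    · exact absurd ((Nat.prime_dvd_prime_iff_eq ha hq).1 (ha.dvd_of_dvd_pow h)) hne
  have hlt : Nat.card (G ⧸ V) < Nat.card G := by
    rw [hmul]
    exact lt_mul_of_one_lt_right Nat.card_pos (Subgroup.one_lt_card_iff_ne_bot _ |>.2 hVne)
  have key : ∀ (a b : ℕ) (x : G ⧸ V) (Q : Subgroup (G ⧸ V)), a.Prime → b.Prime → a ≠ b →
      orderOf x = a → IsPGroup b Q → Q ≠ ⊥ → x ∈ Subgroup.normalizer (Q : Set (G ⧸ V)) →
      ∃ (x' : G) (Q' : Subgroup G), orderOf x' = a ∧ IsPGroup b Q' ∧ Q' ≠ ⊥ ∧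
        x' ∈ Subgroup.normalizer (Q' : Set G) := by
    intro a b x Q hap hbp hab hx hQ hQne hxn
    haveI := Fact.mk hbp
    obtain ⟨g, rfl⟩ := QuotientGroup.mk'_surjective V x
    set f := QuotientGroup.mk' V
    set P := Q.comap f with hP
    set M := Subgroup.normalizer (P : Set G) with hM
    have hgM : g ∈ M := by
      rw [hM, Subgroup.mem_normalizer_iff]
      intro h
      rw [hP, Subgroup.mem_comap, Subgroup.mem_comap, map_mul, map_mul, map_inv]
      exact Subgroup.mem_normalizer_iff.1 hxn (f h)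
    haveI hPn : (P.subgroupOf M).Normal :=
      (Subgroup.normal_subgroupOf_iff_le_normalizer Subgroup.le_normalizer).2 le_rfl
    obtain ⟨S⟩ : Nonempty (Sylow b (P.subgroupOf M)) := inferInstance
    have hsup := Sylow.normalizer_sup_eq_top S
    set S' := (S : Subgroup (P.subgroupOf M)).map (P.subgroupOf M).subtype with hS'
    obtain ⟨n, hn, p, hp, hnp⟩ : ∃ n ∈ Subgroup.normalizer (S' : Set M), ∃ p ∈ P.subgroupOf M,
        n * p = ⟨g, hgM⟩ := by
      have := Subgroup.mem_top (⟨g, hgM⟩ : M)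
      rw [← hsup] at this
      exact Subgroup.mem_sup_of_normal_right.1 this
    set Q' := S'.map M.subtype with hQ'
    obtain ⟨k, hk⟩ := hQ.exists_card_eq
    have hbP : b ∣ Nat.card (P.subgroupOf M) := by
      rw [Nat.card_congr (Subgroup.subgroupOfEquivOfLe (Subgroup.le_normalizer (H := P))).toEquiv]
      have h3 : Nat.card Q ∣ Nat.card P := by
        rw [show Q = P.map f by
          rw [hP, Subgroup.map_comap_eq_self_of_surjective (QuotientGroup.mk'_surjective V)]]
        exact Subgroup.card_map_dvd P f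
      refine dvd_trans (hk ▸ dvd_pow_self b ?_) h3
      rintro rfl
      exact hQne (Subgroup.card_eq_one.1 (by simpa using hk))
    have hQ'p : IsPGroup b Q' := (S.isPGroup'.map _).map _
    have hQ'ne : Q' ≠ ⊥ := by
      rw [hQ', hS', Ne, Subgroup.map_eq_bot_iff_of_injective _ M.subtype_injective,
        Subgroup.map_eq_bot_iff_of_injective _ (Subgroup.subtype_injective _)]
      exact Sylow.ne_bot_of_dvd_card S hbP
    have hnQ : (n : G) ∈ Subgroup.normalizer (Q' : Set G) :=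
      Subgroup.le_normalizer_map M.subtype ⟨n, hn, rfl⟩
    have hfp : f (p : G) ∈ Q := hp
    have hfg : f g = f (n : G) * f (p : G) := by
      rw [← map_mul, ← Subgroup.coe_mul, hnp]
    set R := Subgroup.normalizer (Q : Set (G ⧸ V)) with hR
    have hnR : f (n : G) ∈ R := by
      have : f (n : G) = f g * (f (p : G))⁻¹ := by rw [hfg]; group
      rw [this]
      exact R.mul_mem hxn (R.inv_mem (Subgroup.le_normalizer hfp))
    have h1 : f g ^ orderOf (n : G) ∈ Q := by
      let φ := QuotientGroup.mk' (Q.subgroupOf R)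
      have e1 : φ ⟨f (n : G), hnR⟩ = φ ⟨f g, hxn⟩ := by
        rw [QuotientGroup.mk'_eq_mk']
        exact ⟨⟨_, Subgroup.le_normalizer hfp⟩, hfp, Subtype.ext hfg.symm⟩
      have e2 : φ ((⟨f g, hxn⟩ : R) ^ orderOf (n : G)) = 1 := by
        rw [map_pow, ← e1, ← map_pow]
        have : (⟨f (n : G), hnR⟩ : R) ^ orderOf (n : G) = 1 :=
          Subtype.ext (by rw [Subgroup.coe_pow, ← map_pow, pow_orderOf_eq_one]; simp)
        rw [this, map_one]
      exact (QuotientGroup.eq_one_iff ((⟨f g, hxn⟩ : R) ^ orderOf (n : G))).1 e2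
    have h2 : a ∣ orderOf (n : G) := by
      have e3 : (f g ^ orderOf (n : G)) ^ (b ^ k) = 1 := by
        have := congrArg Subtype.val (pow_card_eq_one' (x := (⟨_, h1⟩ : Q)))
        rwa [hk] at this
      rw [← pow_mul] at e3
      have e4 := orderOf_dvd_of_pow_eq_one e3
      rw [hx] at e4
      exact (Nat.Coprime.pow_right k ((Nat.coprime_primes hap hbp).2 hab)).dvd_of_dvd_mul_right e4
    obtain ⟨z, hz, hza⟩ := exists_orderOf_of_dvd _ h2
    exact ⟨z, Q', hza, hQ'p, hQ'ne, Subgroup.zpowers_le.2 hnQ hz⟩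
  rcases ih _ hlt (G := G ⧸ V) inferInstance (hd s Fact.out (Ne.symm hqs) h1)
    (hd t Fact.out (Ne.symm hqt) h2) rfl with ⟨x, Q, hx, hQ, hne, hxn⟩ | ⟨x, Q, hx, hQ, hne, hxn⟩
  · exact Or.inl (key s t x Q Fact.out Fact.out hst hx hQ hne hxn)
  · exact Or.inr (key t s x Q Fact.out Fact.out hst.symm hx hQ hne hxn)

/-- A nontrivial finite abelian normal `r`-subgroup cannot be acted on fixed point freely by a
nontrivial `t`-group `Q` extended by a fixed point free element `x` of prime order `s`. -/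
theorem no_fpf {G : Type*} [Group G] [Finite G] {r s t : ℕ} (hs : s.Prime) (ht : t.Prime)
    (hrt : Nat.Coprime t r) (V : Subgroup G) [V.Normal] (hV : V ≠ ⊥)
    (hc : ∀ a ∈ V, ∀ b ∈ V, a * b = b * a) (he : ∀ a ∈ V, a ^ r = 1)
    (x : G) (Q : Subgroup G) (hx : orderOf x = s) (hQ : IsPGroup t Q) (hQne : Q ≠ ⊥)
    (hxn : x ∈ Subgroup.normalizer (Q : Set G))
    (hxV : ∀ v ∈ V, x * v * x⁻¹ = v → v = 1)
    (huV : ∀ u ∈ Q, u ≠ 1 → ∀ v ∈ V, u * v * u⁻¹ = v → v = 1)
    (hxQ : ∀ u ∈ Q, x * u * x⁻¹ = u → u = 1) : False := by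
  haveI := Fact.mk ht
  haveI := Fintype.ofFinite Q
  letI : CommGroup V := { (inferInstance : Group V) with mul_comm := fun a b => Subtype.ext (hc a a.2 b b.2) }
  let α : G → MulAut V := fun g => MulAut.conjNormal g
  obtain ⟨v, hv, hv1⟩ := V.bot_or_exists_ne_one.resolve_left hV
  -- orbit products are fixed
  let X : V → V := fun w => ∏ i ∈ Finset.range s, α (x ^ i) w
  have hX : ∀ w, X w = 1 := by
    intro w
    have h : α x (X w) = X w := by
      show α x (∏ i ∈ Finset.range s, α (x ^ i) w) = ∏ i ∈ Finset.range s, α (x ^ i) w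
      rw [map_prod]
      have e1 : ∏ i ∈ Finset.range s, α x (α (x ^ i) w) = ∏ i ∈ Finset.range s, α (x ^ (i + 1)) w :=
        Finset.prod_congr rfl fun i _ => by simp [α, pow_succ', map_mul]
      rw [e1]
      have e2 := Finset.prod_range_succ (fun i => α (x ^ i) w) s
      rw [Finset.prod_range_succ'] at e2
      have e3 : α (x ^ s) w = α (x ^ 0) w := by rw [← hx, pow_orderOf_eq_one, pow_zero]
      rw [e3] at e2
      exact mul_right_cancel e2
    exact Subtype.ext (hxV _ (X w).2 (congrArg Subtype.val h))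
  have hU : ∀ w, ∏ u : Q, α (u : G) w = 1 := by
    intro w
    obtain ⟨u0, hu0, hu01⟩ := Q.bot_or_exists_ne_one.resolve_left hQne
    have h : α u0 (∏ u : Q, α (u : G) w) = ∏ u : Q, α (u : G) w := by
      rw [map_prod]
      exact Fintype.prod_equiv (Equiv.mulLeft ⟨u0, hu0⟩) _ _ (fun u => by simp [α, map_mul])
    exact Subtype.ext (huV u0 hu0 hu01 _ (∏ u : Q, α (u : G) w).2 (congrArg Subtype.val h))
  -- for fixed `i` the elements `u xⁱ u⁻¹` run over the coset `Q xⁱ`
  have hperm : ∀ i, i ≠ 0 → i < s → ∀ w : V,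
      ∏ u : Q, α ((u : G) * x ^ i * (u : G)⁻¹) w = 1 := by
    intro i hi0 his w
    have hxi : x ^ i ∈ Subgroup.normalizer (Q : Set G) := Subgroup.pow_mem _ hxn i
    let g : Q → Q := fun u => ⟨(u : G) * (x ^ i * ((u : G))⁻¹ * (x ^ i)⁻¹),
      Q.mul_mem u.2 ((Subgroup.mem_normalizer_iff.1 hxi _).1 (Q.inv_mem u.2))⟩
    have hg : Function.Injective g := by
      intro a b hab
      have h1 : (a : G) * (x ^ i * (a : G)⁻¹ * (x ^ i)⁻¹) = (b : G) * (x ^ i * (b : G)⁻¹ * (x ^ i)⁻¹) :=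
        congrArg Subtype.val hab
      set c := (b : G)⁻¹ * (a : G) with hc'
      have h2 : c * x ^ i * c⁻¹ = x ^ i := by
        calc c * x ^ i * c⁻¹ = (b : G)⁻¹ * ((a : G) * (x ^ i * (a : G)⁻¹ * (x ^ i)⁻¹)) * x ^ i * b := by
              rw [hc']; group
          _ = _ := by rw [h1]; group
      -- `x` is a power of `x ^ i`
      have h3 : c * x = x * c := by
        have hmem : x ∈ Subgroup.zpowers (x ^ i) := by
          rw [mem_zpowers_pow_iff, hx]
          exact (Nat.coprime_comm).1 ((Nat.Prime.coprime_iff_not_dvd hs).2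
            (fun h => absurd (Nat.le_of_dvd (Nat.pos_of_ne_zero hi0) h) (by omega)))
        obtain ⟨m, hm⟩ := hmem
        have : Commute c (x ^ i) := mul_inv_eq_iff_eq_mul.1 h2
        have := this.zpow_right m
        simp only at hm
        rwa [hm] at this
      have h4 : c = 1 := hxQ c (Q.mul_mem (Q.inv_mem b.2) a.2) (by rw [← h3]; group)
      exact Subtype.ext (inv_mul_eq_one.1 h4).symm
    have e : ∀ u : Q, α ((u : G) * x ^ i * (u : G)⁻¹) w = α (g u : G) (α (x ^ i) w) := by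
      intro u
      rw [← MulAut.mul_apply]
      show _ = (MulAut.conjNormal (g u : G) * MulAut.conjNormal (x ^ i) : MulAut V) w
      rw [← map_mul]
      congr 2
      show _ = (u : G) * (x ^ i * ((u : G))⁻¹ * (x ^ i)⁻¹) * x ^ i
      group
    rw [Finset.prod_congr rfl (fun u _ => e u)]
    rw [Function.Bijective.prod_comp ((Finite.injective_iff_bijective).1 hg)
      (fun u : Q => α (u : G) (α (x ^ i) w))]
    exact hU _
  have hsum : ∏ i ∈ Finset.range s, ∏ u : Q, α ((u : G) * x ^ i * (u : G)⁻¹) (⟨v, hv⟩ : V) = 1 := by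
    rw [Finset.prod_comm]
    refine Finset.prod_eq_one fun u _ => ?_
    have : ∀ i, α ((u : G) * x ^ i * (u : G)⁻¹) (⟨v, hv⟩ : V) = α (u : G) (α (x ^ i) (α (u : G)⁻¹ ⟨v, hv⟩)) :=
      fun i => by simp [α, map_mul]
    rw [Finset.prod_congr rfl (fun i _ => this i), ← map_prod]
    show α (u : G) (X _) = 1
    rw [hX, map_one]
  obtain ⟨s', rfl⟩ : ∃ s', s = s' + 1 := ⟨s - 1, by have := hs.pos; omega⟩
  rw [Finset.prod_range_succ', Finset.prod_eq_one (fun i hi => hperm (i + 1) (by omega)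
    (by have := Finset.mem_range.1 hi; omega) _), one_mul] at hsum
  have hpow : (⟨v, hv⟩ : V) ^ Nat.card Q = 1 := by
    rw [← hsum, Nat.card_eq_fintype_card, ← Finset.card_univ, ← Finset.prod_const]
    exact Finset.prod_congr rfl fun u _ => by simp [α]
  obtain ⟨k, hk⟩ := hQ.exists_card_eq
  rw [hk] at hpow
  have h1 : v ^ t ^ k = 1 := congrArg Subtype.val hpow
  have := Nat.eq_one_of_dvd_coprimes (hrt.pow_left k) (orderOf_dvd_of_pow_eq_one h1)
    (orderOf_dvd_of_pow_eq_one (he v hv))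
  exact hv1 (orderOf_eq_one_iff.1 this)

theorem exists_orderOf_mul_of_conj {G : Type*} [Group G] [Finite G] {a b : ℕ} (ha : a.Prime)
    (hb : b.Prime) (hab : a ≠ b) {x y : G} (hx : a ∣ orderOf x) (hy : b ∣ orderOf y)
    (hc : x * y * x⁻¹ = y) : ∃ z : G, orderOf z = a * b := by
  have hcm : Commute x y := mul_inv_eq_iff_eq_mul.1 hc
  obtain ⟨x', hx', e1⟩ := exists_orderOf_of_dvd x hx
  obtain ⟨y', hy', e2⟩ := exists_orderOf_of_dvd y hy
  obtain ⟨i, rfl⟩ := hx'
  obtain ⟨j, rfl⟩ := hy'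
  simp only at e1 e2
  refine ⟨x ^ i * y ^ j, ?_⟩
  rw [((hcm.zpow_left i).zpow_right j).orderOf_mul_eq_mul_orderOf_of_coprime
    (by rw [e1, e2]; exact (Nat.coprime_primes ha hb).2 hab), e1, e2]

/-- Lucido's three primes lemma. -/
theorem three_primes_adjacent {G : Type*} [Group G] [Finite G] (hG : Group.IsSolvable G)
    {r s t : ℕ} (hr : r.Prime) (hs : s.Prime) (ht : t.Prime) (hrs : r ≠ s) (hrt : r ≠ t) (hst : s ≠ t)
    (h1 : r ∣ Nat.card G) (h2 : s ∣ Nat.card G) (h3 : t ∣ Nat.card G) :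
    (∃ z : G, orderOf z = r * s) ∨ (∃ z : G, orderOf z = r * t) ∨ (∃ z : G, orderOf z = s * t) := by
  induction hn : Nat.card G using Nat.strong_induction_on generalizing G with
  | _ n ih =>
  subst hn
  have htop : (⊤ : Subgroup G) ≠ ⊥ := by
    intro h
    have : Nat.card G = 1 := by rw [← Subgroup.card_top, h, Subgroup.card_bot]
    exact hr.not_dvd_one (this ▸ h1)
  haveI : Group.IsSolvable (⊤ : Subgroup G) := inferInstance
  obtain ⟨q, V, hq, hVn, hVne, hc, hVe⟩ := hasElemNormal_of_solvable (⊤ : Subgroup G) htop ‹_›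
  haveI := hVn
  -- the case that `q` is one of the three primes
  have key : ∀ a b : ℕ, a.Prime → b.Prime → a ≠ b → q ≠ a → q ≠ b → a ∣ Nat.card G → b ∣ Nat.card G →
      (∃ z : G, orderOf z = q * a) ∨ (∃ z : G, orderOf z = q * b) ∨ (∃ z : G, orderOf z = a * b) := by
    intro a b ha hb hab hqa hqb hda hdb
    by_contra hcon
    push_neg at hcon
    obtain ⟨n1, n2, n3⟩ := hcon
    have dV : ∀ v ∈ V, v ≠ 1 → q ∣ orderOf v := fun v hv hv1 => by
      rcases (Nat.dvd_prime hq).1 (orderOf_dvd_of_pow_eq_one (hVe v hv)) with h | h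
      · exact absurd (orderOf_eq_one_iff.1 h) hv1
      · exact h ▸ dvd_rfl
    have main : ∀ (c d : ℕ), c.Prime → d.Prime → c ≠ d → q ≠ c → q ≠ d →
        (∀ z : G, orderOf z ≠ q * c) → (∀ z : G, orderOf z ≠ q * d) → (∀ z : G, orderOf z ≠ c * d) →
        ∀ (x : G) (Q : Subgroup G), orderOf x = c → IsPGroup d Q → Q ≠ ⊥ →
          x ∈ Subgroup.normalizer (Q : Set G) → False := by
      intro c d hc' hd' hcd hqc hqd m1 m2 m3 x Q hx hQ hQne hxn
      haveI := Fact.mk hd'
      have hdu : ∀ u ∈ Q, u ≠ 1 → d ∣ orderOf u := fun u hu hu1 => by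
        obtain ⟨k, hk⟩ := IsPGroup.iff_orderOf.1 hQ ⟨u, hu⟩
        rw [Subgroup.orderOf_mk] at hk
        rw [hk]
        refine dvd_pow_self d ?_
        rintro rfl
        exact hu1 (orderOf_eq_one_iff.1 (by simpa using hk))
      refine no_fpf hc' hd' ((Nat.coprime_primes hd' hq).2 hqd.symm) V hVne hc hVe x Q hx hQ hQne hxn
        ?_ ?_ ?_
      · intro v hv he
        by_contra hv1
        obtain ⟨z, hz⟩ := exists_orderOf_mul_of_conj hc' hq hqc.symm (hx ▸ dvd_rfl) (dV v hv hv1) he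
        exact m1 z (hz.trans (mul_comm _ _))
      · intro u hu hu1 v hv he
        by_contra hv1
        obtain ⟨z, hz⟩ := exists_orderOf_mul_of_conj hd' hq hqd.symm (hdu u hu hu1) (dV v hv hv1) he
        exact m2 z (hz.trans (mul_comm _ _))
      · intro u hu he
        by_contra hu1
        obtain ⟨z, hz⟩ := exists_orderOf_mul_of_conj hc' hd' hcd (hx ▸ dvd_rfl) (hdu u hu hu1) he
        exact m3 z hz
    haveI := Fact.mk ha
    haveI := Fact.mk hb
    rcases exists_normalized_subgroup hG hab hda hdb with ⟨x, Q, hx, hQ, hne, hxn⟩ | ⟨x, Q, hx, hQ, hne, hxn⟩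
    · exact main a b ha hb hab hqa hqb n1 n2 n3 x Q hx hQ hne hxn
    · exact main b a hb ha hab.symm hqb hqa n2 n1 (fun z h => n3 z (h.trans (mul_comm _ _))) x Q hx hQ hne hxn
  by_cases e1 : q = r
  · subst e1; exact key s t hs ht hst hrs hrt h2 h3
  by_cases e2 : q = s
  · subst e2
    rcases key r t hr ht hrt e1 hst h1 h3 with ⟨z, hz⟩ | h | h
    · exact Or.inl ⟨z, hz.trans (mul_comm _ _)⟩
    · exact Or.inr (Or.inr h)
    · exact Or.inr (Or.inl h)
  by_cases e3 : q = t
  · subst e3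
    rcases key r s hr hs hrs e1 e2 h1 h2 with ⟨z, hz⟩ | ⟨z, hz⟩ | h
    · exact Or.inr (Or.inl ⟨z, hz.trans (mul_comm _ _)⟩)
    · exact Or.inr (Or.inr ⟨z, hz.trans (mul_comm _ _)⟩)
    · exact Or.inl h
  -- otherwise lift from the quotient
  haveI := Fact.mk hq
  have hVq : IsPGroup q V := fun v => ⟨1, Subtype.ext (by simpa using hVe v v.2)⟩
  obtain ⟨e, he⟩ := hVq.exists_card_eq
  have hmul : Nat.card G = Nat.card (G ⧸ V) * Nat.card V := Subgroup.card_eq_card_quotient_mul_card_subgroup V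
  have hd : ∀ a : ℕ, a.Prime → ¬ q = a → a ∣ Nat.card G → a ∣ Nat.card (G ⧸ V) := by
    intro a ha hne hd
    rw [hmul, he] at hd
    rcases ha.dvd_mul.1 hd with h | h
    · exact h
    · exact absurd ((Nat.prime_dvd_prime_iff_eq ha hq).1 (ha.dvd_of_dvd_pow h)).symm hne
  have hlt : Nat.card (G ⧸ V) < Nat.card G := by
    rw [hmul]
    exact lt_mul_of_one_lt_right Nat.card_pos (Subgroup.one_lt_card_iff_ne_bot _ |>.2 hVne)
  have lift : ∀ m, (∃ z : G ⧸ V, orderOf z = m) → ∃ z : G, orderOf z = m := by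
    rintro m ⟨z, hz⟩
    obtain ⟨g, rfl⟩ := QuotientGroup.mk'_surjective V z
    obtain ⟨w, -, hw⟩ := exists_orderOf_map _ g hz
    exact ⟨w, hw⟩
  exact (ih _ hlt (G := G ⧸ V) inferInstance (hd r hr e1 h1) (hd s hs e2 h2) (hd t ht e3 h3) rfl).imp
    (lift _) (Or.imp (lift _) (lift _))

end H64
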