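import Cfsg.Agent.H64.Sp8Spectrum

/-!
Semidirect products of the rotation group `Ω⁻₈(q)`, `q` even, by copies of the natural module.
-/

set_option autoImplicit false

namespace H64

open H43

variable {V : Type*} [AddCommGroup V]

variable {F : Type*} [Field F] [Module F V] {Q : QuadraticForm F V}

/-- The additive action on `ι` copies of the natural module. -/
def copiesAut (Q : QuadraticForm F V) (R : Subgroup (orthGroup Q)) (ι : Type*) :
    R →* MulAut (Multiplicative (ι → V)) where
  toFun g := AddEquiv.toMultiplicative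
    { toFun := fun w k => g.1.1 (w k)
      invFun := fun w k => (g.1⁻¹).1 (w k)
      left_inv := fun w => funext fun k => orth_inv_apply_self g.1 (w k)
      right_inv := fun w => funext fun k => orth_apply_inv_self g.1 (w k)
      map_add' := fun w w' => funext fun k => map_add g.1.1 _ _ }
  map_one' := by ext w; rfl
  map_mul' g h := by ext w; rfl

/-- The semidirect product. -/
abbrev Affine (Q : QuadraticForm F V) (R : Subgroup (orthGroup Q)) (ι : Type*) :=
  Multiplicative (ι → V) ⋊[copiesAut Q R ι] R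

variable {R : Subgroup (orthGroup Q)} {ι : Type*}

theorem affine_pow (x : Affine Q R ι) (N : ℕ) :
    (x ^ N).right = x.right ^ N ∧
      Multiplicative.toAdd (x ^ N).left = fun k => ∑ i ∈ Finset.range N, ((x.right.1) ^ i).1 (Multiplicative.toAdd x.left k) := by
  induction N with
  | zero => exact ⟨rfl, funext fun k => by rw [Finset.sum_range_zero]; rfl⟩
  | succ N ih =>
    refine ⟨by rw [pow_succ, pow_succ, SemidirectProduct.mul_right, ih.1], funext fun k => ?_⟩
    rw [pow_succ, SemidirectProduct.mul_left, toAdd_mul, Pi.add_apply, ih.2, ih.1, Finset.sum_range_succ]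
    congr 1

theorem affine_pow_eq_one {x : Affine Q R ι} {N : ℕ} (h1 : x.right.1 ^ N = 1)
    (h2 : ∀ v : V, ∑ i ∈ Finset.range N, ((x.right.1) ^ i).1 v = 0) : x ^ N = 1 := by
  obtain ⟨hr, hl⟩ := affine_pow x N
  refine SemidirectProduct.ext (Multiplicative.toAdd.injective ?_) ?_
  · rw [hl]
    exact funext fun k => h2 _
  · rw [hr, SemidirectProduct.one_right]
    exact Subtype.ext h1

theorem exists_affine_double [CharP F 2] (g : R) (k : ι) {v : V}
    (hv : ∑ i ∈ Finset.range (orderOf g.1), (g.1 ^ i).1 v ≠ 0) (hfin : IsOfFinOrder g.1) :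
    ∃ x : Affine Q R ι, orderOf x = 2 * orderOf g.1 := by
  classical
  let x : Affine Q R ι := ⟨Multiplicative.ofAdd (Pi.single k v), g⟩
  refine ⟨x, ?_⟩
  have hd : orderOf g.1 ∣ orderOf x := by
    rw [orderOf_dvd_iff_pow_eq_one, ← Subgroup.coe_pow, show g = x.right from rfl, ← (affine_pow x _).1,
      pow_orderOf_eq_one]
    rfl
  have htwo : x ^ (2 * orderOf g.1) = 1 := by
    refine affine_pow_eq_one ?_ fun w => ?_
    · rw [pow_mul', pow_orderOf_eq_one, one_pow]
    · rw [two_mul, Finset.sum_range_add,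
        Finset.sum_congr rfl fun i _ => show
          ((x.right.1) ^ (orderOf g.1 + i)).1 w = ((x.right.1) ^ i).1 w by
            rw [show x.right.1 = g.1 from rfl, pow_add, pow_orderOf_eq_one, one_mul]]
      rw [← two_smul F, CharTwo.two_eq_zero, zero_smul]
  have hne : orderOf x ≠ orderOf g.1 := fun e => by
    obtain ⟨-, hl⟩ := affine_pow x (orderOf g.1)
    have h1 : x ^ orderOf g.1 = 1 := e ▸ pow_orderOf_eq_one x
    rw [h1] at hl
    have h2 := congrFun hl k
    simp [x] at h2
    refine hv ?_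
    rw [← Subgroup.orderOf_coe] at h2
    exact h2.symm
  obtain ⟨c, hc⟩ := hd
  have hdvd := orderOf_dvd_of_pow_eq_one htwo
  rw [hc, mul_comm 2] at hdvd
  rcases (Nat.dvd_prime Nat.prime_two).1 (Nat.dvd_of_mul_dvd_mul_left hfin.orderOf_pos hdvd) with rfl | rfl
  · exact absurd (by rw [hc, mul_one]) hne
  · rw [hc, mul_comm]

section Eight

variable [Fintype F] [DecidableEq F] [CharP F 2]
variable (a b : F) (han : ∀ z₁ z₂ : F, z₁ ^ 2 + a * z₁ * z₂ + b * z₂ ^ 2 = 0 → z₁ = 0 ∧ z₂ = 0)

/-- The underlying space. -/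
abbrev W8 (F : Type*) := (Fin 3 ⊕ Fin 3) ⊕ Fin 2 → F

omit [Fintype F] [DecidableEq F] [CharP F 2] in
theorem finrank_w8 : Module.finrank F (W8 F) = 8 := by
  rw [Module.finrank_pi]; rfl

include han in
theorem minus_closure : Subgroup.closure (reflSet (H44.minusForm 3 a b)) = ⊤ :=
  closure_reflSet (minusForm_nondeg a b han)
    (H44.reflGenerates_of_card (F := F) (V := W8 F) (Or.inr (by rw [finrank_w8]; norm_num)))

/-- The Dickson invariant as a homomorphism. -/
noncomputable def dicksonHom : orthGroup (H44.minusForm 3 a b) →* Multiplicative (ZMod 2) :=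
  MonoidHom.mk' dickson fun x y =>
    H44.dickson_mul_of_closure (Q := H44.minusForm 3 a b) (minusForm_nondeg a b han) (minus_closure a b han) x y

/-- The rotation group: the kernel of the Dickson invariant. -/
noncomputable def rotations : Subgroup (orthGroup (H44.minusForm 3 a b)) :=
  (dicksonHom a b han).ker

theorem mem_rotations (g : orthGroup (H44.minusForm 3 a b)) : g ∈ rotations a b han ↔ dickson g = 1 :=
  MonoidHom.mem_ker

theorem rotations_bound {g : orthGroup (H44.minusForm 3 a b)} (hg : g ∈ rotations a b han) :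
    ∃ N ∈ sp8List (Fintype.card F), g ^ N = 1 ∧ ∀ v, ∑ i ∈ Finset.range N, (g ^ i).1 v = 0 := by
  obtain ⟨Ψ, -, hch⟩ := exists_sp_hom (minusForm_nondeg a b han) (m := 4) (by simp [Module.finrank_pi])
  have hfin : Module.finrank F (W8 F) = 8 := finrank_w8
  obtain ⟨N, hN, h1, h2⟩ := sp8_bound hfin (g.1 : W8 F →ₗ[F] W8 F) (by
    rw [← hch g]; exact H48.SS.charpoly_inv_sp (Ψ g))
  rw [Nat.card_eq_fintype_card] at hN
  have hker : Module.finrank F (LinearMap.ker ((g.1 : W8 F →ₗ[F] W8 F) - 1)) ≠ 1 := by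
    have e : LinearMap.ker ((g.1 : W8 F →ₗ[F] W8 F) - 1) = LinearMap.ker (resMap g) := by
      ext x
      simp only [LinearMap.mem_ker, LinearMap.sub_apply, Module.End.one_apply, resMap_apply,
        LinearEquiv.coe_coe, sub_eq_zero]
      exact eq_comm
    have heven : Even (Module.finrank F (resid g)) := by
      rw [mem_rotations, H44.dickson_eq_one_iff_even] at hg
      exact hg
    have := LinearMap.finrank_range_add_finrank_ker (resMap g)
    rw [hfin] at this
    rw [e]
    obtain ⟨c, hc⟩ := heven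
    rw [resid] at hc
    omega
  refine ⟨N, hN, orth_ext fun v => ?_, fun v => ?_⟩
  · have := DFunLike.congr_fun h1 v
    rw [orth_pow_coe] at this
    exact this
  · have := DFunLike.congr_fun (h2 hker) v
    rw [LinearMap.sum_apply] at this
    simp only [orth_pow_coe] at this
    exact this

theorem transfer_uni {o : ℕ} (h : Uni F 4 (-1) o 1) :
    ∃ g ∈ rotations a b han, orderOf g = o ∧ Doub g := by
  obtain ⟨ι, i1, i2, Q, g, h1, h2, h3, h4, h5, h6⟩ := h
  obtain ⟨φ, hφ⟩ := exists_minus_iso h1 h2 h3 a b han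
  exact ⟨orthConj φ hφ g, (mem_rotations a b han _).2 ((orthConj_dickson φ hφ g).trans h5),
    (MulEquiv.orderOf_eq _ _).trans h4, orthConj_doub φ hφ h6⟩

theorem transfer_odd {o : ℕ} (h : Tor F 4 (-1) o) (ho : Odd o) :
    ∃ g ∈ rotations a b han, orderOf g = o := by
  obtain ⟨ι, i1, i2, Q, g, h1, h2, h3, h4⟩ := h
  obtain ⟨φ, hφ⟩ := exists_minus_iso h1 h2 h3 a b han
  have h' : orderOf (orthConj φ hφ g) = o := (MulEquiv.orderOf_eq _ _).trans h4
  refine ⟨orthConj φ hφ g, (mem_rotations a b han _).2 ?_, h'⟩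
  rcases H44.mulTwo_cases (dickson (orthConj φ hφ g)) with e | e
  · exact e
  exfalso
  let D := dicksonHom a b han
  have h0 : D (orthConj φ hφ g) ^ o = 1 := by rw [← map_pow, ← h', pow_orderOf_eq_one, map_one]
  obtain ⟨c, rfl⟩ := ho
  rw [show D (orthConj φ hφ g) = Multiplicative.ofAdd 1 from e, pow_succ, pow_mul, pow_two,
    H44.mulTwo_mul_self, one_pow, one_mul] at h0
  exact absurd h0 (by decide)

/-- The spectrum of the semidirect product is that of `Sp₈(q)`. -/
theorem range_affine (M : ℕ) :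
    Set.range (orderOf : Affine (H44.minusForm 3 a b) (rotations a b han) (Fin (M + 1)) → ℕ) =
      {o | Adm (Fintype.card F) o} := by
  classical
  haveI : Finite (orthGroup (H44.minusForm 3 a b)) := by
    obtain ⟨Ψ, hΨ, -⟩ := exists_sp_hom (minusForm_nondeg a b han) (m := 4) (by simp [Module.finrank_pi])
    exact Finite.of_injective Ψ hΨ
  ext o
  constructor
  · rintro ⟨x, rfl⟩
    obtain ⟨N, hN, h1, h2⟩ := rotations_bound a b han x.right.2
    exact ⟨N, hN, orderOf_dvd_of_pow_eq_one (affine_pow_eq_one h1 h2)⟩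
  · rintro ⟨N, hN, hd⟩
    have h0 : 0 < N := Nat.pos_of_ne_zero fun e => zero_notMem_sp8List Fintype.one_lt_card (e ▸ hN)
    suffices ∃ x : Affine (H44.minusForm 3 a b) (rotations a b han) (Fin (M + 1)), orderOf x = N by
      obtain ⟨x, rfl⟩ := this
      exact ⟨x ^ (orderOf x / o), orderOf_pow_orderOf_div h0.ne' hd⟩
    have hsemi : ∀ {m : ℕ}, Tor F 4 (-1) m → Odd m →
        ∃ x : Affine (H44.minusForm 3 a b) (rotations a b han) (Fin (M + 1)), orderOf x = m := by
      intro m h ho
      obtain ⟨g, hg, rfl⟩ := transfer_odd a b han h ho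
      exact ⟨SemidirectProduct.inr ⟨g, hg⟩, by
        rw [orderOf_injective SemidirectProduct.inr SemidirectProduct.inr_injective, Subgroup.orderOf_mk]⟩
    have hdoub : ∀ {m : ℕ}, Uni F 4 (-1) m 1 →
        ∃ x : Affine (H44.minusForm 3 a b) (rotations a b han) (Fin (M + 1)), orderOf x = 2 * m := by
      intro m h
      obtain ⟨g, hg, rfl, v, hv⟩ := transfer_uni a b han h
      exact exists_affine_double (⟨g, hg⟩ : rotations a b han) (0 : Fin (M + 1)) hv (isOfFinOrder_of_finite g)
    obtain ⟨s1, s2, s3, s4⟩ := tor_semisimple (F := F)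
    obtain ⟨u1, u2, u3, u4, u5, u6, u7, u8⟩ := uni_doubling (F := F)
    have he := even_card_field (F := F)
    set q := Fintype.card F
    have hp : ∀ k, 0 < k → Odd (q ^ k + 1) := fun k hk => (Nat.even_pow.2 ⟨he, hk.ne'⟩).add_one
    have hm : ∀ k, 0 < k → Odd (q ^ k - 1) := fun k hk =>
      Nat.Even.sub_odd (Nat.one_le_pow _ _ Fintype.card_pos) (Nat.even_pow.2 ⟨he, hk.ne'⟩) odd_one
    simp only [sp8List, List.mem_cons, List.not_mem_nil, or_false] at hN
    rcases hN with rfl | rfl | rfl | rfl | rfl | rfl | rfl | rfl | rfl | rfl | rfl | rfl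
    · exact hsemi s1 (hp 4 (by norm_num))
    · exact hsemi s2 (hm 4 (by norm_num))
    · exact hsemi s3 ((hp 3 three_pos).mul (by simpa using hm 1 one_pos))
    · exact hsemi s4 ((hm 3 three_pos).mul he.add_one)
    · exact hdoub u1
    · exact hdoub u2
    · exact hdoub u3
    · exact hdoub u4
    · simpa [← mul_assoc] using hdoub u5
    · simpa [← mul_assoc] using hdoub u6
    · simpa [← mul_assoc] using hdoub u7
    · simpa [← mul_assoc] using hdoub u8

theorem affine_large (M : ℕ) :
    M < Nat.card (Affine (H44.minusForm 3 a b) (rotations a b han) (Fin (M + 1))) := by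
  haveI : Finite (orthGroup (H44.minusForm 3 a b)) := by
    obtain ⟨Ψ, hΨ, -⟩ := exists_sp_hom (minusForm_nondeg a b han) (m := 4) (by simp [Module.finrank_pi])
    exact Finite.of_injective Ψ hΨ
  rw [SemidirectProduct.card, Nat.card_congr Multiplicative.toAdd, Nat.card_fun, Nat.card_fin]
  have h1 : 1 < Nat.card ((Fin 3 ⊕ Fin 3) ⊕ Fin 2 → F) := Finite.one_lt_card
  calc M < 2 ^ M := Nat.lt_two_pow_self
    _ ≤ 2 ^ (M + 1) := Nat.pow_le_pow_right two_pos (Nat.le_succ M)
    _ ≤ Nat.card ((Fin 3 ⊕ Fin 3) ⊕ Fin 2 → F) ^ (M + 1) := Nat.pow_le_pow_left h1 _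
    _ ≤ _ := Nat.le_mul_of_pos_right _ Nat.card_pos

end Eight

end H64
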