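import Mathlib
import Cfsg.Agent.H64.FpfSemidirect

/-! Minimal Frobenius groups `F_{p^k} ⋊ C_q`. -/

namespace H64

open SemidirectProduct

theorem frobAff_kernel_mem {K : Type*} [Field K] {m : ℕ} (z : FrobAff K m) (hz : z.right = 1) :
    z = inl z.left := SemidirectProduct.ext rfl hz

theorem exists_critical_factor (p q : ℕ) (hp : p.Prime) (hq : q.Prime) (hpq : p ≠ q) :
    ∃ (F : Type) (_ : Group F) (_ : Fintype F),
      Set.range (orderOf : F → ℕ) = {m | m = 1 ∨ m = p ∨ m = q} ∧
      (∀ x y : F, x ^ p = 1 → y ^ p = 1 → x * y = y * x) ∧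
      (∃ x y : F, orderOf x = q ∧ orderOf y = q ∧ x * y ≠ y * x) ∧
      (∀ H : Subgroup F, (∃ x ∈ H, orderOf x = p) → (∃ x ∈ H, orderOf x = q) → H = ⊤) ∧
      (∀ N : Subgroup F, N.Normal → N ≠ ⊥ → ∀ x : F, x ^ p = 1 → x ∈ N) := by
  classical
  haveI := Fact.mk hp
  haveI := Fact.mk hq
  have hp0 : (p : ZMod q) ≠ 0 := by
    rw [Ne, CharP.cast_eq_zero_iff (ZMod q) q]
    exact fun h => hpq ((Nat.prime_dvd_prime_iff_eq hq hp).1 h).symm
  set k := orderOf (p : ZMod q) with hk
  have hk0 : 0 < k := Nat.pos_of_dvd_of_pos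
    (orderOf_dvd_of_pow_eq_one (ZMod.pow_card_sub_one_eq_one hp0)) (Nat.sub_pos_of_lt hq.one_lt)
  let K := GaloisField p k
  letI : Fintype K := Fintype.ofFinite K
  have hK : Fintype.card K = p ^ k := by
    rw [← Nat.card_eq_fintype_card, GaloisField.card p k hk0.ne']
  have hdvd : q ∣ Fintype.card K - 1 := by
    rw [hK, ← CharP.cast_eq_zero_iff (ZMod q) q, Nat.cast_sub (Nat.one_le_pow _ _ hp.pos), Nat.cast_pow,
      Nat.cast_one, pow_orderOf_eq_one, sub_self]
  haveI : Finite (FrobAff K q) := Finite.of_equiv _ equivProd.symm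
  letI : Fintype (FrobAff K q) := Fintype.ofFinite _
  have hexp : ∀ v : Multiplicative K, v ^ p = 1 := fun v => by
    refine Multiplicative.toAdd.injective ?_
    rw [toAdd_pow, toAdd_one, nsmul_eq_mul, CharP.cast_eq_zero, zero_mul]
  have hcop : Nat.Coprime p q := (Nat.coprime_primes hp hq).2 hpq
  have hker : ∀ x : FrobAff K q, x ^ p = 1 → x.right = 1 := by
    intro x hx
    have h1 : x.right ^ p = 1 := by
      rw [← rightHom_eq_right, ← map_pow, hx, map_one]
    have h2 : x.right ^ q = 1 := Subtype.ext ((mem_rootsOfUnity q _).1 x.right.2)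
    exact orderOf_eq_one_iff.1 (Nat.eq_one_of_dvd_coprimes hcop (orderOf_dvd_of_pow_eq_one h1)
      (orderOf_dvd_of_pow_eq_one h2))
  have hact : ∀ (g : rootsOfUnity q K) (a : K),
      rootsAct K q g (Multiplicative.ofAdd a) = Multiplicative.ofAdd (((g : Kˣ) : K) * a) := fun _ _ => rfl
  have hfpf : ∀ g : rootsOfUnity q K, g ≠ 1 → ∀ w : Multiplicative K, rootsAct K q g w = w → w = 1 := by
    intro g hg w hw
    have e : ((g : Kˣ) : K) * w.toAdd = w.toAdd := congrArg Multiplicative.toAdd hw
    by_contra hw1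
    exact hg (Subtype.ext (Units.ext (mul_right_cancel₀
      (fun h : w.toAdd = 0 => hw1 (Multiplicative.toAdd.injective h)) (e.trans (one_mul _).symm))))
  -- a subgroup invariant under a nontrivial root of unity
  have key : ∀ (H : Subgroup (FrobAff K q)) (x : FrobAff K q), x.right ≠ 1 →
      (∀ v : Multiplicative K, (inl v : FrobAff K q) ∈ H → x * inl v * x⁻¹ ∈ H) →
      (∃ v : Multiplicative K, v ≠ 1 ∧ (inl v : FrobAff K q) ∈ H) →
      ∀ v : Multiplicative K, (inl v : FrobAff K q) ∈ H := by
    intro H x hx hinv hex v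
    obtain ⟨w, hw, hwH⟩ := hex
    let S : AddSubgroup K := (H.comap (inl : Multiplicative K →* FrobAff K q)).toAddSubgroup'
    have hS : ∀ a : K, a ∈ S ↔ (inl (Multiplicative.ofAdd a) : FrobAff K q) ∈ H := fun a => Iff.rfl
    let R : Subring K :=
      { carrier := {c | ∀ a ∈ S, c * a ∈ S}
        one_mem' := fun a ha => by rwa [one_mul]
        mul_mem' := fun {c d} hc hd a ha => by rw [mul_assoc]; exact hc _ (hd _ ha)
        zero_mem' := fun a _ => by rw [zero_mul]; exact S.zero_mem
        add_mem' := fun {c d} hc hd a ha => by rw [add_mul]; exact S.add_mem (hc _ ha) (hd _ ha)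
        neg_mem' := fun {c} hc a ha => by rw [neg_mul]; exact S.neg_mem (hc _ ha) }
    set ζ : K := ((x.right : Kˣ) : K) with hζ
    have hζR : ζ ∈ R := by
      intro a ha
      rw [hS] at ha ⊢
      have h := hinv _ ha
      have e : x * inl (Multiplicative.ofAdd a) * x⁻¹ = inl (Multiplicative.ofAdd (ζ * a)) := by
        rw [mul_inv_eq_iff_eq_mul]
        refine SemidirectProduct.ext ?_ ?_
        · rw [mul_left, mul_left, left_inl, left_inl, right_inl, map_one, MulAut.one_apply, hact,
            mul_comm]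
        · rw [mul_right, mul_right, right_inl, mul_one, right_inl, one_mul]
      rwa [e] at h
    haveI : Fintype R := Fintype.ofFinite R
    obtain ⟨d, hd, hcard⟩ : ∃ d ≤ k, Nat.card R = p ^ d := by
      refine (Nat.dvd_prime_pow hp).1 ?_
      rw [← hK, ← Nat.card_eq_fintype_card]
      exact AddSubgroup.card_addSubgroup_dvd_card R.toAddSubgroup
    have hζ0 : (⟨ζ, hζR⟩ : R) ≠ 0 := fun h => (x.right : Kˣ).ne_zero (congrArg Subtype.val h)
    letI : Field R := Fintype.fieldOfDomain R
    have h1 := FiniteField.pow_card_sub_one_eq_one (⟨ζ, hζR⟩ : R) hζ0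
    rw [← Nat.card_eq_fintype_card, hcard] at h1
    have h2 : x.right ^ (p ^ d - 1) = 1 := Subtype.ext (Units.ext (by
      have := congrArg Subtype.val h1
      simpa [hζ] using this))
    have h3 : q ∣ p ^ d - 1 := by
      have hq' : x.right ^ q = 1 := Subtype.ext ((mem_rootsOfUnity q _).1 x.right.2)
      rw [← orderOf_eq_prime hq' hx]
      exact orderOf_dvd_of_pow_eq_one h2
    have h4 : k ∣ d := by
      refine orderOf_dvd_of_pow_eq_one ?_
      rw [← CharP.cast_eq_zero_iff (ZMod q) q, Nat.cast_sub (Nat.one_le_pow _ _ hp.pos), Nat.cast_pow,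
        Nat.cast_one, sub_eq_zero] at h3
      exact h3
    have h5 : d = k := by
      refine le_antisymm hd (Nat.le_of_dvd ?_ h4)
      by_contra hd0
      rw [Nat.eq_zero_of_not_pos hd0, pow_zero] at hcard
      haveI : Subsingleton R := (Nat.card_eq_one_iff_unique.1 hcard).1
      exact zero_ne_one (Subsingleton.elim (0 : R) 1)
    have hR : ∀ c : K, c ∈ R := by
      intro c
      have hb : Function.Bijective (Subtype.val : R → K) :=
        (Fintype.bijective_iff_injective_and_card _).2 ⟨Subtype.val_injective, by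
          rw [← Nat.card_eq_fintype_card, hcard, hK, h5]⟩
      obtain ⟨r, rfl⟩ := hb.2 c
      exact r.2
    have hw0 : w.toAdd ≠ 0 := fun h => hw (Multiplicative.toAdd.injective h)
    have hv := hR (v.toAdd / w.toAdd) w.toAdd hwH
    rw [div_mul_cancel₀ _ hw0] at hv
    exact hv
  have hp1 : ∀ x : FrobAff K q, orderOf x = p → x.right = 1 ∧ x.left ≠ 1 := by
    intro x hx
    have h1 := hker x (orderOf_dvd_iff_pow_eq_one.1 (dvd_of_eq hx))
    refine ⟨h1, fun h => ?_⟩
    rw [show x = 1 from SemidirectProduct.ext h h1, orderOf_one] at hx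
    exact hp.ne_one hx.symm
  obtain ⟨ζ, hζ⟩ : ∃ ζ : rootsOfUnity q K, ζ ≠ 1 := by
    obtain ⟨u, hu⟩ := exists_prime_orderOf_dvd_card' (G := Kˣ) q
      (by rw [Nat.card_units, Nat.card_eq_fintype_card]; exact hdvd)
    refine ⟨⟨u, (mem_rootsOfUnity q u).2 (hu ▸ pow_orderOf_eq_one u)⟩, fun h => ?_⟩
    have h' : u = 1 := congrArg Subtype.val h
    rw [h', orderOf_one] at hu
    exact hq.ne_one hu.symm
  have hqord : ∀ x : FrobAff K q, x.right ≠ 1 → orderOf x = q := fun x hx => by
    rw [semidirect_orderOf_of_fpf _ x (hfpf _ hx)]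
    exact orderOf_eq_prime (Subtype.ext ((mem_rootsOfUnity q _).1 x.right.2)) hx
  refine ⟨FrobAff K q, inferInstance, inferInstance, ?_, ?_, ?_, ?_, ?_⟩
  · rw [frobAff_spectrum K p q hq.pos hdvd]
    ext m
    simp only [Set.mem_setOf_eq, Nat.dvd_prime hp, Nat.dvd_prime hq]
    tauto
  · intro x y hx hy
    rw [frobAff_kernel_mem x (hker x hx), frobAff_kernel_mem y (hker y hy), ← map_mul, ← map_mul,
      mul_comm]
  · refine ⟨inr ζ, inl (Multiplicative.ofAdd (1 : K)) * inr ζ, hqord _ (by simpa using hζ),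
      hqord _ (by simpa using hζ), fun h => ?_⟩
    have h1 := congrArg SemidirectProduct.left h
    simp only [mul_left, left_inl, left_inr, right_inl, right_inr, map_one, MulAut.one_apply,
      mul_one, one_mul, map_mul] at h1
    rw [hact, mul_one] at h1
    exact hζ (Subtype.ext (Units.ext (Multiplicative.ofAdd.injective h1)))
  · rintro H ⟨x, hxH, hx⟩ ⟨y, hyH, hy⟩
    have hy1 : y.right ≠ 1 := by
      intro h
      have h1 : orderOf y ∣ p := orderOf_dvd_of_pow_eq_one (semidirect_pow_of_right_eq_one _ y p hexp h)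
      rw [hy] at h1
      exact hpq ((Nat.prime_dvd_prime_iff_eq hq hp).1 h1).symm
    obtain ⟨hx1, hxl⟩ := hp1 x hx
    have hinl := key H y hy1 (fun v hv => H.mul_mem (H.mul_mem hyH hv) (H.inv_mem hyH))
      ⟨x.left, hxl, frobAff_kernel_mem x hx1 ▸ hxH⟩
    rw [eq_top_iff]
    intro z _
    have hq' : y.right ^ q = 1 := Subtype.ext ((mem_rootsOfUnity q _).1 y.right.2)
    have hgen : z.right ∈ Subgroup.zpowers y.right := by
      have hle : Nat.card (rootsOfUnity q K) ≤ q := by
        haveI : NeZero q := ⟨hq.ne_zero⟩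
        exact card_rootsOfUnity K q
      have htop : Subgroup.zpowers y.right = ⊤ := by
        refine Subgroup.eq_top_of_card_eq _ (le_antisymm (Subgroup.card_le_card_group _) ?_)
        rw [Nat.card_zpowers, orderOf_eq_prime hq' hy1]
        exact hle
      rw [htop]; trivial
    obtain ⟨i, hi⟩ := hgen
    have hyi : (y ^ i).right = z.right := by
      rw [← rightHom_eq_right, map_zpow]; exact hi
    have hz : (z * (y ^ i)⁻¹).right = 1 := by
      rw [← rightHom_eq_right, map_mul, map_inv, rightHom_eq_right, hyi,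
        mul_inv_cancel]
    have := H.mul_mem (hinl (z * (y ^ i)⁻¹).left) (H.zpow_mem hyH i)
    rw [← frobAff_kernel_mem _ hz, inv_mul_cancel_right] at this
    exact this
  · intro N hN hne x hx
    rw [frobAff_kernel_mem x (hker x hx)]
    refine key N (inr ζ) (by simpa using hζ) (fun v hv => hN.conj_mem _ hv _) ?_ _
    obtain ⟨z, hz, hz1⟩ := N.bot_or_exists_ne_one.resolve_left hne
    by_cases hzr : z.right = 1
    · refine ⟨z.left, fun h => hz1 (SemidirectProduct.ext h hzr), ?_⟩
      rwa [← frobAff_kernel_mem z hzr]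
    · set w : Multiplicative K := Multiplicative.ofAdd (1 : K) with hw
      set c := (inl w : FrobAff K q) * z * (inl w)⁻¹ * z⁻¹ with hc
      have hcN : c ∈ N := N.mul_mem (hN.conj_mem z hz _) (N.inv_mem hz)
      have hcr : c.right = 1 := by
        rw [hc, ← rightHom_eq_right, map_mul, map_mul, map_mul, map_inv, map_inv, rightHom_inl]; group
      refine ⟨c.left, fun h => ?_, by rwa [← frobAff_kernel_mem c hcr]⟩
      have h1 : c = 1 := SemidirectProduct.ext h hcr
      have h2 : (inl w : FrobAff K q) * z = z * inl w := by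
        rw [hc, mul_inv_eq_one, mul_inv_eq_iff_eq_mul] at h1
        exact h1
      have h3 := congrArg SemidirectProduct.left h2
      simp only [mul_left, left_inl, right_inl, map_one, MulAut.one_apply] at h3
      rw [mul_comm w, mul_right_inj] at h3
      exact one_ne_zero (Multiplicative.ofAdd.injective (hfpf _ hzr w h3.symm))

end H64
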