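import Mathlib
import Cfsg.Agent.H64.CriticalFactor
import Cfsg.Agent.H64.ThreePrimes

/-! Products of minimal Frobenius groups are critical for their spectrum. -/

namespace H64

/-- Products choosing one of `1, p j 0, p j 1` for each `j`. -/
def omegaSet {s : ℕ} (p : Fin s → Fin 2 → ℕ) : Set ℕ :=
  {m : ℕ | ∃ c : Fin s → ℕ, (∀ j, c j = 1 ∨ c j = p j 0 ∨ c j = p j 1) ∧ m = ∏ j, c j}

variable {s : ℕ} {p : Fin s → Fin 2 → ℕ} (hp : ∀ j i, (p j i).Prime)
  (hinj : ∀ j i j' i', p j i = p j' i' → j = j' ∧ i = i')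

include hp hinj in
theorem omega_coprime {c : Fin s → ℕ} (hc : ∀ j, c j = 1 ∨ c j = p j 0 ∨ c j = p j 1) :
    Pairwise fun j j' => Nat.Coprime (c j) (c j') := by
  intro j j' hne
  have h : ∀ i i', Nat.Coprime (p j i) (p j' i') := fun i i' =>
    (Nat.coprime_primes (hp _ _) (hp _ _)).2 fun e => hne (hinj _ _ _ _ e).1
  show Nat.Coprime (c j) (c j')
  rcases hc j with e | e | e <;> rcases hc j' with e' | e' | e' <;> rw [e, e'] <;>
    first | exact h _ _ | exact Nat.coprime_one_left _ | exact Nat.coprime_one_right _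

theorem prod_dvd_of_coprime_nat {ι : Type*} [DecidableEq ι] (t : Finset ι) (c : ι → ℕ) (m : ℕ)
    (hco : Pairwise fun i j => Nat.Coprime (c i) (c j)) (h : ∀ i ∈ t, c i ∣ m) : ∏ i ∈ t, c i ∣ m := by
  induction t using Finset.induction with
  | empty => simp
  | insert a t ha ih =>
    rw [Finset.prod_insert ha]
    refine Nat.Coprime.mul_dvd_of_dvd_of_dvd ?_ (h a (Finset.mem_insert_self a t))
      (ih fun i hi => h i (Finset.mem_insert_of_mem hi))
    exact Nat.Coprime.prod_right fun i hi => hco (fun e => ha (e ▸ hi))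

include hp hinj in
/-- Orders in a product of groups with spectra `{1, p j 0, p j 1}`. -/
theorem pi_orderOf {F : Fin s → Type*} [∀ j, Group (F j)]
    (hF : ∀ j, ∀ x : F j, orderOf x = 1 ∨ orderOf x = p j 0 ∨ orderOf x = p j 1) (x : ∀ j, F j) :
    orderOf x = ∏ j, orderOf (x j) := by
  refine Nat.dvd_antisymm (orderOf_dvd_of_pow_eq_one (funext fun j => ?_)) ?_
  · exact orderOf_dvd_iff_pow_eq_one.1 (Finset.dvd_prod_of_mem _ (Finset.mem_univ j))
  · exact prod_dvd_of_coprime_nat _ _ _ (omega_coprime hp hinj fun j => hF j (x j))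
      fun j _ => orderOf_map_dvd (Pi.evalMonoidHom F j) x

include hp hinj in
/-- An element of prime order lies in a single factor. -/
theorem pi_single_of_prime {F : Fin s → Type*} [∀ j, Group (F j)]
    (hF : ∀ j, ∀ x : F j, orderOf x = 1 ∨ orderOf x = p j 0 ∨ orderOf x = p j 1) (x : ∀ j, F j)
    (j : Fin s) (i : Fin 2) (hx : orderOf x = p j i) :
    x = Pi.mulSingle j (x j) ∧ orderOf (x j) = p j i := by
  have hd : ∀ j', orderOf (x j') ∣ p j i := fun j' => hx ▸ orderOf_map_dvd (Pi.evalMonoidHom F j') x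
  have h1 : ∀ j', j' ≠ j → x j' = 1 := by
    intro j' hne
    rw [← orderOf_eq_one_iff]
    rcases (Nat.dvd_prime (hp j i)).1 (hd j') with h | h
    · exact h
    · rcases hF j' (x j') with e | e | e
      · exact e
      · exact absurd (hinj _ _ _ _ (e.symm.trans h)).1 hne
      · exact absurd (hinj _ _ _ _ (e.symm.trans h)).1 hne
  have h2 : x = Pi.mulSingle j (x j) := by
    funext j'
    rcases eq_or_ne j' j with rfl | hne
    · rw [Pi.mulSingle_eq_same]
    · rw [Pi.mulSingle_eq_of_ne hne, h1 j' hne]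
  refine ⟨h2, ?_⟩
  conv_rhs => rw [← hx, h2]
  exact (orderOf_injective (MonoidHom.mulSingle F j) (Pi.mulSingle_injective j) (x j)).symm

include hp hinj in
theorem critical_groups :
    ∃ (G : (Fin s → Fin 2) → Type) (_ : ∀ a, Group (G a)) (_ : ∀ a, Fintype (G a)),
      (∀ a b, a ≠ b → ¬ Nonempty (G a ≃* G b)) ∧
      ∀ a, Set.range (orderOf : (G a) → ℕ) = omegaSet p ∧
      ∀ (H : Subgroup (G a)) (N : Subgroup ↥H) [N.Normal], (H ≠ ⊤ ∨ N ≠ ⊥) →
        Set.range (orderOf : (↥H ⧸ N) → ℕ) ≠ omegaSet p := by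
  classical
  have hne : ∀ j (i : Fin 2), p j i ≠ p j i.rev := fun j i e => by
    have := (hinj _ _ _ _ e).2
    fin_cases i <;> simp [Fin.rev] at this
  have hsel : ∀ j (i : Fin 2) m,
      (m = 1 ∨ m = p j i ∨ m = p j i.rev) ↔ (m = 1 ∨ m = p j 0 ∨ m = p j 1) := fun j i m => by
    fin_cases i <;> simp [Fin.rev] <;> tauto
  have hex := fun (j : Fin s) (i : Fin 2) =>
    exists_critical_factor (p j i) (p j i.rev) (hp _ _) (hp _ _) (hne j i)
  choose Fc grp fin hspec hcomm hnc hgen hnorm using hex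
  let G : (Fin s → Fin 2) → Type := fun a => ∀ j, Fc j (a j)
  letI : ∀ a, Group (G a) := fun a => @Pi.group _ _ (fun j => grp j (a j))
  haveI hfin : ∀ a, Finite (G a) := fun a => @Pi.finite _ _ _ (fun j => @Finite.of_fintype _ (fin j (a j)))
  refine ⟨G, inferInstance, fun a => @Fintype.ofFinite _ (hfin a), ?_, ?_⟩
  · intro a b hab he
    obtain ⟨e⟩ := he
    letI : ∀ j, Group (Fc j (a j)) := fun j => grp j (a j)
    letI : ∀ j, Group (Fc j (b j)) := fun j => grp j (b j)
    obtain ⟨j, hj⟩ := Function.ne_iff.1 hab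
    have hrev : (b j).rev = a j := by
      revert hj; generalize a j = x; generalize b j = y; revert x y; decide
    obtain ⟨x, y, hx, hy, hxy⟩ := hnc j (b j)
    rw [hrev] at hx hy
    have hFa : ∀ j', ∀ z : Fc j' (a j'), orderOf z = 1 ∨ orderOf z = p j' 0 ∨ orderOf z = p j' 1 := by
      intro j' z
      exact (hsel j' (a j') _).1 ((hspec j' (a j')).subset (Set.mem_range_self z))
    let x' := e.symm (Pi.mulSingle (M := fun j => Fc j (b j)) j x)
    let y' := e.symm (Pi.mulSingle (M := fun j => Fc j (b j)) j y)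
    have ox : orderOf x' = p j (a j) := by
      rw [← hx]
      exact (MulEquiv.orderOf_eq e.symm _).trans (orderOf_injective (MonoidHom.mulSingle (fun j => Fc j (b j)) j) (Pi.mulSingle_injective (M := fun j => Fc j (b j)) j) x)
    have oy : orderOf y' = p j (a j) := by
      rw [← hy]
      exact (MulEquiv.orderOf_eq e.symm _).trans (orderOf_injective (MonoidHom.mulSingle (fun j => Fc j (b j)) j) (Pi.mulSingle_injective (M := fun j => Fc j (b j)) j) y)
    obtain ⟨ex, ox'⟩ := pi_single_of_prime hp hinj hFa x' j (a j) ox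
    obtain ⟨ey, oy'⟩ := pi_single_of_prime hp hinj hFa y' j (a j) oy
    have hc : x' * y' = y' * x' := by
      rw [ex, ey, ← Pi.mulSingle_mul, ← Pi.mulSingle_mul,
        hcomm j (a j) _ _ (orderOf_dvd_iff_pow_eq_one.1 (dvd_of_eq ox'))
          (orderOf_dvd_iff_pow_eq_one.1 (dvd_of_eq oy'))]
    have hc2 := congrArg e hc
    simp only [map_mul, x', y', MulEquiv.apply_symm_apply] at hc2
    rw [← Pi.mulSingle_mul, ← Pi.mulSingle_mul] at hc2
    exact hxy (Pi.mulSingle_injective j hc2)
  intro a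
  letI : ∀ j, Group (Fc j (a j)) := fun j => grp j (a j)
  have hFa : ∀ j', ∀ z : Fc j' (a j'), orderOf z = 1 ∨ orderOf z = p j' 0 ∨ orderOf z = p j' 1 := by
    intro j' z
    exact (hsel j' (a j') _).1 ((hspec j' (a j')).subset (Set.mem_range_self z))
  have hspecG : Set.range (orderOf : G a → ℕ) = omegaSet p := by
    ext m
    constructor
    · rintro ⟨x, rfl⟩
      exact ⟨fun j => orderOf (x j), fun j => hFa j (x j), pi_orderOf hp hinj hFa x⟩
    · rintro ⟨c, hc, rfl⟩
      have : ∀ j, ∃ z : Fc j (a j), orderOf z = c j := by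
        intro j
        refine (hspec j (a j)).superset ?_
        exact (hsel j (a j) _).2 (hc j)
      choose z hz using this
      refine ⟨z, ?_⟩
      rw [pi_orderOf hp hinj hFa z]
      exact Finset.prod_congr rfl fun j _ => hz j
  refine ⟨hspecG, fun H N hN hprop heq => ?_⟩
  haveI : Finite (G a) := hfin a
  -- each prime is realised by an element of a single factor lying in `H` and not in `N`
  have hpre : ∀ j i, ∃ y : Fc j (a j), orderOf y = p j i ∧
      ∃ hy : (Pi.mulSingle j y : G a) ∈ H, (⟨_, hy⟩ : H) ∉ N := by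
    intro j i
    have hmem : p j i ∈ omegaSet p := by
      refine ⟨Function.update (fun _ => 1) j (p j i), fun j' => ?_, ?_⟩
      · rcases eq_or_ne j' j with rfl | hne'
        · rw [Function.update_self]; fin_cases i <;> simp
        · rw [Function.update_of_ne hne']; exact Or.inl rfl
      · rw [Finset.prod_update_of_mem (Finset.mem_univ j)]; simp
    rw [← heq] at hmem
    obtain ⟨z, hz⟩ := hmem
    obtain ⟨g, rfl⟩ := QuotientGroup.mk_surjective z
    have hdvd : p j i ∣ orderOf g := hz ▸ orderOf_map_dvd (QuotientGroup.mk' N) g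
    have hgG : orderOf g ∈ omegaSet p := by
      rw [← hspecG, ← Subgroup.orderOf_coe]; exact Set.mem_range_self _
    obtain ⟨m, hm⟩ := hdvd
    have hnd : ¬ p j i ∣ m := by
      obtain ⟨c, hc, hcm⟩ := hgG
      intro hd
      obtain ⟨m', rfl⟩ := hd
      have hsq : p j i * p j i ∣ ∏ j, c j := ⟨m', by rw [← hcm, hm]; ring⟩
      rw [← Finset.mul_prod_erase _ _ (Finset.mem_univ j)] at hsq
      have hco : Nat.Coprime (p j i * p j i) (∏ x ∈ Finset.univ.erase j, c x) := by
        refine Nat.Coprime.prod_right fun j' hj' => ?_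
        have hne' := (Finset.mem_erase.1 hj').1
        refine Nat.Coprime.mul_left ?_ ?_ <;>
        · rcases hc j' with e | e | e <;> rw [e] <;>
            first | exact Nat.coprime_one_right _ | exact (Nat.coprime_primes (hp _ _) (hp _ _)).2 fun e' => hne' (hinj _ _ _ _ e').1.symm
      have h := hco.dvd_of_dvd_mul_right hsq
      have hle := Nat.le_of_dvd (by rcases hc j with e | e | e <;> rw [e] <;> simp [(hp j _).pos]) h
      have h2 := (hp j i).two_le
      have hdv : p j i ∣ c j := (Dvd.intro _ rfl).trans h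
      rcases hc j with e | e | e <;> rw [e] at hle hdv
      · exact (hp j i).not_dvd_one hdv
      all_goals
        have := (Nat.prime_dvd_prime_iff_eq (hp j i) (hp _ _)).1 hdv
        rw [← this] at hle
        nlinarith
    have hm0 : 0 < m := by
      rcases Nat.eq_zero_or_pos m with h | h
      · exact absurd (h ▸ dvd_zero _) hnd
      · exact h
    have ho : orderOf (g ^ m) = p j i := by
      rw [orderOf_pow_of_dvd hm0.ne' (hm ▸ Dvd.intro_left _ rfl), hm, Nat.mul_div_cancel _ hm0]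
    have hnot : g ^ m ∉ N := by
      intro h
      have h1 : (QuotientGroup.mk g : ↥H ⧸ N) ^ m = 1 := by
        rw [← QuotientGroup.mk_pow]; exact (QuotientGroup.eq_one_iff _).2 h
      exact hnd (hz ▸ orderOf_dvd_of_pow_eq_one h1)
    obtain ⟨e, oe⟩ := pi_single_of_prime hp hinj hFa ((g ^ m : H) : G a) j i
      (by rw [Subgroup.orderOf_coe, ho])
    refine ⟨_, oe, e ▸ (g ^ m).2, fun h => hnot ?_⟩
    convert h using 1
    exact Subtype.ext e
  have hall : ∀ j, ∀ y : Fc j (a j), (Pi.mulSingle j y : G a) ∈ H := by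
    intro j y
    have htop : H.comap (MonoidHom.mulSingle (fun j => Fc j (a j)) j) = ⊤ := by
      obtain ⟨y1, h1, hy1, -⟩ := hpre j (a j)
      obtain ⟨y2, h2, hy2, -⟩ := hpre j (a j).rev
      exact hgen j (a j) _ ⟨y1, hy1, h1⟩ ⟨y2, hy2, h2⟩
    have hy : y ∈ H.comap (MonoidHom.mulSingle (fun j => Fc j (a j)) j) := by rw [htop]; trivial
    exact hy
  have hH : H = ⊤ := eq_top_iff.2 fun x _ => Subgroup.pi_mem_of_mulSingle_mem x fun j => hall j (x j)
  rcases hprop with h | h
  · exact h hH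
  obtain ⟨⟨x, hxH⟩, hxN, hx1⟩ := N.bot_or_exists_ne_one.resolve_left h
  obtain ⟨r, hr, hrd⟩ := Nat.exists_prime_and_dvd (n := orderOf (⟨x, hxH⟩ : H))
    (fun e => hx1 (orderOf_eq_one_iff.1 e))
  obtain ⟨z, hz, hzo⟩ := exists_orderOf_of_dvd (⟨x, hxH⟩ : H) hrd
  have hzN : z ∈ N := Subgroup.zpowers_le.2 hxN hz
  obtain ⟨c, hc, hcm⟩ : orderOf (z : G a) ∈ omegaSet p := hspecG ▸ Set.mem_range_self _
  obtain ⟨j, i, hji⟩ : ∃ j i, r = p j i := by
    rw [Subgroup.orderOf_coe, hzo] at hcm
    obtain ⟨j, -, hj⟩ := (Prime.dvd_finset_prod_iff hr.prime c).1 (dvd_of_eq hcm)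
    rcases hc j with e | e | e <;> rw [e] at hj
    · exact absurd hj hr.not_dvd_one
    · exact ⟨j, 0, (Nat.prime_dvd_prime_iff_eq hr (hp _ _)).1 hj⟩
    · exact ⟨j, 1, (Nat.prime_dvd_prime_iff_eq hr (hp _ _)).1 hj⟩
  obtain ⟨ze, zo⟩ := pi_single_of_prime hp hinj hFa (z : G a) j i (by rw [Subgroup.orderOf_coe, hzo, hji])
  let f : Fc j (a j) →* H := (MonoidHom.mulSingle (fun j => Fc j (a j)) j).codRestrict H (hall j)
  have hne' : N.comap f ≠ ⊥ := by
    intro hb
    have hm : (z : G a) j ∈ N.comap f := by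
      show f ((z : G a) j) ∈ N
      convert hzN using 1
      exact Subtype.ext ze.symm
    rw [hb, Subgroup.mem_bot] at hm
    rw [hm, orderOf_one] at zo
    exact (hp j i).ne_one zo.symm
  obtain ⟨y, hy, hyH, hyN⟩ := hpre j (a j)
  exact hyN (hnorm j (a j) _ (hN.comap f) hne' y (orderOf_dvd_iff_pow_eq_one.1 (dvd_of_eq hy)))

end H64
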