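import Cfsg.Agent.H32.JordanR
import Cfsg.Agent.H16.OddOrder
import Cfsg.Agent.H85.BrauerSuzuki
import Cfsg.Agent.H66.Inverted

/-!
Hall's theorem: a 4-fold transitive group of degree at least 8 in which the stabiliser of four
points has odd order is sharply 4-fold transitive.
-/

set_option autoImplicit false
set_option linter.unusedSectionVars false
set_option linter.style.haveILetI false

namespace H64.FourOdd

open MulAction Equiv

variable {α : Type*} [Fintype α] [DecidableEq α]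

/-- Fixed points. -/
def fx (g : Perm α) : Finset α := g.supportᶜ

theorem mem_fx {g : Perm α} {x : α} : x ∈ fx g ↔ g x = x := by
  simp [fx]

/-- Pointwise stabiliser inside `G`. -/
def fixG (G : Subgroup (Perm α)) (S : Finset α) : Subgroup (Perm α) where
  carrier := {g | g ∈ G ∧ ∀ x ∈ S, g x = x}
  one_mem' := ⟨one_mem G, fun _ _ => rfl⟩
  mul_mem' {a b} ha hb := ⟨mul_mem ha.1 hb.1, fun x hx => by rw [Perm.mul_apply, hb.2 x hx, ha.2 x hx]⟩
  inv_mem' {a} ha := ⟨inv_mem ha.1, fun x hx => by rw [Perm.inv_eq_iff_eq, ha.2 x hx]⟩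

theorem mem_fixG {G : Subgroup (Perm α)} {S : Finset α} {g : Perm α} :
    g ∈ fixG G S ↔ g ∈ G ∧ ∀ x ∈ S, g x = x := Iff.rfl

/-- The permutations preserving a set. -/
def setStab (T : Finset α) : Subgroup (Perm α) where
  carrier := {g | ∀ x, g x ∈ T ↔ x ∈ T}
  one_mem' := fun _ => Iff.rfl
  mul_mem' {a b} ha hb := fun x => (ha (b x)).trans (hb x)
  inv_mem' {a} ha := fun x => by simpa using (ha (a⁻¹ x)).symm

theorem inv_self (g : Perm α) (a : α) : g⁻¹ (g a) = a := g.symm_apply_apply a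

theorem self_inv (g : Perm α) (a : α) : g (g⁻¹ a) = a := g.apply_symm_apply a

/-- Four distinct points. -/
def D4 (a b c d : α) : Prop := a ≠ b ∧ a ≠ c ∧ a ≠ d ∧ b ≠ c ∧ b ≠ d ∧ c ≠ d

theorem d4_card {a b c d : α} (h : D4 a b c d) : ({a, b, c, d} : Finset α).card = 4 := by
  obtain ⟨h1, h2, h3, h4, h5, h6⟩ := h
  simp [h1, h2, h3, h4, h5, h6]

theorem forall_four {a b c d : α} {P : α → Prop} :
    (∀ x ∈ ({a, b, c, d} : Finset α), P x) ↔ P a ∧ P b ∧ P c ∧ P d := by
  simp

/-- The square root of an element of odd order. -/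
theorem exists_sqrt {G : Type*} [Group G] (w : G) (hw : Odd (orderOf w)) :
    ∃ j : ℕ, (w ^ j) * (w ^ j) = w := by
  obtain ⟨k, hk⟩ := hw
  refine ⟨k + 1, ?_⟩
  rw [← pow_add, show k + 1 + (k + 1) = orderOf w + 1 by omega, pow_succ, pow_orderOf_eq_one, one_mul]

/-- An involution inverting `w` inverts its powers. -/
theorem inv_pow_of_inv {G : Type*} [Group G] {t w : G} (h : t * w * t⁻¹ = w⁻¹) (j : ℕ) :
    t * w ^ j * t⁻¹ = (w ^ j)⁻¹ := by
  rw [← conj_pow, h, inv_pow]

theorem odd_fix_of_sq {g : Perm α} (hg : Odd (orderOf g)) {x : α} (h : g (g x) = x) : g x = x := by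
  obtain ⟨k, hk⟩ := hg
  have h2 : ∀ i : ℕ, (g ^ (2 * i)) x = x := fun i => by
    induction i with
    | zero => rfl
    | succ i ih =>
      rw [show 2 * (i + 1) = 2 * i + 2 by ring, pow_add, Perm.mul_apply, pow_two, Perm.mul_apply, h, ih]
  have h3 := congrArg (fun f : Perm α => f x) (pow_orderOf_eq_one g)
  simp only [hk, pow_succ', Perm.mul_apply, h2, Perm.one_apply] at h3
  exact h3

/-- An odd permutation group element on a small invariant set. -/
theorem odd_small {g : Perm α} (hg : Odd (orderOf g)) {T : Finset α} (hT : ∀ x ∈ T, g x ∈ T)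
    (hc : T.card ≤ 2 ∨ (T.card ≤ 3 ∧ ∃ e ∈ T, g e = e)) : ∀ x ∈ T, g x = x := by
  intro x hx
  by_contra hne
  have hy := hT x hx
  have hz := hT (g x) hy
  have hzx : g (g x) ≠ x := fun h => hne (odd_fix_of_sq hg h)
  have hzy : g (g x) ≠ g x := fun h => hne (g.injective h)
  have hsub : ({x, g x, g (g x)} : Finset α) ⊆ T := by
    simp [Finset.insert_subset_iff, hx, hy, hz]
  have h3 : ({x, g x, g (g x)} : Finset α).card = 3 := by
    simp [Ne.symm hne, Ne.symm hzx, Ne.symm hzy]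
  have hle := Finset.card_le_card hsub
  rcases hc with hc | ⟨hc, e, he, hee⟩
  · omega
  · have heq := Finset.eq_of_subset_of_card_le hsub (by omega)
    rw [← heq] at he
    simp only [Finset.mem_insert, Finset.mem_singleton] at he
    rcases he with rfl | rfl | rfl
    · exact hne hee
    · exact hzy hee
    · exact hzy (g.injective hee)

/-- The hypothesis. -/
structure Ctx (G : Subgroup (Perm α)) : Prop where
  four : IsMultiplyPretransitive G α 4
  card : 8 ≤ Fintype.card α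
  odd : ∀ g ∈ G, 4 ≤ (fx g).card → Odd (orderOf g)

/-- An involution of `G`. -/
def Inv (G : Subgroup (Perm α)) (c : Perm α) : Prop := c ∈ G ∧ c * c = 1 ∧ c ≠ 1

theorem Inv.apply {G : Subgroup (Perm α)} {c : Perm α} (h : Inv G c) (x : α) : c (c x) = x := by
  rw [← Perm.mul_apply, h.2.1, Perm.one_apply]

theorem Inv.inv_eq {G : Subgroup (Perm α)} {c : Perm α} (h : Inv G c) : c⁻¹ = c :=
  inv_eq_of_mul_eq_one_right h.2.1

namespace Ctx

variable {G : Subgroup (Perm α)} (C : Ctx G)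
include C

theorem move {a b c d a' b' c' d' : α} (h : D4 a b c d) (h' : D4 a' b' c' d') :
    ∃ g ∈ G, g a = a' ∧ g b = b' ∧ g c = c' ∧ g d = d' := by
  obtain ⟨h1, h2, h3, h4, h5, h6⟩ := h
  obtain ⟨k1, k2, k3, k4, k5, k6⟩ := h'
  have hu : Function.Injective ![a, b, c, d] := by
    intro i j e; fin_cases i <;> fin_cases j <;> simp_all
  have hv : Function.Injective ![a', b', c', d'] := by
    intro i j e; fin_cases i <;> fin_cases j <;> simp_all
  obtain ⟨g, hg, hgi⟩ := H32.JordanR.exists_map C.four (by have := C.card; omega) (ι := Fin 4) (by simp)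
    ⟨_, hu⟩ ⟨_, hv⟩
  exact ⟨g, hg, hgi 0, hgi 1, hgi 2, hgi 3⟩

theorem odd_fixG {S : Finset α} (hS : 4 ≤ S.card) {g : Perm α} (hg : g ∈ fixG G S) :
    Odd (orderOf g) :=
  C.odd g hg.1 (hS.trans (Finset.card_le_card fun x hx => mem_fx.2 (hg.2 x hx)))

theorem fx_le {c : Perm α} (hc : Inv G c) : (fx c).card ≤ 3 := by
  by_contra hlt
  have h := C.odd c hc.1 (by omega)
  haveI : Fact (Nat.Prime 2) := ⟨Nat.prime_two⟩
  rw [orderOf_eq_prime (by rw [pow_two]; exact hc.2.1) hc.2.2] at h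
  exact absurd h (by decide)

theorem two_pairs {c : Perm α} (hc : Inv G c) : ∃ p r, D4 p (c p) r (c r) := by
  have h3 := C.fx_le hc
  have h8 := C.card
  have hs : 5 ≤ c.support.card := by
    rw [fx, Finset.card_compl] at h3; omega
  obtain ⟨p, hp⟩ : c.support.Nonempty := Finset.card_pos.1 (by omega)
  obtain ⟨r, hr, hr'⟩ := Finset.exists_mem_notMem_of_card_lt_card
    (s := ({p, c p} : Finset α)) (t := c.support) (by
      have := Finset.card_le_two (a := p) (b := c p); omega)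
  simp only [Finset.mem_insert, Finset.mem_singleton, not_or] at hr'
  rw [Perm.mem_support] at hp hr
  refine ⟨p, r, Ne.symm hp, Ne.symm hr'.1, fun e => hr'.2 ?_, Ne.symm hr'.2,
    fun e => hr'.1 (c.injective e).symm, Ne.symm hr⟩
  rw [e, hc.apply]

/-- An element inducing a given involutive pattern on four points gives an involution with the
same pattern. -/
theorem exists_pattern {p q r s q' r' s' p' : α} (h : D4 p q r s) (h' : D4 p' q' r' s')
    (hsq : ∀ g : Perm α, g p = p' → g q = q' → g r = r' → g s = s' →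
      g (g p) = p ∧ g (g q) = q ∧ g (g r) = r ∧ g (g s) = s)
    (hne : p ≠ p') : ∃ c, Inv G c ∧ c p = p' ∧ c q = q' ∧ c r = r' ∧ c s = s' := by
  obtain ⟨g, hg, hp, hq, hr, hs⟩ := C.move h h'
  obtain ⟨a1, a2, a3, a4⟩ := hsq g hp hq hr hs
  have hg2 : g * g ∈ fixG G {p, q, r, s} := ⟨mul_mem hg hg, forall_four.2 ⟨a1, a2, a3, a4⟩⟩
  obtain ⟨k, hk⟩ := C.odd_fixG (by rw [d4_card h]) hg2
  have hfix : ∀ x ∈ ({p, q, r, s} : Finset α), (g ^ orderOf (g * g)) x = g x := by
    intro x hx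
    have h1 : (g * g) ^ k ∈ fixG G {p, q, r, s} := pow_mem hg2 k
    rw [hk, pow_succ', pow_mul, pow_two, Perm.mul_apply, h1.2 x hx]
  have hc : (g ^ orderOf (g * g)) * (g ^ orderOf (g * g)) = 1 := by
    rw [← pow_add, ← two_mul, pow_mul, pow_two, pow_orderOf_eq_one]
  obtain ⟨b1, b2, b3, b4⟩ := forall_four.1 hfix
  exact ⟨_, ⟨pow_mem hg _, hc, fun e => hne (by rw [← hp, ← b1, e, Perm.one_apply])⟩,
    b1.trans hp, b2.trans hq, b3.trans hr, b4.trans hs⟩

theorem exists_sw {p q r s : α} (h : D4 p q r s) : ∃ c, Inv G c ∧ c p = q ∧ c r = s := by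
  obtain ⟨h1, h2, h3, h4, h5, h6⟩ := h
  obtain ⟨c, hc, a, -, b, -⟩ := C.exists_pattern ⟨h1, h2, h3, h4, h5, h6⟩
    (q' := p) (r' := s) (s' := r) (p' := q)
    ⟨h1.symm, h5, h4, h3, h2, h6.symm⟩
    (fun g a b c d => ⟨by rw [a, b], by rw [b, a], by rw [c, d], by rw [d, c]⟩) h1
  exact ⟨c, hc, a, b⟩

theorem exists_tr {p q r s : α} (h : D4 p q r s) :
    ∃ c, Inv G c ∧ c p = q ∧ c r = r ∧ c s = s := by
  obtain ⟨h1, h2, h3, h4, h5, h6⟩ := h
  obtain ⟨c, hc, a, -, b, d⟩ := C.exists_pattern ⟨h1, h2, h3, h4, h5, h6⟩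
    (q' := p) (r' := r) (s' := s) (p' := q)
    ⟨h1.symm, h4, h5, h2, h3, h6⟩
    (fun g a b c d => ⟨by rw [a, b], by rw [b, a], by rw [c, c], by rw [d, d]⟩) h1
  exact ⟨c, hc, a, b, d⟩

/-- Two involutions agreeing on an invariant four-set are conjugate under its stabiliser. -/
theorem agree_conj {c c' : Perm α} (hc : Inv G c) (hc' : Inv G c') {S : Finset α} (hS : 4 ≤ S.card)
    (hag : ∀ x ∈ S, c' x = c x) (hinv : ∀ x ∈ S, c x ∈ S) :
    ∃ u ∈ fixG G S, c' = u * c * u⁻¹ := by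
  have hw : c * c' ∈ fixG G S := ⟨mul_mem hc.1 hc'.1, fun x hx => by
    rw [Perm.mul_apply, hag x hx, hc.apply]⟩
  obtain ⟨j, hj⟩ := exists_sqrt _ (C.odd_fixG hS hw)
  have hinvw : c * (c * c') * c⁻¹ = (c * c')⁻¹ := by
    rw [mul_inv_rev, hc'.inv_eq, ← mul_assoc c c c', hc.2.1, one_mul]
  have hj' := inv_pow_of_inv hinvw j
  refine ⟨((c * c') ^ j)⁻¹, inv_mem (pow_mem hw j), ?_⟩
  rw [inv_inv, ← hj']
  calc c' = c * (c * c') := by rw [← mul_assoc, hc.2.1, one_mul]
    _ = c * ((c * c') ^ j * (c * c') ^ j) := by rw [hj]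
    _ = c * (c * c') ^ j * c⁻¹ * c * (c * c') ^ j := by group

/-- All involutions are conjugate. -/
theorem conj_all {c c' : Perm α} (hc : Inv G c) (hc' : Inv G c') {p r : α} (h : D4 p (c p) r (c r))
    {p' r' : α} (h' : D4 p' (c' p') r' (c' r')) :
    ∃ g ∈ G, c' = g * c * g⁻¹ ∧ g p = p' ∧ g (c p) = c' p' ∧ g r = r' ∧ g (c r) = c' r' := by
  obtain ⟨g, hg, a1, a2, a3, a4⟩ := C.move h h'
  have hd : Inv G (g * c * g⁻¹) := by
    refine ⟨mul_mem (mul_mem hg hc.1) (inv_mem hg), ?_, fun e => hc.2.2 ?_⟩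
    · rw [conj_mul, hc.2.1, mul_one, mul_inv_cancel]
    · rwa [conj_eq_one_iff] at e
  have hap : ∀ x, (g * c * g⁻¹) (g x) = g (c x) := fun x => by simp
  have hag : ∀ x ∈ ({p', c' p', r', c' r'} : Finset α), c' x = (g * c * g⁻¹) x := by
    refine forall_four.2 ⟨?_, ?_, ?_, ?_⟩
    · rw [← a1, hap, a2, a1]
    · rw [hc'.apply, ← a2, hap, hc.apply, a1]
    · rw [← a3, hap, a4, a3]
    · rw [hc'.apply, ← a4, hap, hc.apply, a3]
  obtain ⟨u, hu, e⟩ := C.agree_conj hd hc' (by rw [d4_card h']) hag (fun x hx => by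
    rw [← hag x hx]
    have := hc'.apply
    simp only [Finset.mem_insert, Finset.mem_singleton] at hx ⊢
    rcases hx with rfl | rfl | rfl | rfl <;> simp [this])
  obtain ⟨b1, b2, b3, b4⟩ := forall_four.1 hu.2
  refine ⟨u * g, mul_mem hu.1 hg, by rw [e]; group, ?_, ?_, ?_, ?_⟩
  · rw [Perm.mul_apply, a1, b1]
  · rw [Perm.mul_apply, a2, b2]
  · rw [Perm.mul_apply, a3, b3]
  · rw [Perm.mul_apply, a4, b4]

theorem fx_conj (g c : Perm α) (x : α) : g x ∈ fx (g * c * g⁻¹) ↔ x ∈ fx c := by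
  simp [mem_fx, g.injective.eq_iff]

theorem fx_conj' (g c : Perm α) : fx (g * c * g⁻¹) = (fx c).map g.toEmbedding := by
  ext x
  rw [Finset.mem_map_equiv]
  have := C.fx_conj g c (g⁻¹ x)
  simpa using this

theorem fx_ge {c : Perm α} (hc : Inv G c) : 2 ≤ (fx c).card := by
  obtain ⟨p, r, h⟩ := C.two_pairs hc
  obtain ⟨x, hx, hxp, hxr, hxs⟩ := C.exists_tr h
  obtain ⟨p', r', h'⟩ := C.two_pairs hx
  obtain ⟨g, -, e, -⟩ := C.conj_all hx hc h' h
  rw [e, C.fx_conj', Finset.card_map, ← Finset.card_pair h.2.2.2.2.2]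
  exact Finset.card_le_card (by simp [Finset.insert_subset_iff, mem_fx, hxr, hxs])

theorem fx_parity {c : Perm α} (hc : Inv G c) : (fx c).card % 2 = Fintype.card α % 2 := by
  have h := Perm.two_dvd_card_support (σ := c) (by rw [pow_two]; exact hc.2.1)
  have := c.support.card_le_univ
  rw [fx, Finset.card_compl]
  omega

/-- Commuting involutions with two common fixed points have the same fixed points. -/
theorem comm_fix {a b : Perm α} (ha : Inv G a) (hab : a * b = b * a)
    {t u : α} (htu : t ≠ u) (hat : a t = t) (hau : a u = u) (hbt : b t = t) (hbu : b u = u) :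
    fx a ⊆ fx b := by
  intro x hx
  rw [mem_fx] at hx ⊢
  by_contra hne
  have hax : a (b x) = b x := by rw [← Perm.mul_apply, hab, Perm.mul_apply, hx]
  have hsub : ({t, u, x, b x} : Finset α) ⊆ fx a := by
    simp [Finset.insert_subset_iff, mem_fx, hat, hau, hx, hax]
  have := (Finset.card_le_card hsub).trans (C.fx_le ha)
  have hd : D4 t u x (b x) :=
    ⟨htu, fun e => hne (e ▸ hbt), fun e => hne (by
      have : b t = b x := by rw [hbt, e]
      exact (b.injective this) ▸ hbt),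
      fun e => hne (e ▸ hbu), fun e => hne (by
      have : b u = b x := by rw [hbu, e]
      exact (b.injective this) ▸ hbu), Ne.symm hne⟩
  rw [d4_card hd] at this
  omega

end Ctx

/-- Stabilisers of two pairs preserve the fixed set. -/
def Stab (G : Subgroup (Perm α)) : Prop :=
  ∀ c, Inv G c → ∀ p r, D4 p (c p) r (c r) → ∀ h ∈ fixG G {p, c p, r, c r},
    ∀ x ∈ fx c, h x ∈ fx c

namespace Ctx

variable {G : Subgroup (Perm α)} (C : Ctx G)
include C

/-- Case A: commuting involutions with two common fixed points. -/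
theorem stab_of_commuting {a b : Perm α} (ha : Inv G a) (hb : Inv G b) (hne : a ≠ b)
    (hab : a * b = b * a) {t u : α} (htu : t ≠ u) (hat : a t = t) (hau : a u = u) (hbt : b t = t)
    (hbu : b u = u) : Stab G := by
  have hm : Inv G (a * b) := by
    refine ⟨mul_mem ha.1 hb.1, ?_, fun e => hne ?_⟩
    · rw [mul_assoc, ← mul_assoc b, ← hab, mul_assoc, hb.2.1, mul_one, ha.2.1]
    · rw [← hb.inv_eq]; exact eq_inv_of_mul_eq_one_left e
  have hTb : fx b = fx a := Finset.Subset.antisymm (C.comm_fix hb hab.symm htu hbt hbu hat hau)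
    (C.comm_fix ha hab htu hat hau hbt hbu)
  have hTm : fx (a * b) = fx a := by
    have h1 : (a * b) t = t := by rw [Perm.mul_apply, hbt, hat]
    have h2 : (a * b) u = u := by rw [Perm.mul_apply, hbu, hau]
    have h3 : a * (a * b) = a * b * a := by
      rw [mul_assoc a b a, ← hab]
    exact Finset.Subset.antisymm (C.comm_fix hm h3.symm htu h1 h2 hat hau)
      (C.comm_fix ha h3 htu hat hau h1 h2)
  obtain ⟨p, hp⟩ : ∃ p, p ∉ fx a := by
    by_contra hcon
    push Not at hcon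
    exact ha.2.2 (Equiv.ext fun x => mem_fx.1 (hcon x))
  have hap : a p ≠ p := fun e => hp (mem_fx.2 e)
  have hbp : b p ≠ p := fun e => hp (hTb ▸ mem_fx.2 e)
  have hmp : a (b p) ≠ p := fun e => hp (hTm ▸ mem_fx.2 e)
  have hba : ∀ x, b (a x) = a (b x) := fun x => congrArg (fun g : Perm α => g x) hab.symm
  have hd : D4 p (a p) (b p) (a (b p)) := by
    refine ⟨Ne.symm hap, Ne.symm hbp, Ne.symm hmp, fun e => hmp ?_, fun e => hbp (a.injective e).symm,
      fun e => ?_⟩
    · rw [← e, ha.apply]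
    · have h1 : a (b p) = b p := e.symm
      rw [← mem_fx, ← hTb, mem_fx, hb.apply] at h1
      exact hbp h1.symm
  have hX : fixG G {p, a p, b p, a (b p)} ≤ setStab (fx a) := by
    have hcl : ∀ c : Perm α, Inv G c →
        (∀ x ∈ ({p, a p, b p, a (b p)} : Finset α), c x ∈ ({p, a p, b p, a (b p)} : Finset α)) →
        ∀ h ∈ fixG G {p, a p, b p, a (b p)}, c * h * c⁻¹ ∈ fixG G {p, a p, b p, a (b p)} :=
      fun c hc hQ h hh => ⟨mul_mem (mul_mem hc.1 hh.1) (inv_mem hc.1), fun x hx => by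
        rw [hc.inv_eq, Perm.mul_apply, Perm.mul_apply, hh.2 _ (hQ x hx), hc.apply]⟩
    have hcomm : ∀ c : Perm α, fx c = fx a → ∀ h : Perm α, Commute h c → h ∈ setStab (fx a) := by
      intro c hc h hh x
      rw [← hc, mem_fx, mem_fx, ← Perm.mul_apply, ← hh.eq, Perm.mul_apply, h.injective.eq_iff]
    refine H66.le_of_centralizers_fourGroup (fun h hh => C.odd_fixG (by rw [d4_card hd]) hh)
      ha.2.1 hb.2.1 hab (hcl a ha ?_) (hcl b hb ?_) (fun h _ => hcomm a rfl h)
      (fun h _ => hcomm b hTb h) (fun h _ => hcomm (a * b) hTm h)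
    · intro x hx
      simp only [Finset.mem_insert, Finset.mem_singleton] at hx ⊢
      rcases hx with rfl | rfl | rfl | rfl <;> simp [ha.apply]
    · intro x hx
      simp only [Finset.mem_insert, Finset.mem_singleton] at hx ⊢
      rcases hx with rfl | rfl | rfl | rfl <;> simp [hb.apply, hba]
  intro c hc p' r' h' h hh x hx
  obtain ⟨g, hg, e, a1, a2, a3, a4⟩ := C.conj_all ha hc hd h'
  have hmem : g⁻¹ * h * g ∈ fixG G {p, a p, b p, a (b p)} := by
    refine ⟨mul_mem (mul_mem (inv_mem hg) hh.1) hg, ?_⟩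
    obtain ⟨b1, b2, b3, b4⟩ := forall_four.1 hh.2
    exact forall_four.2 ⟨by simp [a1, b1, symm_apply_eq], by simp [a2, b2, symm_apply_eq],
      by simp [a3, b3, symm_apply_eq], by simp [a4, b4, symm_apply_eq]⟩
  rw [e, C.fx_conj', Finset.mem_map_equiv] at hx ⊢
  have h1 := (hX hmem (g.symm x)).2 hx
  simpa using h1

/-- Case B: the transpositional involutions are unique. -/
theorem tr_unique
    (hB : ∀ a b, Inv G a → Inv G b → a * b = b * a → ∀ t u, t ≠ u → a t = t → a u = u →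
      b t = t → b u = u → a = b)
    {p q t u : α} (hd : D4 p q t u) {z z' : Perm α} (hz : Inv G z) (hz' : Inv G z')
    (hzp : z p = q) (hzt : z t = t) (hzu : z u = u)
    (hz'p : z' p = q) (hz't : z' t = t) (hz'u : z' u = u) : z = z' := by
  classical
  obtain ⟨hpq, hpt, hpu, hqt, hqu, htu⟩ := hd
  let S := fixG G ({t, u} : Finset α)
  have hmemS : ∀ g, g ∈ S ↔ g ∈ G ∧ g t = t ∧ g u = u := fun g => by simp [S, mem_fixG]
  have hS2 : ∀ a b a' b', a ≠ b → a' ≠ b' → a ∉ ({t, u} : Finset α) → b ∉ ({t, u} : Finset α) →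
      a' ∉ ({t, u} : Finset α) → b' ∉ ({t, u} : Finset α) → ∃ g ∈ S, g a = a' ∧ g b = b' := by
    intro a b a' b' hab hab' ha hb ha' hb'
    simp only [Finset.mem_insert, Finset.mem_singleton, not_or] at ha hb ha' hb'
    obtain ⟨g, hg, e1, e2, e3, e4⟩ := C.move (a := a) (b := b) (c := t) (d := u)
      ⟨hab, ha.1, ha.2, hb.1, hb.2, htu⟩ (a' := a') (b' := b') (c' := t) (d' := u)
      ⟨hab', ha'.1, ha'.2, hb'.1, hb'.2, htu⟩
    exact ⟨g, (hmemS g).2 ⟨hg, e3, e4⟩, e1, e2⟩
  have hzS : z ∈ S := (hmemS z).2 ⟨hz.1, hzt, hzu⟩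
  have hz'S : z' ∈ S := (hmemS z').2 ⟨hz'.1, hz't, hz'u⟩
  set zs : S := ⟨z, hzS⟩ with hzs
  have hiso : Cfsg.IsIsolatedInvolution zs := by
    haveI : Fact (Nat.Prime 2) := ⟨Nat.prime_two⟩
    refine ⟨orderOf_eq_prime (Subtype.ext (by rw [pow_two]; exact hz.2.1))
      (fun e => hz.2.2 (congrArg Subtype.val e)), fun g hg => ?_⟩
    refine (Subtype.ext (hB z _ hz ⟨(((hmemS _).1 (g * zs * g⁻¹).2).1), ?_, ?_⟩
      (congrArg Subtype.val hg.eq) t u htu hzt hzu ((hmemS _).1 (g * zs * g⁻¹).2).2.1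
      ((hmemS _).1 (g * zs * g⁻¹).2).2.2)).symm
    · show (g : Perm α) * z * (g : Perm α)⁻¹ * ((g : Perm α) * z * (g : Perm α)⁻¹) = 1
      rw [conj_mul, hz.2.1, mul_one, mul_inv_cancel]
    · show (g : Perm α) * z * (g : Perm α)⁻¹ ≠ 1
      exact fun e => hz.2.2 (conj_eq_one_iff.1 e)
  have hZ := H85.zStar hiso
  set O := Cfsg.pPrimeCore 2 S with hOdef
  have hO : O ≠ ⊥ := by
    intro hO
    obtain ⟨r, -, hr⟩ := Finset.exists_mem_notMem_of_card_lt_card
      (s := ({p, q, t, u} : Finset α)) (t := Finset.univ) (by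
        rw [Finset.card_univ]
        have := C.card
        exact lt_of_le_of_lt Finset.card_le_four (by omega))
    simp only [Finset.mem_insert, Finset.mem_singleton, not_or] at hr
    obtain ⟨g, hg, hgp, hgq⟩ := hS2 p q p r hpq (Ne.symm hr.1) (by simp [hpt, hpu]) (by simp [hqt, hqu])
      (by simp [hpt, hpu]) (by simp [hr.2.2.1, hr.2.2.2])
    have h1 := hZ ⟨g, hg⟩
    rw [← hOdef, hO, Subgroup.mem_bot] at h1
    have h2 : z * g * z⁻¹ * g⁻¹ = 1 := congrArg Subtype.val h1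
    rw [mul_inv_eq_one, mul_inv_eq_iff_eq_mul] at h2
    have h3 := congrArg (fun f : Perm α => f p) h2
    simp only [Perm.mul_apply, hgp, hzp, hgq] at h3
    exact hr.2.1 h3.symm
  have hOodd : Odd (Nat.card O) := Nat.coprime_two_right.1 (H1.card_pPrimeCore_coprime 2 S)
  haveI hOn : O.Characteristic := H1.pPrimeCore_characteristic 2 S
  obtain ⟨M₀, hM₀n, hM₀ne, hM₀c, hM₀O⟩ : ∃ M : Subgroup S, M.Normal ∧ M ≠ ⊥ ∧
      (∀ a ∈ M, ∀ b ∈ M, a * b = b * a) ∧ M ≤ O := by
    have hs := H16.FT.oddOrder hOodd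
    obtain ⟨k, hk⟩ := (Group.isSolvable_def O).1 hs
    have hex : ∃ k, derivedSeries O k = ⊥ := ⟨k, hk⟩
    have hk0 : Nat.find hex ≠ 0 := fun e => by
      have := Nat.find_spec hex
      rw [e, derivedSeries_zero] at this
      haveI hnt := (Subgroup.nontrivial_iff_ne_bot O).2 hO
      exact (top_ne_bot : (⊤ : Subgroup O) ≠ ⊥) this
    obtain ⟨i, hi⟩ := Nat.exists_eq_succ_of_ne_zero hk0
    have hlast := Nat.find_spec hex
    rw [hi, derivedSeries_succ, Subgroup.commutator_eq_bot_iff_le_centralizer] at hlast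
    haveI : (derivedSeries O i).Characteristic := derivedSeries_characteristic O i
    refine ⟨(derivedSeries O i).map O.subtype, inferInstance, fun e => ?_, ?_, Subgroup.map_subtype_le _⟩
    · exact Nat.find_min hex (m := i) (by omega)
        ((Subgroup.map_eq_bot_iff_of_injective _ O.subtype_injective).1 e)
    · rintro _ ⟨a, ha, rfl⟩ _ ⟨b, hb, rfl⟩
      exact congrArg Subtype.val (Subgroup.mem_centralizer_iff.1 (hlast hb) a ha)
  obtain ⟨⟨m₀, hm₀⟩, hm₀ne⟩ : ∃ m : M₀, m ≠ 1 :=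
    haveI := (Subgroup.nontrivial_iff_ne_bot M₀).2 hM₀ne
    exists_ne 1
  obtain ⟨a₀, ha₀⟩ : ∃ a, (m₀ : Perm α) a ≠ a := by
    by_contra hcon
    push Not at hcon
    exact hm₀ne (Subtype.ext (Subtype.ext (Equiv.ext hcon)))
  have hfixtu : ∀ g : S, (g : Perm α) t = t ∧ (g : Perm α) u = u := fun g =>
    ((hmemS _).1 g.2).2
  have hout : ∀ g : S, ∀ a, a ∉ ({t, u} : Finset α) → (g : Perm α) a ∉ ({t, u} : Finset α) := by
    intro g a ha he
    simp only [Finset.mem_insert, Finset.mem_singleton, not_or] at ha he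
    rcases he with e | e
    · exact ha.1 ((g : Perm α).injective (e.trans (hfixtu g).1.symm))
    · exact ha.2 ((g : Perm α).injective (e.trans (hfixtu g).2.symm))
  have ha₀o : a₀ ∉ ({t, u} : Finset α) := by
    simp only [Finset.mem_insert, Finset.mem_singleton]
    rintro (rfl | rfl)
    exacts [ha₀ (hfixtu m₀).1, ha₀ (hfixtu m₀).2]
  have hMtr : ∀ a b, a ∉ ({t, u} : Finset α) → b ∉ ({t, u} : Finset α) →
      ∃ m ∈ M₀, (m : Perm α) a = b := by
    intro a b ha hb
    by_cases hab : a = b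
    · exact ⟨1, one_mem _, by simp [hab]⟩
    · obtain ⟨g, hg, e1, e2⟩ := hS2 a₀ ((m₀ : Perm α) a₀) a b (Ne.symm ha₀) hab ha₀o (hout m₀ a₀ ha₀o) ha hb
      refine ⟨⟨g, hg⟩ * m₀ * ⟨g, hg⟩⁻¹, hM₀n.conj_mem m₀ hm₀ _, ?_⟩
      show g ((m₀ : Perm α) (g⁻¹ a)) = b
      rw [← e1, inv_self, e2]
  have hreg : ∀ m ∈ M₀, ∀ a, a ∉ ({t, u} : Finset α) → (m : Perm α) a = a → m = 1 := by
    intro m hm a ha hma
    refine Subtype.ext (Equiv.ext fun b => ?_)
    by_cases hb : b ∈ ({t, u} : Finset α)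
    · simp only [Finset.mem_insert, Finset.mem_singleton] at hb
      rcases hb with rfl | rfl
      · exact (hfixtu m).1
      · exact (hfixtu m).2
    · obtain ⟨k, hk, e⟩ := hMtr a b ha hb
      have hc : (m : Perm α) ((k : Perm α) a) = (k : Perm α) ((m : Perm α) a) :=
        congrArg (fun f : S => (f : Perm α) a) (hM₀c m hm k hk)
      rw [← e]
      exact hc.trans (congrArg (k : Perm α) hma)
  have hpo : p ∉ ({t, u} : Finset α) := by simp [hpt, hpu]
  have hMcard : Nat.card M₀ = Fintype.card α - 2 := by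
    have h1 : Nat.card M₀ = Nat.card {a : α // a ∉ ({t, u} : Finset α)} := by
      refine Nat.card_eq_of_bijective (fun m => ⟨((m : S) : Perm α) p, hout _ _ hpo⟩) ⟨fun m m' e => ?_, ?_⟩
      · have e' : ((m : S) : Perm α) p = ((m' : S) : Perm α) p := congrArg Subtype.val e
        have := hreg ((m : S)⁻¹ * m') (mul_mem (inv_mem m.2) m'.2) p hpo (by
          show ((m : S) : Perm α)⁻¹ (((m' : S) : Perm α) p) = p
          rw [← e', inv_self])
        exact Subtype.ext (inv_mul_eq_one.1 this)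
      · rintro ⟨b, hb⟩
        obtain ⟨m, hm, e⟩ := hMtr p b hpo hb
        exact ⟨⟨m, hm⟩, Subtype.ext e⟩
    rw [h1, Nat.card_eq_fintype_card, Fintype.card_subtype_compl, Fintype.card_coe, Finset.card_pair htu]
  have hn : Fintype.card α % 2 = 1 := by
    have h := hOodd.of_dvd_nat (Subgroup.card_dvd_of_le hM₀O)
    rw [hMcard, Nat.odd_iff] at h
    have := C.card
    omega
  have hthird : ∀ w, Inv G w → w t = t → w u = u → ∃ e, e ∉ ({t, u} : Finset α) ∧ w e = e ∧
      ∀ x, x ∉ ({t, u} : Finset α) → w x = x → x = e := by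
    intro w hw hwt hwu
    have h2 := C.fx_ge hw
    have h3 := C.fx_le hw
    have hp2 := C.fx_parity hw
    have hsub : ({t, u} : Finset α) ⊆ fx w := by simp [Finset.insert_subset_iff, mem_fx, hwt, hwu]
    have hc : (fx w \ {t, u}).card = 1 := by
      rw [Finset.card_sdiff_of_subset hsub, Finset.card_pair htu]; omega
    obtain ⟨e, he⟩ := Finset.card_eq_one.1 hc
    have hee : e ∈ fx w \ {t, u} := by rw [he]; exact Finset.mem_singleton_self e
    rw [Finset.mem_sdiff, mem_fx] at hee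
    refine ⟨e, hee.2, hee.1, fun x hx hwx => ?_⟩
    have : x ∈ fx w \ {t, u} := Finset.mem_sdiff.2 ⟨mem_fx.2 hwx, hx⟩
    rwa [he, Finset.mem_singleton] at this
  have hinv : ∀ w (hw : Inv G w) (hwS : w ∈ S), ∀ m ∈ M₀,
      w * (m : Perm α) * w⁻¹ = (m : Perm α)⁻¹ := by
    intro w hw hwS m hm
    obtain ⟨hwt, hwu⟩ := ((hmemS w).1 hwS).2
    obtain ⟨e, he, hwe, huniq⟩ := hthird w hw hwt hwu
    have hc : (⟨w, hwS⟩ : S) * m * (⟨w, hwS⟩ : S)⁻¹ ∈ M₀ := hM₀n.conj_mem m hm _
    have hcm := congrArg Subtype.val (hM₀c m hm _ hc)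
    have hk : ((m * ((⟨w, hwS⟩ : S) * m * (⟨w, hwS⟩ : S)⁻¹) : S) : Perm α) e = e := by
      refine huniq _ (hout _ _ he) ?_
      simp only [Subgroup.coe_mul, Subgroup.coe_inv] at hcm ⊢
      have h1 : w * ((m : Perm α) * (w * m * w⁻¹)) = (m : Perm α) * (w * m * w⁻¹) * w := by
        calc w * ((m : Perm α) * (w * m * w⁻¹)) = (w * m * w⁻¹) * ((w * w) * m * w⁻¹) := by group
          _ = (w * m * w⁻¹) * m * w⁻¹ := by rw [hw.2.1, one_mul, ← mul_assoc]
          _ = (w * m * w⁻¹) * m * w := by rw [hw.inv_eq]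
          _ = _ := by rw [← hcm]
      have h2 := congrArg (fun f : Perm α => f e) h1
      simpa [hwe] using h2
    have h1 := congrArg Subtype.val (hreg _ (mul_mem hm hc) e he hk)
    simp only [Subgroup.coe_mul, Subgroup.coe_inv, Subgroup.coe_one] at h1
    exact eq_inv_of_mul_eq_one_right h1
  obtain ⟨e, he, hze, -⟩ := hthird z hz hzt hzu
  obtain ⟨e', he', hz'e, -⟩ := hthird z' hz' hz't hz'u
  obtain ⟨v, hv, hve⟩ := hMtr e p he hpo
  obtain ⟨v', hv', hve'⟩ := hMtr e' p he' hpo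
  have key : ∀ (w : Perm α) (hw : Inv G w) (hwS : w ∈ S) (e : α) (v : S), v ∈ M₀ → w e = e →
      (v : Perm α) e = p → w p = q → ((v : Perm α) * v) q = p := by
    intro w hw hwS e v hv hwe hve hwp
    have h1 := congrArg (fun f : Perm α => f e) (hinv w hw hwS v hv)
    simp only [Perm.mul_apply, hw.inv_eq, hwe, hve, hwp] at h1
    rw [Perm.mul_apply, h1, self_inv, hve]
  have h1 := key z hz hzS e v hv hze hve hzp
  have h2 := key z' hz' hz'S e' v' hv' hz'e hve' hz'p
  have hsq : v * v = v' * v' := by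
    refine inv_mul_eq_one.1 (hreg ((v * v)⁻¹ * (v' * v')) (mul_mem (inv_mem (mul_mem hv hv)) (mul_mem hv' hv'))
      q (by simp [hqt, hqu]) ?_)
    show (((v : Perm α) * v)⁻¹ : Perm α) (((v' : Perm α) * v') q) = q
    rw [h2, Perm.inv_eq_iff_eq, h1]
  have hvv : v = v' := by
    have ho : ∀ x ∈ M₀, Odd (orderOf x) := fun x hx =>
      hOodd.of_dvd_nat ((Subgroup.orderOf_mk x (hM₀O hx)).symm.dvd.trans (orderOf_dvd_natCard _))
    have hc : Commute v⁻¹ v' := hM₀c _ (inv_mem hv) v' hv'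
    have h0 : (v⁻¹ * v') ^ 2 = 1 := by
      rw [hc.mul_pow, inv_pow, pow_two, pow_two, hsq, inv_mul_cancel]
    have hd := orderOf_dvd_of_pow_eq_one h0
    have hd1 : orderOf (v⁻¹ * v') = 1 :=
      ((Nat.dvd_prime Nat.prime_two).1 hd).resolve_right fun e => by
        have := ho _ (mul_mem (inv_mem hv) hv')
        rw [e] at this
        exact absurd this (by decide)
    exact inv_mul_eq_one.1 (orderOf_eq_one_iff.1 hd1)
  subst hvv
  obtain rfl : e = e' := (v : Perm α).injective (hve.trans hve'.symm)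
  refine Equiv.ext fun x => ?_
  by_cases hx : x ∈ ({t, u} : Finset α)
  · simp only [Finset.mem_insert, Finset.mem_singleton] at hx
    rcases hx with rfl | rfl
    · rw [hzt, hz't]
    · rw [hzu, hz'u]
  · obtain ⟨m, hm, rfl⟩ := hMtr e x he hx
    have k1 := congrArg (fun f : Perm α => f e) (hinv z hz hzS m hm)
    have k2 := congrArg (fun f : Perm α => f e) (hinv z' hz' hz'S m hm)
    simp only [Perm.mul_apply, hz.inv_eq, hze] at k1
    simp only [Perm.mul_apply, hz'.inv_eq, hz'e] at k2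
    rw [k1, k2]

/-- Case B. -/
theorem stab_of_unique
    (hB : ∀ a b, Inv G a → Inv G b → a * b = b * a → ∀ t u, t ≠ u → a t = t → a u = u →
      b t = t → b u = u → a = b) : Stab G := by
  intro c hc p r hd h hh
  obtain ⟨hpq, hpr, hps, hqr, hqs, hrs⟩ := hd
  obtain ⟨x, hx, hxp, hxr, hxs⟩ := C.exists_tr ⟨hpq, hpr, hps, hqr, hqs, hrs⟩
  obtain ⟨y, hy, hyr, hyp, hyq⟩ := C.exists_tr (p := r) (q := c r) (r := p) (s := c p)
    ⟨hrs, hpr.symm, hqr.symm, hps.symm, hqs.symm, hpq⟩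
  obtain ⟨b1, b2, b3, b4⟩ := forall_four.1 hh.2
  have hconj : ∀ w, Inv G w → ∀ g ∈ G, Inv G (g * w * g⁻¹) := fun w hw g hg =>
    ⟨mul_mem (mul_mem hg hw.1) (inv_mem hg), by rw [conj_mul, hw.2.1, mul_one, mul_inv_cancel],
      fun e => hw.2.2 (conj_eq_one_iff.1 e)⟩
  have hi : ∀ {g : Perm α} {a : α}, g a = a → g.symm a = a := fun {g a} e => by
    rw [symm_apply_eq, e]
  have hhx : h * x * h⁻¹ = x := C.tr_unique hB ⟨hpq, hpr, hps, hqr, hqs, hrs⟩ (hconj x hx h hh.1) hx
    (by simp [hi b1, hxp, b2]) (by simp [hi b3, hxr, b3]) (by simp [hi b4, hxs, b4]) hxp hxr hxs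
  have hhy : h * y * h⁻¹ = y := C.tr_unique hB ⟨hrs, hpr.symm, hqr.symm, hps.symm, hqs.symm, hpq⟩
    (hconj y hy h hh.1) hy (by simp [hi b3, hyr, b4]) (by simp [hi b1, hyp, b1])
    (by simp [hi b2, hyq, b2]) hyr hyp hyq
  have hyx : y * x * y⁻¹ = x := C.tr_unique hB ⟨hpq, hpr, hps, hqr, hqs, hrs⟩ (hconj x hx y hy.1) hx
    (by simp [hi hyp, hxp, hyq]) (by
      rw [hy.inv_eq, Perm.mul_apply, Perm.mul_apply, hyr, hxs]
      nth_rewrite 1 [← hyr]
      rw [hy.apply]) (by
      rw [hy.inv_eq, Perm.mul_apply, Perm.mul_apply]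
      nth_rewrite 1 [← hyr]
      rw [hy.apply, hxr, hyr]) hxp hxr hxs
  have hxy : x * y = y * x := (mul_inv_eq_iff_eq_mul.1 hyx).symm
  have hz : Inv G (x * y) := ⟨mul_mem hx.1 hy.1, by
    rw [mul_assoc, ← mul_assoc y, ← hxy, mul_assoc, hy.2.1, mul_one, hx.2.1], fun e => hpq (by
      have := congrArg (fun f : Perm α => f p) e
      simp only [Perm.mul_apply, hyp, hxp, Perm.one_apply] at this
      exact this.symm)⟩
  have hxq : x (c p) = p := by rw [← hxp, hx.apply]
  have hys : y (c r) = r := by rw [← hyr, hy.apply]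
  obtain ⟨u, hu, e⟩ := C.agree_conj hz hc (S := {p, c p, r, c r})
    (by rw [d4_card ⟨hpq, hpr, hps, hqr, hqs, hrs⟩])
    (forall_four.2 ⟨by simp [hyp, hxp], by simp [hyq, hxq, hc.apply], by simp [hyr, hxs],
      by simp [hys, hxr, hc.apply]⟩)
    (forall_four.2 ⟨by simp [hyp, hxp], by simp [hyq, hxq], by simp [hyr, hxs], by simp [hys, hxr]⟩)
  obtain ⟨u1, u2, u3, u4⟩ := forall_four.1 hu.2
  have hux : u * x * u⁻¹ = x := C.tr_unique hB ⟨hpq, hpr, hps, hqr, hqs, hrs⟩ (hconj x hx u hu.1) hx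
    (by simp [hi u1, hxp, u2]) (by simp [hi u3, hxr, u3]) (by simp [hi u4, hxs, u4]) hxp hxr hxs
  have huy : u * y * u⁻¹ = y := C.tr_unique hB ⟨hrs, hpr.symm, hqr.symm, hps.symm, hqs.symm, hpq⟩
    (hconj y hy u hu.1) hy (by simp [hi u3, hyr, u4]) (by simp [hi u1, hyp, u1])
    (by simp [hi u2, hyq, u2]) hyr hyp hyq
  have hcz : c = x * y := by rw [e, ← conj_mul, hux, huy]
  have hhc : h * c * h⁻¹ = c := by rw [hcz, ← conj_mul, hhx, hhy]
  intro w hw
  rw [← C.fx_conj h c, hhc] at hw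
  exact hw

theorem stab : Stab G := by
  classical
  by_cases hB : ∀ a b, Inv G a → Inv G b → a * b = b * a → ∀ t u, t ≠ u → a t = t → a u = u →
      b t = t → b u = u → a = b
  · exact C.stab_of_unique hB
  · push Not at hB
    obtain ⟨a, b, ha, hb, hab, t, u, htu, h1, h2, h3, h4, hne⟩ := hB
    exact C.stab_of_commuting ha hb hne hab htu h1 h2 h3 h4

/-- The kernel on the fixed points is trivial. -/
theorem kernel_data {c : Perm α} (hc : Inv G c) {p t u : α} (hp : c p ≠ p) (htu : t ≠ u)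
    (ht : c t = t) (hu : c u = u) :
    ∀ h ∈ fixG G {p, c p, t, u}, (∀ x ∈ fx c, h x = x) → h = 1 := by
  classical
  have hd : D4 p (c p) t u := ⟨Ne.symm hp, fun e => hp (by rw [e, ht]),
    fun e => hp (by rw [e, hu]), fun e => hp (c.injective (e.trans ht.symm) ▸ ht),
    fun e => hp (c.injective (e.trans hu.symm) ▸ hu), htu⟩
  obtain ⟨hpq, hpt, hpu, hqt, hqu, -⟩ := hd
  obtain ⟨y₀, hy₀, y₀p, y₀t⟩ := C.exists_sw ⟨hpq, hpt, hpu, hqt, hqu, htu⟩
  have hy₀q : y₀ (c p) = p := by rw [← y₀p, hy₀.apply]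
  have hy₀u : y₀ u = t := by rw [← y₀t, hy₀.apply]
  have hi : c⁻¹ = c := hc.inv_eq
  have hw : y₀ * (c * y₀ * c⁻¹) ∈ fixG G {p, c p, t, u} :=
    ⟨mul_mem hy₀.1 (mul_mem (mul_mem hc.1 hy₀.1) (inv_mem hc.1)), forall_four.2
      ⟨by simp [hi, hy₀q, y₀p, hc.apply], by simp [hi, y₀p, hy₀q, hc.apply],
        by simp [hi, ht, y₀t, hu, hy₀u], by simp [hi, hu, hy₀u, ht, y₀t]⟩⟩
  obtain ⟨j, hj⟩ := exists_sqrt _ (C.odd_fixG (by rw [d4_card ⟨hpq, hpt, hpu, hqt, hqu, htu⟩]) hw)
  set w := y₀ * (c * y₀ * c⁻¹) with hwdef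
  set v := w ^ j with hvdef
  have hinv₀ : y₀ * w * y₀⁻¹ = w⁻¹ := by
    rw [hwdef, mul_inv_rev, ← mul_assoc y₀ y₀, hy₀.2.1, one_mul, conj_inv, hy₀.inv_eq]
  have hinvc : c * w * c⁻¹ = w⁻¹ := by
    rw [hwdef, mul_inv_rev, conj_inv, hy₀.inv_eq, hi]
    calc c * (y₀ * (c * y₀ * c)) * c = c * y₀ * c * y₀ * (c * c) := by group
      _ = _ := by rw [hc.2.1, mul_one]
  have hyv : y₀ * v * y₀⁻¹ = v⁻¹ := inv_pow_of_inv hinv₀ j
  have hcv : c * v * c⁻¹ = v⁻¹ := inv_pow_of_inv hinvc j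
  set y := y₀ * v with hydef
  have hvm := pow_mem hw j
  obtain ⟨v1, v2, v3, v4⟩ := forall_four.1 hvm.2
  have hyy : y * y = 1 := by
    rw [hydef]
    calc y₀ * v * (y₀ * v) = (y₀ * v * y₀⁻¹) * (y₀ * y₀) * v := by group
      _ = 1 := by rw [hyv, hy₀.2.1, mul_one, inv_mul_cancel]
  have hy : Inv G y := ⟨mul_mem hy₀.1 hvm.1, hyy, fun e => hpq (by
    have := congrArg (fun f : Perm α => f p) e
    simp only [hydef, Perm.mul_apply, hvdef, v1, y₀p, Perm.one_apply] at this
    exact this.symm)⟩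
  have hcy : c * y * c⁻¹ = y := by
    have h1 : c * y₀ * c⁻¹ = y₀ * w := by rw [hwdef, ← mul_assoc y₀ y₀, hy₀.2.1, one_mul]
    rw [hydef, ← conj_mul, h1, hcv]
    calc y₀ * w * v⁻¹ = y₀ * (v * v) * v⁻¹ := by rw [hvdef, hj]
      _ = y₀ * v := by group
  have hyp : y p = c p := by rw [hydef, Perm.mul_apply, hvdef, v1, y₀p]
  have hyt : y t = u := by rw [hydef, Perm.mul_apply, hvdef, v3, y₀t]
  have hdy : D4 p (y p) t (y t) := by rw [hyp, hyt]; exact ⟨hpq, hpt, hpu, hqt, hqu, htu⟩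
  -- `h` fixing `p, c p` and the fixed points of `c` fixes those of `y`
  have hfy : ∀ h ∈ fixG G {p, c p, t, u}, (∀ x ∈ fx c, h x = x) → ∀ x ∈ fx y, h x = x := by
    intro h hh hfix
    have hstab := C.stab y hy p t hdy h (by rw [hyp, hyt]; exact hh)
    refine odd_small (C.odd_fixG (by rw [d4_card ⟨hpq, hpt, hpu, hqt, hqu, htu⟩]) hh) hstab ?_
    rcases Nat.lt_or_ge (fx y).card 3 with h2 | h3
    · left; omega
    · right
      refine ⟨C.fx_le hy, ?_⟩
      by_contra hcon
      push Not at hcon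
      have hce : ∀ x ∈ fx y, c x ∈ fx y := fun x hx => by
        rw [← C.fx_conj c y, hcy] at hx
        exact hx
      -- `c` permutes three points
      let σ : Perm {x // x ∈ fx y} := c.subtypePerm fun x =>
        ⟨fun hx => by have := hce _ hx; rwa [hc.apply] at this, hce x⟩
      have hσ : σ ^ 2 ^ 1 = 1 := by
        ext x
        simp [σ, pow_two, hc.apply]
      haveI : Fact (Nat.Prime 2) := ⟨Nat.prime_two⟩
      obtain ⟨⟨x, hx⟩, hxf⟩ := Perm.exists_fixed_point_of_prime (p := 2) (n := 1)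
        (by rw [Fintype.card_coe]; have := C.fx_le hy; omega) hσ
      exact hcon x hx (hfix x (mem_fx.2 (congrArg Subtype.val hxf)))
  have hconj : ∀ r, D4 p (c p) r (c r) →
      fixG G ({p, c p, r, c r} ∪ fx c) = fixG G ({p, c p, t, u} ∪ fx y) := by
    intro r hr
    have hle : fixG G ({p, c p, r, c r} ∪ fx c) ≤ fixG G ({p, c p, t, u} ∪ fx y) := by
      intro h hh
      have hh' : h ∈ fixG G {p, c p, t, u} := ⟨hh.1, forall_four.2
        ⟨hh.2 p (by simp), hh.2 _ (by simp), hh.2 t (by simp [mem_fx, ht]), hh.2 u (by simp [mem_fx, hu])⟩⟩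
      refine ⟨hh.1, fun x hx => ?_⟩
      rcases Finset.mem_union.1 hx with hx | hx
      · exact hh'.2 x hx
      · exact hfy h hh' (fun z hz => hh.2 z (Finset.mem_union_right _ hz)) x hx
    refine Subgroup.eq_of_le_of_card_ge hle ?_
    obtain ⟨g, hg, e, a1, a2, a3, a4⟩ := C.conj_all hy hc hdy hr
    rw [hyp] at a2
    rw [hyt] at a4
    rw [← Subgroup.card_map_of_injective (f := (MulAut.conj g).toMonoidHom)
      (MulAut.conj g).injective]
    refine le_of_eq (congrArg (fun K : Subgroup (Perm α) => Nat.card K) ?_)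
    ext h
    rw [Subgroup.mem_map_equiv, MulAut.conj_symm_apply]
    have hset : {p, c p, r, c r} ∪ fx c = ({p, c p, t, u} ∪ fx y).map g.toEmbedding := by
      rw [Finset.map_union, ← C.fx_conj', ← e]
      simp [a1, a2, a3, a4]
    rw [hset, mem_fixG, mem_fixG]
    have hG : g⁻¹ * h * g ∈ G ↔ h ∈ G :=
      (mul_mem_cancel_right hg).trans (mul_mem_cancel_left (inv_mem hg))
    simp only [Finset.forall_mem_map, Equiv.coe_toEmbedding, Perm.mul_apply, Perm.inv_eq_iff_eq]
    rw [hG]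
  intro h hh hfix
  have hmem : h ∈ fixG G ({p, c p, t, u} ∪ fx y) := ⟨hh.1, fun x hx => by
    rcases Finset.mem_union.1 hx with hx | hx
    exacts [hh.2 x hx, hfy h hh hfix x hx]⟩
  obtain ⟨b1, b2, -, -⟩ := forall_four.1 hh.2
  refine Equiv.ext fun r => ?_
  show h r = r
  by_cases hr : c r = r
  · exact hfix r (mem_fx.2 hr)
  by_cases hrp : r = p
  · rw [hrp, b1]
  by_cases hrq : r = c p
  · rw [hrq, b2]
  rw [← hconj r ⟨hpq, Ne.symm hrp, fun e => hrq (by rw [e, hc.apply]), Ne.symm hrq,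
    fun e => hrp (c.injective e).symm, Ne.symm hr⟩] at hmem
  exact hmem.2 r (by simp)

/-- **Hall.** -/
theorem trivial_stab {p q r s : α} (hd : D4 p q r s) : fixG G {p, q, r, s} = ⊥ := by
  classical
  obtain ⟨c, hc, hcp, hcr⟩ := C.exists_sw hd
  have hcs : c s = r := by rw [← hcr, hc.apply]
  subst hcp hcr
  obtain ⟨t, ht, u, hu, htu⟩ := Finset.one_lt_card.1 (C.fx_ge hc)
  rw [mem_fx] at ht hu
  refine (Subgroup.eq_bot_iff_forall _).2 fun h hh => ?_
  by_contra hne
  have hodd := C.odd_fixG (by rw [d4_card hd]) hh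
  obtain ⟨b1, b2, b3, b4⟩ := forall_four.1 hh.2
  have hp : c p ≠ p := Ne.symm hd.1
  have hker := C.kernel_data hc hp htu ht hu
  have hstab := C.stab c hc p r hd h hh
  have hmv : ∀ g ∈ G, g p = p → g (c p) = c p → (∀ x ∈ fx c, g x = x) → g = 1 := fun g hg g1 g2 g3 =>
    hker g ⟨hg, forall_four.2 ⟨g1, g2, g3 t (mem_fx.2 ht), g3 u (mem_fx.2 hu)⟩⟩ g3
  have hnofix : ∀ x ∈ fx c, h x ≠ x := fun x hx e => hne (hmv h hh.1 b1 b2
    (odd_small hodd hstab (Or.inr ⟨C.fx_le hc, x, hx, e⟩)))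
  have h3 : (fx c).card = 3 := by
    have := C.fx_le hc
    by_contra hn3
    exact hnofix t (mem_fx.2 ht) (odd_small hodd hstab (Or.inl (by omega)) t (mem_fx.2 ht))
  -- on the three points `h` is a 3-cycle
  have h3c : ∀ g : Perm α, Odd (orderOf g) → (∀ x ∈ fx c, g x ∈ fx c) → (∀ x ∈ fx c, g x ≠ x) →
      ∀ x ∈ fx c, fx c = {x, g x, g (g x)} ∧ g (g (g x)) = x := by
    intro g hg hgs hgn x hx
    have n1 : g x ≠ x := hgn x hx
    have n2 : g (g x) ≠ x := fun e => n1 (odd_fix_of_sq hg e)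
    have n3 : g (g x) ≠ g x := fun e => n1 (g.injective e)
    have hsub : ({x, g x, g (g x)} : Finset α) ⊆ fx c := by
      simp [Finset.insert_subset_iff, hx, hgs x hx, hgs _ (hgs x hx)]
    have e := Finset.eq_of_subset_of_card_le hsub (by
      rw [h3]; simp [Ne.symm n1, Ne.symm n2, Ne.symm n3])
    refine ⟨e.symm, ?_⟩
    have hm := hgs _ (hgs _ (hgs x hx))
    rw [← e] at hm
    simp only [Finset.mem_insert, Finset.mem_singleton] at hm
    rcases hm with hm | hm | hm
    · exact hm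
    · exact absurd (g.injective hm) n2
    · exact absurd (g.injective hm) n3
  have hcomm : ∀ g ∈ G, g p = p → g (c p) = c p → (∀ x ∈ fx c, g x ∈ fx c) →
      c * g * c⁻¹ * g⁻¹ = 1 := by
    intro g hg g1 g2 gs
    refine hmv _ (mul_mem (mul_mem (mul_mem hc.1 hg) (inv_mem hc.1)) (inv_mem hg)) ?_ ?_ ?_
    · simp [(symm_apply_eq g).2 g1.symm, hc.inv_eq, g2, hc.apply]
    · simp [(symm_apply_eq g).2 g2.symm, hc.inv_eq, g1, hc.apply]
    · intro x hx
      have hinj : ∀ y ∈ fx c, ∃ z ∈ fx c, g z = y := fun y hy => by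
        have hm : (fx c).map g.toEmbedding = fx c := Finset.eq_of_subset_of_card_le
          (fun z hz => by
            obtain ⟨a, ha, rfl⟩ := Finset.mem_map.1 hz
            exact gs a ha) (by rw [Finset.card_map])
        rw [← hm] at hy
        obtain ⟨z, hz, e⟩ := Finset.mem_map.1 hy
        exact ⟨z, hz, e⟩
      obtain ⟨z, hz, rfl⟩ := hinj x hx
      simp [hc.inv_eq, mem_fx.1 hz, mem_fx.1 (gs z hz)]
  have hpow : h * h * h = 1 := hmv _ (mul_mem (mul_mem hh.1 hh.1) hh.1)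
    (by simp [b1]) (by simp [b2]) (fun x hx => by simpa using (h3c h hodd hstab hnofix x hx).2)
  -- `h` fixes every point outside the fixed points of `c`
  have hout : ∀ x, c x ≠ x → h x = x := by
    intro x hx
    by_cases hxp : x = p
    · rw [hxp, b1]
    by_cases hxq : x = c p
    · rw [hxq, b2]
    have hd' : D4 p (c p) x (c x) := ⟨hd.1, Ne.symm hxp, fun e => hxq (by rw [e, hc.apply]),
      Ne.symm hxq, fun e => hxp (c.injective e).symm, Ne.symm hx⟩
    obtain ⟨k, hk, hkt⟩ : ∃ k ∈ fixG G {p, c p, x, c x}, k t ≠ t := by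
      by_contra hcon
      push Not at hcon
      have hfixall : ∀ k ∈ fixG G {p, c p, x, c x}, k = 1 := fun k hk =>
        hmv k hk.1 (forall_four.1 hk.2).1 (forall_four.1 hk.2).2.1
          (odd_small (C.odd_fixG (by rw [d4_card hd']) hk) (C.stab c hc p x hd' k hk)
            (Or.inr ⟨C.fx_le hc, t, mem_fx.2 ht, hcon k hk⟩))
      obtain ⟨g, hg, e, a1, a2, a3, a4⟩ := C.conj_all hc hc hd hd'
      refine hne (conj_eq_one_iff.1 (hfixall (g * h * g⁻¹) ⟨mul_mem (mul_mem hg hh.1) (inv_mem hg), ?_⟩))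
      exact forall_four.2 ⟨by rw [← a1]; simp [b1], by rw [← a2]; simp [b2], by rw [← a3]; simp [b3],
        by rw [← a4]; simp [b4]⟩
    obtain ⟨k1, k2, k3, -⟩ := forall_four.1 hk.2
    have hko := C.odd_fixG (by rw [d4_card hd']) hk
    have hks := C.stab c hc p x hd' k hk
    have hkn : ∀ y ∈ fx c, k y ≠ y := fun y hy e =>
      hkt (odd_small hko hks (Or.inr ⟨C.fx_le hc, y, hy, e⟩) t (mem_fx.2 ht))
    obtain ⟨hTk, hk3⟩ := h3c k hko hks hkn t (mem_fx.2 ht)
    obtain ⟨hTh, hh3⟩ := h3c h hodd hstab hnofix t (mem_fx.2 ht)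
    -- `k = h` or `k = h * h` on the three points
    have hcase : k = h ∨ k = h * h := by
      have hht : k t = h t ∨ k t = h (h t) := by
        have hm := hks t (mem_fx.2 ht)
        rw [hTh] at hm
        simp only [Finset.mem_insert, Finset.mem_singleton] at hm
        rcases hm with e | e | e
        · exact absurd e hkt
        · exact Or.inl e
        · exact Or.inr e
      have hkk : ∀ l ∈ G, l p = p → l (c p) = c p → (∀ y ∈ fx c, l y ∈ fx c) →
          (∀ y ∈ fx c, l y ≠ y) → Odd (orderOf l) → k t = l t → k = l := by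
        intro l hl l1 l2 ls ln lo e
        obtain ⟨hTl, hl3⟩ := h3c l lo ls ln t (mem_fx.2 ht)
        have e2 : k (k t) = l (l t) := by
          have hm := hks _ (hks t (mem_fx.2 ht))
          rw [hTl] at hm
          simp only [Finset.mem_insert, Finset.mem_singleton] at hm
          rcases hm with e' | e' | e'
          · exact absurd (odd_fix_of_sq hko e') hkt
          · exact absurd (k.injective (e'.trans e.symm)) hkt
          · exact e'
        refine (inv_mul_eq_one.1 (hmv (l⁻¹ * k) (mul_mem (inv_mem hl) hk.1) ?_ ?_ ?_)).symm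
        · simp [k1, symm_apply_eq, l1]
        · simp [k2, symm_apply_eq, l2]
        · intro y hy
          rw [hTl] at hy
          simp only [Finset.mem_insert, Finset.mem_singleton] at hy
          rw [Perm.mul_apply, Perm.inv_eq_iff_eq]
          rcases hy with rfl | rfl | rfl
          · exact e
          · rw [← e, e2]
            rw [e]
          · rw [← e2, hk3, e2, hl3]
      rcases hht with e | e
      · exact Or.inl (hkk h hh.1 b1 b2 hstab hnofix hodd e)
      · exact Or.inr (hkk (h * h) (mul_mem hh.1 hh.1) (by simp [b1]) (by simp [b2])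
          (fun y hy => hstab _ (hstab y hy))
          (fun y hy e' => hnofix y hy (odd_fix_of_sq hodd e'))
          (by
            rw [← pow_two]
            exact hodd.of_dvd_nat (orderOf_pow_dvd 2)) e)
    rcases hcase with e | e
    · rw [← e]; exact k3
    · rw [e] at k3; exact odd_fix_of_sq hodd k3
  have hsupp : h.support ⊆ fx c := fun x hx => by
    by_contra hn
    exact Perm.mem_support.1 hx (hout x fun e => hn (mem_fx.2 e))
  have hs3 : h.support.card = 3 := by
    rw [← h3]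
    refine le_antisymm (Finset.card_le_card hsupp) (Finset.card_le_card fun x hx => ?_)
    exact Perm.mem_support.2 (hnofix x hx)
  have h8 := C.card
  have hprim : IsPreprimitive G α := by
    haveI := C.four
    have h2 : IsMultiplyPretransitive G α 2 :=
      isMultiplyPretransitive_of_le (m := 2) (n := 4) (by norm_num)
        (by rw [Nat.card_eq_fintype_card]; omega)
    exact MulAction.isPreprimitive_of_is_two_pretransitive h2
  have hA := Perm.alternatingGroup_le_of_isPreprimitive_of_isThreeCycle_mem hprim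
    (card_support_eq_three_iff.1 hs3) hh.1
  -- a double transposition fixes at least four points
  obtain ⟨d1, d2, d3, d4, d5, d6⟩ := hd
  have hxA : swap p (c p) * swap r (c r) ∈ G := hA (by
    rw [Perm.mem_alternatingGroup, map_mul, Perm.sign_swap d1, Perm.sign_swap d6]; rfl)
  have hfix4 : 4 ≤ (fx (swap p (c p) * swap r (c r))).card := by
    have hsub : (swap p (c p) * swap r (c r)).support ⊆ {p, c p, r, c r} := by
      refine (Perm.support_mul_le _ _).trans ?_
      rw [Perm.support_swap d1, Perm.support_swap d6]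
      intro x hx
      simp only [Finset.sup_eq_union, Finset.mem_union, Finset.mem_insert, Finset.mem_singleton] at hx ⊢
      tauto
    have := Finset.card_le_card hsub
    have := Finset.card_le_four (a := p) (b := c p) (c := r) (d := c r)
    rw [fx, Finset.card_compl]
    omega
  have hoddx := C.odd _ hxA hfix4
  have hfix : (swap p (c p) * swap r (c r)) p = p := by
    refine odd_fix_of_sq hoddx ?_
    simp [swap_apply_of_ne_of_ne, d2, d3, d4, d5, d1.symm]
  rw [Perm.mul_apply, swap_apply_of_ne_of_ne d2 d3, swap_apply_left] at hfix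
  exact hp hfix

end Ctx

end H64.FourOdd
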