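import Mathlib

/-! A kernel-cheap model of the field with 16 elements: `ℕ` codes modulo `x⁴ + x + 1`. -/

namespace H64

/-- The multiplication table of `GF(16)`, four bits for each entry. -/
def k16Table : ℕ := 0xa5783ce1b4692df05ba48679c23d1fe07ae36bf258c149d0843fd16a2e957bc0386d92c74f1ae5b0c6b1285f394ed7a0e7f6c5d4a3b28190192a7f4cd5e6b380bc5243ad618f9e70428ef93517dbac6063c914be8d27fa509d15ae26fb73c8402147ed8b9afc5630df9b5713eca86420fedcba98765432100000000000000000

/-- Multiplication of codes. -/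
def m16 (a b : ℕ) : ℕ := (k16Table >>> (4 * (16 * a + b))) % 16

/-- The table of inverses, four bits for each entry. -/
def k16InvTable : ℕ := 0x834a5c2f67bde910

/-- Inversion of codes. -/
def i16 (a : ℕ) : ℕ := (k16InvTable >>> (4 * a)) % 16

/-- The field with 16 elements. -/
structure K16 where
  /-- The code. -/
  v : Fin 16
deriving DecidableEq

namespace K16

/-- Codes are elements. -/
def equivFin : K16 ≃ Fin 16 := ⟨K16.v, K16.mk, fun _ => rfl, fun _ => rfl⟩

instance : Fintype K16 := Fintype.ofEquiv _ equivFin.symm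

theorem add_lt (a b : Fin 16) : (a : ℕ) ^^^ (b : ℕ) < 16 := Nat.xor_lt_two_pow (n := 4) a.2 b.2

instance : Zero K16 := ⟨⟨⟨0, by norm_num⟩⟩⟩
instance : One K16 := ⟨⟨⟨1, by norm_num⟩⟩⟩
instance : Add K16 := ⟨fun a b => ⟨⟨(a.v : ℕ) ^^^ (b.v : ℕ), add_lt _ _⟩⟩⟩
instance : Neg K16 := ⟨fun a => a⟩
instance : Mul K16 := ⟨fun a b => ⟨⟨m16 a.v b.v, Nat.mod_lt _ (by norm_num)⟩⟩⟩
instance : Inv K16 := ⟨fun a => ⟨⟨i16 a.v, Nat.mod_lt _ (by norm_num)⟩⟩⟩

theorem k16_assoc : ∀ a b c : K16, a + b + c = a + (b + c) := by decide +kernel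
theorem k16_mul_assoc : ∀ a b c : K16, a * b * c = a * (b * c) := by decide +kernel
theorem k16_distrib : ∀ a b c : K16, a * (b + c) = a * b + a * c := by decide +kernel

instance : Field K16 :=
  Field.ofMinimalAxioms K16 k16_assoc (by decide +kernel) (by decide +kernel) k16_mul_assoc
    (by decide +kernel) (by decide +kernel) (by decide +kernel) (by decide +kernel) k16_distrib
    ⟨0, 1, by decide +kernel⟩

theorem card_eq : Fintype.card K16 = 16 := by rw [Fintype.card_congr equivFin, Fintype.card_fin]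

theorem val_add (a b : K16) : ((a + b).v : ℕ) = (a.v : ℕ) ^^^ (b.v : ℕ) := rfl
theorem val_mul (a b : K16) : ((a * b).v : ℕ) = m16 a.v b.v := rfl
theorem val_inj {a b : K16} : (a.v : ℕ) = b.v ↔ a = b :=
  ⟨fun h => by cases a; cases b; exact congrArg K16.mk (Fin.ext h), fun h => h ▸ rfl⟩

theorem add_pow_four : ∀ a b : K16, (a + b) ^ 4 = a ^ 4 + b ^ 4 := by decide +kernel

end K16

end H64
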