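import Mathlib

/-! A kernel-cheap model of the field with 8 elements: `ℕ` codes modulo `x³ + x + 1`. -/

namespace H64

/-- The multiplication table of `GF(8)`, four bits for each entry. -/
def k8Table : ℕ := 0x3461257042351760637241501526734021475630571364207654321000000000

/-- Multiplication of codes. -/
def m8 (a b : ℕ) : ℕ := (k8Table >>> (4 * (8 * a + b))) % 8

/-- The table of inverses. -/
def k8InvTable : ℕ := 0x43276510

/-- The field with 8 elements. -/
structure K8 where
  /-- The code. -/
  v : Fin 8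
deriving DecidableEq

namespace K8

/-- Codes are elements. -/
def equivFin : K8 ≃ Fin 8 := ⟨K8.v, K8.mk, fun _ => rfl, fun _ => rfl⟩

instance : Fintype K8 := Fintype.ofEquiv _ equivFin.symm

theorem add_lt (a b : Fin 8) : (a : ℕ) ^^^ (b : ℕ) < 8 := Nat.xor_lt_two_pow (n := 3) a.2 b.2

instance : Zero K8 := ⟨⟨⟨0, by norm_num⟩⟩⟩
instance : One K8 := ⟨⟨⟨1, by norm_num⟩⟩⟩
instance : Add K8 := ⟨fun a b => ⟨⟨(a.v : ℕ) ^^^ (b.v : ℕ), add_lt _ _⟩⟩⟩
instance : Neg K8 := ⟨fun a => a⟩
instance : Mul K8 := ⟨fun a b => ⟨⟨m8 a.v b.v, Nat.mod_lt _ (by norm_num)⟩⟩⟩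
instance : Inv K8 := ⟨fun a => ⟨⟨(k8InvTable >>> (4 * (a.v : ℕ))) % 8, Nat.mod_lt _ (by norm_num)⟩⟩⟩

theorem k8_assoc : ∀ a b c : K8, a + b + c = a + (b + c) := by decide +kernel
theorem k8_mul_assoc : ∀ a b c : K8, a * b * c = a * (b * c) := by decide +kernel
theorem k8_distrib : ∀ a b c : K8, a * (b + c) = a * b + a * c := by decide +kernel

instance : Field K8 :=
  Field.ofMinimalAxioms K8 k8_assoc (by decide +kernel) (by decide +kernel) k8_mul_assoc
    (by decide +kernel) (by decide +kernel) (by decide +kernel) (by decide +kernel) k8_distrib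
    ⟨0, 1, by decide +kernel⟩

theorem card_eq : Fintype.card K8 = 2 ^ (2 * 1 + 1) := by rw [Fintype.card_congr equivFin, Fintype.card_fin]; norm_num

/-- Squaring. -/
def frob : K8 ≃+* K8 where
  toFun a := a * a
  invFun a := (a * a) * (a * a)
  left_inv := by intro a; revert a; decide +kernel
  right_inv := by intro a; revert a; decide +kernel
  map_mul' := by decide +kernel
  map_add' := by decide +kernel

/-- Powers of squaring, indexed by `ℤ/3`. -/
def galHom : Multiplicative (ZMod 3) →* (K8 ≃+* K8) where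
  toFun b := frob ^ b.toAdd.val
  map_one' := pow_zero _
  map_mul' b c := by
    have h : ∀ x y : ZMod 3, (x + y).val = x.val + y.val ∨ (x + y).val + 3 = x.val + y.val := by decide
    have h3 : frob ^ 3 = 1 := RingEquiv.ext (by decide +kernel)
    rw [← pow_add]
    rcases h b.toAdd c.toAdd with e | e
    · rw [toAdd_mul, e]
    · rw [toAdd_mul, ← e, pow_add, h3, mul_one]

end K8

end H64
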