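import Mathlib

/-! Two primes in `(n/2, n]` for `n ≥ 11`. -/

namespace H64

open Nat in
theorem centralBinom_le_of_one_bertrand_prime (n : ℕ) (n_large : 2 < n) (p0 : ℕ)
    (one_prime : ∀ p : ℕ, p.Prime → n < p → p ≤ 2 * n → p = p0) :
    centralBinom n ≤ (2 * n) ^ Nat.sqrt (2 * n) * 4 ^ (2 * n / 3) := by
  have n2_pos : 1 ≤ 2 * n := by omega
  let f x := x ^ n.centralBinom.factorization x
  have hf : ∀ p, f p ≤ 2 * n := fun p => pow_factorization_choose_le (by omega)
  let S := {p ∈ Finset.range (2 * n + 1) | Nat.Prime p}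
  have hS : n.centralBinom = ∏ p ∈ S, f p := by
    refine (Eq.trans ?_ n.prod_pow_factorization_centralBinom).symm
    refine Finset.prod_filter_of_ne fun p _ h => ?_
    contrapose h; dsimp only [f]
    rw [factorization_eq_zero_of_not_prime n.centralBinom h, _root_.pow_zero]
  have h1 : ∏ p ∈ S.filter (· ≤ Nat.sqrt (2 * n)), f p ≤ (2 * n) ^ (Nat.sqrt (2 * n) - 1) := by
    refine (Finset.prod_le_prod' fun p _ => hf p).trans ?_
    rw [Finset.prod_const]
    refine pow_right_mono₀ n2_pos ?_
    have : (Finset.Icc 2 (Nat.sqrt (2 * n))).card = Nat.sqrt (2 * n) - 1 := by rw [card_Icc]; omega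
    refine (Finset.card_le_card fun x hx => ?_).trans this.le
    obtain ⟨h1, h2⟩ := Finset.mem_filter.1 hx
    exact Finset.mem_Icc.mpr ⟨(Finset.mem_filter.1 h1).2.two_le, h2⟩
  let T := S.filter (fun p => ¬ p ≤ Nat.sqrt (2 * n))
  have h2 : ∏ p ∈ T.filter (· ≤ n), f p ≤ 4 ^ (2 * n / 3) := by
    refine le_trans ?_ (primorial_le_four_pow (2 * n / 3))
    rw [← Finset.prod_filter_of_ne (p := fun p => p ≤ 2 * n / 3) (s := T.filter (· ≤ n)) (fun p hp hne => ?_)]
    · refine (Finset.prod_le_prod' fun p hp => (?_ : f p ≤ p)).trans ?_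
      · simp only [T, S, Finset.mem_filter] at hp
        refine (pow_right_mono₀ hp.1.1.1.2.one_lt.le ?_).trans (pow_one p).le
        exact Nat.factorization_choose_le_one (sqrt_lt'.mp <| not_le.1 hp.1.1.2)
      · refine Finset.prod_le_prod_of_subset_of_one_le' (fun p hp => ?_) ?_
        · simp only [T, S, Finset.mem_filter] at hp
          rw [Finset.mem_filter, Finset.mem_range]
          exact ⟨by omega, hp.1.1.1.2⟩
        · exact fun p hp _ => (Finset.mem_filter.1 hp).2.one_lt.le
    · by_contra hcon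
      apply hne
      simp only [T, S, Finset.mem_filter] at hp
      show p ^ _ = 1
      rw [factorization_centralBinom_of_two_mul_self_lt_three_mul n_large hp.2 (by omega), Nat.pow_zero]
  have h3 : ∏ p ∈ T.filter (fun p => ¬ p ≤ n), f p ≤ 2 * n := by
    have hc : (T.filter (fun p => ¬ p ≤ n)).card ≤ 1 := by
      rw [Finset.card_le_one]
      intro a ha b hb
      simp only [T, S, Finset.mem_filter, Finset.mem_range] at ha hb
      rw [one_prime a ha.1.1.2 (by omega) (by omega), one_prime b hb.1.1.2 (by omega) (by omega)]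
    refine (Finset.prod_le_prod' fun p _ => hf p).trans ?_
    rw [Finset.prod_const]
    exact (pow_right_mono₀ n2_pos hc).trans (pow_one _).le
  rw [hS, ← Finset.prod_filter_mul_prod_filter_not S (· ≤ Nat.sqrt (2 * n)),
    ← Finset.prod_filter_mul_prod_filter_not T (· ≤ n)]
  have hs : 1 ≤ Nat.sqrt (2 * n) := Nat.sqrt_pos.2 (by omega)
  calc _ ≤ (2 * n) ^ (Nat.sqrt (2 * n) - 1) * (4 ^ (2 * n / 3) * (2 * n)) :=
        Nat.mul_le_mul h1 (Nat.mul_le_mul h2 h3)
    _ = (2 * n) ^ (Nat.sqrt (2 * n) - 1 + 1) * 4 ^ (2 * n / 3) := by rw [pow_succ]; ring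
    _ = _ := by rw [Nat.sub_add_cancel hs]

theorem exists_two_primes_double (n : ℕ) (hn : 6 ≤ n) :
    ∃ p q : ℕ, p.Prime ∧ q.Prime ∧ p ≠ q ∧ n < p ∧ p ≤ 2 * n ∧ n < q ∧ q ≤ 2 * n := by
  by_cases h : 512 ≤ n
  · by_contra hcon
    push_neg at hcon
    obtain ⟨p0, hp0, h0, h0'⟩ := Nat.exists_prime_lt_and_le_two_mul n (by omega)
    have h1 := centralBinom_le_of_one_bertrand_prime n (by omega) p0 (fun p hp h1 h2 => by
      by_contra hne
      have := hcon p p0 hp hp0 hne h1 h2 h0
      omega)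
    have h2 := Nat.four_pow_lt_mul_centralBinom n (by omega)
    have h3 := bertrand_main_inequality h
    have h4 : n * n.centralBinom ≤ n * ((2 * n) ^ Nat.sqrt (2 * n) * 4 ^ (2 * n / 3)) :=
      Nat.mul_le_mul_left n h1
    rw [← mul_assoc] at h4
    omega
  · have step : ∀ p q, p.Prime → q.Prime → p < q → n < p → q ≤ 2 * n →
        ∃ p q : ℕ, p.Prime ∧ q.Prime ∧ p ≠ q ∧ n < p ∧ p ≤ 2 * n ∧ n < q ∧ q ≤ 2 * n :=
      fun p q hp hq hpq h1 h2 => ⟨p, q, hp, hq, hpq.ne, h1, by omega, by omega, h2⟩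
    by_cases h7 : n < 7
    · exact step 7 11 (by norm_num) (by norm_num) (by norm_num) h7 (by omega)
    by_cases h11 : n < 11
    · exact step 11 13 (by norm_num) (by norm_num) (by norm_num) h11 (by omega)
    by_cases h17 : n < 17
    · exact step 17 19 (by norm_num) (by norm_num) (by norm_num) h17 (by omega)
    by_cases h29 : n < 29
    · exact step 29 31 (by norm_num) (by norm_num) (by norm_num) h29 (by omega)
    by_cases h47 : n < 47
    · exact step 47 53 (by norm_num) (by norm_num) (by norm_num) h47 (by omega)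
    by_cases h83 : n < 83
    · exact step 83 89 (by norm_num) (by norm_num) (by norm_num) h83 (by omega)
    by_cases h157 : n < 157
    · exact step 157 163 (by norm_num) (by norm_num) (by norm_num) h157 (by omega)
    by_cases h293 : n < 293
    · exact step 293 307 (by norm_num) (by norm_num) (by norm_num) h293 (by omega)
    exact step 569 571 (by norm_num) (by norm_num) (by norm_num) (by omega) (by omega)

theorem exists_two_primes_half (n : ℕ) (hn : 11 ≤ n) :
    ∃ p q : ℕ, p.Prime ∧ q.Prime ∧ p ≠ q ∧ n < 2 * p ∧ p ≤ n ∧ n < 2 * q ∧ q ≤ n := by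
  by_cases h : n = 11
  · subst h
    exact ⟨7, 11, by norm_num, by norm_num, by norm_num, by norm_num, by norm_num, by norm_num, le_rfl⟩
  obtain ⟨p, q, hp, hq, hne, h1, h2, h3, h4⟩ := exists_two_primes_double (n / 2) (by omega)
  exact ⟨p, q, hp, hq, hne, by omega, by omega, by omega, by omega⟩

end H64
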