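import Mathlib
import Cfsg.Agent.H63.AltOrders
import Cfsg.Agent.H64.TwoPrimes
import Cfsg.Agent.H64.ThreePrimes

/-! Sections of groups with the order and spectrum of an alternating group. -/

namespace H64

theorem prime_dvd_lcm_multiset {p : ℕ} (hp : p.Prime) : ∀ m : Multiset ℕ, p ∣ m.lcm → ∃ a ∈ m, p ∣ a := by
  intro m
  induction m using Multiset.induction with
  | empty => intro h; rw [Multiset.lcm_zero] at h; exact absurd h hp.not_dvd_one
  | cons a m ih =>
    intro h
    rw [Multiset.lcm_cons] at h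
    rcases hp.dvd_mul.1 (h.trans (lcm_dvd_mul _ _)) with h | h
    · exact ⟨a, Multiset.mem_cons_self a m, h⟩
    · obtain ⟨b, hb, hd⟩ := ih h
      exact ⟨b, Multiset.mem_cons_of_mem hb, hd⟩

theorem alt_no_order {n p q : ℕ} (hp : p.Prime) (hq : q.Prime) (hpq : p ≠ q) (hn : n < p + q) :
    p * q ∉ Set.range (orderOf : alternatingGroup (Fin n) → ℕ) := by
  intro h
  obtain ⟨m, hs, h2, -, hl⟩ := H63.mem_range_orderOf_alt.1 h
  obtain ⟨a, ha, hpa⟩ := prime_dvd_lcm_multiset hp m (hl ▸ Dvd.intro q rfl)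
  obtain ⟨b, hb, hqb⟩ := prime_dvd_lcm_multiset hq m (hl ▸ Dvd.intro_left p rfl)
  have hap := Nat.le_of_dvd (by have := h2 a ha; omega) hpa
  have hbq := Nat.le_of_dvd (by have := h2 b hb; omega) hqb
  by_cases hab : a = b
  · subst hab
    have h1 := Nat.le_of_dvd (by have := h2 a ha; omega)
      (((Nat.coprime_primes hp hq).2 hpq).mul_dvd_of_dvd_of_dvd hpa hqb)
    have h3 := Multiset.le_sum_of_mem ha
    have h4 : p + q ≤ p * q := Nat.add_le_mul hp.two_le hq.two_le
    omega
  · obtain ⟨m', rfl⟩ := Multiset.exists_cons_of_mem ha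
    rcases Multiset.mem_cons.1 hb with h | h
    · exact hab h.symm
    · have h3 := Multiset.le_sum_of_mem h
      rw [Multiset.sum_cons] at hs
      omega

theorem alt_card_dvd {n : ℕ} (hn : 2 ≤ n) {p : ℕ} (hp : p.Prime) (hp3 : p ≠ 2) (hle : p ≤ n) :
    p ∣ Nat.card (alternatingGroup (Fin n)) := by
  haveI : Nontrivial (Fin n) := Fin.nontrivial_iff_two_le.2 hn
  have h : 2 * Nat.card (alternatingGroup (Fin n)) = n.factorial := by
    rw [two_mul_nat_card_alternatingGroup, Nat.card_perm, Nat.card_fin]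
  have h2 : p ∣ 2 * Nat.card (alternatingGroup (Fin n)) := h ▸ hp.dvd_factorial.2 hle
  rcases hp.dvd_mul.1 h2 with h3 | h3
  · exact absurd ((Nat.prime_dvd_prime_iff_eq hp Nat.prime_two).1 h3) hp3
  · exact h3

theorem alt_not_sq_dvd {n : ℕ} (hn : 2 ≤ n) {p : ℕ} (hp : p.Prime) (hlt : n < 2 * p) :
    ¬ p ^ 2 ∣ Nat.card (alternatingGroup (Fin n)) := by
  haveI : Nontrivial (Fin n) := Fin.nontrivial_iff_two_le.2 hn
  intro hd
  have h : 2 * Nat.card (alternatingGroup (Fin n)) = n.factorial := by
    rw [two_mul_nat_card_alternatingGroup, Nat.card_perm, Nat.card_fin]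
  have h2 : p ^ 2 ∣ n.factorial := h ▸ hd.mul_left 2
  haveI := Fact.mk hp
  have hsq : n < p ^ 2 := lt_of_lt_of_le hlt (by rw [sq]; exact Nat.mul_le_mul_right p hp.two_le)
  have hlog : Nat.log p n < 2 := Nat.log_lt_of_lt_pow (by omega) hsq
  rw [padicValNat_dvd_iff_le (Nat.factorial_ne_zero n), padicValNat_factorial hlog] at h2
  simp at h2
  have : n / p < 2 := (Nat.div_lt_iff_lt_mul hp.pos).2 hlt
  omega

/-- An element of prime order `q` normalizing a subgroup of prime order `p`, `q ∤ p - 1`,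
centralizes it. -/
theorem exists_orderOf_mul_of_normalize {G : Type*} [Group G] [Finite G] {p q : ℕ} (hp : p.Prime)
    (hq : q.Prime) (hpq : p ≠ q) (hd : ¬ q ∣ p - 1) (P : Subgroup G) (hP : Nat.card P = p) (x : G)
    (hx : orderOf x = q) (hxn : x ∈ Subgroup.normalizer (P : Set G)) :
    ∃ z : G, orderOf z = p * q := by
  classical
  haveI := Fact.mk hp
  obtain ⟨y, hy, hyP⟩ : ∃ y, orderOf y = p ∧ Subgroup.zpowers y = P := by
    obtain ⟨y, hy⟩ := exists_prime_orderOf_dvd_card' (G := P) p (dvd_of_eq hP.symm)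
    refine ⟨y, by rw [Subgroup.orderOf_coe, hy], Subgroup.eq_of_le_of_card_ge
      (Subgroup.zpowers_le.2 y.2) ?_⟩
    rw [Nat.card_zpowers, Subgroup.orderOf_coe, hy, hP]
  obtain ⟨k, hk⟩ : ∃ k : ℕ, y ^ k = x * y * x⁻¹ := by
    have h : x * y * x⁻¹ ∈ P := (Subgroup.mem_normalizer_iff.1 hxn y).1 (hyP ▸ Subgroup.mem_zpowers y)
    rw [← hyP, mem_zpowers_iff_mem_range_orderOf] at h
    simp only [Finset.mem_image] at h
    obtain ⟨k, -, hk⟩ := h
    exact ⟨k, hk⟩
  have hit : ∀ i : ℕ, y ^ k ^ i = x ^ i * y * (x ^ i)⁻¹ := by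
    intro i
    induction i with
    | zero => simp
    | succ i ih =>
      rw [pow_succ, pow_mul, ih, conj_pow, hk, pow_succ x]
      group
  have h1 : k ^ q % p = 1 % p := by
    have h := hit q
    rw [← hx, pow_orderOf_eq_one, hx] at h
    have : y ^ (k ^ q) = y ^ 1 := by rw [h]; group
    rw [pow_eq_pow_iff_modEq, hy] at this
    exact this
  have h2 : (k : ZMod p) = 1 := by
    have e : (k : ZMod p) ^ q = 1 := by
      rw [← Nat.cast_pow, ← Nat.cast_one, ZMod.natCast_eq_natCast_iff]
      exact h1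
    have hk0 : (k : ZMod p) ≠ 0 := fun h => by rw [h, zero_pow hq.ne_zero] at e; exact zero_ne_one e
    have d2 := orderOf_dvd_of_pow_eq_one (ZMod.pow_card_sub_one_eq_one hk0)
    exact orderOf_eq_one_iff.1 (Nat.eq_one_of_dvd_coprimes ((Nat.Prime.coprime_iff_not_dvd hq).2 hd)
      (orderOf_dvd_of_pow_eq_one e) d2)
  have h3 : x * y * x⁻¹ = y := by
    rw [← hk]
    conv_rhs => rw [← pow_one y]
    rw [pow_eq_pow_iff_modEq, hy, ← ZMod.natCast_eq_natCast_iff, h2, Nat.cast_one]
  obtain ⟨z, hz⟩ := exists_orderOf_mul_of_conj hq hp hpq.symm (hx ▸ dvd_rfl) (hy ▸ dvd_rfl) h3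
  exact ⟨z, hz.trans (mul_comm _ _)⟩

/-- Let `P` be a set of primes dividing `|G|` exactly once, without elements of order `pq`.
Then some section of `G` by normal subgroups is simple and of order divisible by all of them. -/
theorem large_primes_simple_section {G : Type*} [Group G] [Finite G] (P : Set ℕ)
    (hP : ∀ p ∈ P, p.Prime ∧ p ∣ Nat.card G ∧ ¬ p ^ 2 ∣ Nat.card G)
    (hne : ∃ p ∈ P, ∃ q ∈ P, p ≠ q)
    (hdiv : ∀ p ∈ P, ∀ q ∈ P, p ≠ q → ¬ q ∣ p - 1)
    (hadj : ∀ p ∈ P, ∀ q ∈ P, p ≠ q → ¬ ∃ z : G, orderOf z = p * q) :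
    ∃ (N H : Subgroup G) (_ : N.Normal), H.Normal ∧ N < H ∧ IsSimpleGroup (↥H ⧸ N.subgroupOf H) ∧
      ¬ IsMulCommutative (↥H ⧸ N.subgroupOf H) ∧
      ∀ p ∈ P, p ∣ Nat.card (↥H ⧸ N.subgroupOf H) := by
  classical
  obtain ⟨p0, hp0, q0, hq0, hpq0⟩ := hne
  obtain ⟨N, ⟨hNn, hNP⟩, hNmax⟩ := Set.Finite.exists_maximal
    (Set.toFinite {N : Subgroup G | N.Normal ∧ ∀ p ∈ P, ¬ p ∣ Nat.card N})
    ⟨⊥, inferInstance, fun p hp h => by
      rw [Subgroup.card_bot] at h; exact (hP p hp).1.not_dvd_one h⟩
  haveI := hNn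
  let Q := G ⧸ N
  let f : G →* Q := QuotientGroup.mk' N
  have hfs : Function.Surjective f := QuotientGroup.mk'_surjective N
  have hmul : Nat.card G = Nat.card Q * Nat.card N := Subgroup.card_eq_card_quotient_mul_card_subgroup N
  have hPQ : ∀ p ∈ P, p ∣ Nat.card Q := fun p hp =>
    ((hP p hp).1.dvd_mul.1 (hmul ▸ (hP p hp).2.1)).resolve_right (hNP p hp)
  have hPQ2 : ∀ p ∈ P, ¬ p ^ 2 ∣ Nat.card Q := fun p hp h =>
    (hP p hp).2.2 (hmul ▸ h.mul_right _)
  have hnorm : ∀ K : Subgroup Q, K.Normal → K ≠ ⊥ → ∃ p ∈ P, p ∣ Nat.card K := by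
    intro K hK hKne
    by_contra hcon
    push_neg at hcon
    have hsub : N ≤ K.comap f := fun n hn => by
      rw [Subgroup.mem_comap, show f n = 1 from (QuotientGroup.eq_one_iff n).2 hn]; exact K.one_mem
    have hmem : (K.comap f).Normal ∧ ∀ p ∈ P, ¬ p ∣ Nat.card (K.comap f) := by
      refine ⟨hK.comap f, fun p hp hd => ?_⟩
      let g : K.comap f →* K := f.subgroupComap K
      have hg : Function.Surjective g := MonoidHom.subgroupComap_surjective_of_surjective f K hfs
      have hker : Nat.card g.ker ∣ Nat.card N := by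
        refine Subgroup.card_dvd_of_injective
          (({ toFun := fun z => ⟨(z.1 : G), (QuotientGroup.eq_one_iff _).1 (congrArg Subtype.val z.2)⟩
              map_one' := rfl
              map_mul' := fun _ _ => rfl } : g.ker →* N)) ?_
        intro a b hab
        exact Subtype.ext (Subtype.ext (congrArg (fun u : N => (u : G)) hab))
      rw [Subgroup.card_eq_card_quotient_mul_card_subgroup g.ker,
        Nat.card_congr (QuotientGroup.quotientKerEquivOfSurjective g hg).toEquiv] at hd
      rcases (hP p hp).1.dvd_mul.1 hd with h | h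
      · exact hcon p hp h
      · exact hNP p hp (h.trans hker)
    have heq : K.comap f ≤ N := hNmax hmem hsub
    apply hKne
    rw [← Subgroup.map_comap_eq_self_of_surjective hfs K, eq_bot_iff]
    rintro _ ⟨g, hg, rfl⟩
    exact (QuotientGroup.eq_one_iff g).2 (heq hg)
  have hQne : (⊤ : Subgroup Q) ≠ ⊥ := by
    intro h
    have := hPQ p0 hp0
    rw [← Subgroup.card_top, h, Subgroup.card_bot] at this
    exact (hP p0 hp0).1.not_dvd_one this
  obtain ⟨M, ⟨hMn, hMne⟩, hMmin⟩ := Set.Finite.exists_minimal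
    (Set.toFinite {K : Subgroup Q | K.Normal ∧ K ≠ ⊥}) ⟨⊤, inferInstance, hQne⟩
  haveI := hMn
  have hMall : ∀ p ∈ P, p ∣ Nat.card M := by
    obtain ⟨r, hr, hrM⟩ := hnorm M hMn hMne
    intro q hq
    by_contra hqM
    haveI := Fact.mk (hP r hr).1
    haveI := Fact.mk (hP q hq).1
    have hrq : r ≠ q := fun h => hqM (h ▸ hrM)
    obtain ⟨S⟩ : Nonempty (Sylow r M) := inferInstance
    set S' := (S : Subgroup M).map M.subtype with hS'
    have hcard : Nat.card S' = r := by
      rw [hS', Nat.card_congr (Subgroup.equivMapOfInjective _ _ M.subtype_injective).symm.toEquiv]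
      obtain ⟨k, hk⟩ := S.isPGroup'.exists_card_eq
      have h1 : r ∣ Nat.card (S : Subgroup M) := S.dvd_card_of_dvd_card hrM
      have h2 : ¬ r ^ 2 ∣ Nat.card (S : Subgroup M) := fun h =>
        hPQ2 r hr ((h.trans (Subgroup.card_subgroup_dvd_card _)).trans (Subgroup.card_subgroup_dvd_card M))
      rw [hk] at h1 h2 ⊢
      have hk1 : k ≠ 0 := by rintro rfl; exact (hP r hr).1.not_dvd_one (by simpa using h1)
      have hk2 : k < 2 := by
        by_contra h; exact h2 (pow_dvd_pow r (by omega))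
      rw [show k = 1 by omega, pow_one]
    have hsup : Subgroup.normalizer (S' : Set Q) ⊔ M = ⊤ := Sylow.normalizer_sup_eq_top S
    have hqN : q ∣ Nat.card (Subgroup.normalizer (S' : Set Q)) := by
      have hq' : q ∣ Nat.card (Q ⧸ M) := by
        have := hPQ q hq
        rw [Subgroup.card_eq_card_quotient_mul_card_subgroup M] at this
        exact ((hP q hq).1.dvd_mul.1 this).resolve_right hqM
      refine hq'.trans (Subgroup.card_dvd_of_surjective
        ((QuotientGroup.mk' M).comp (Subgroup.subtype _)) ?_)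
      intro z
      obtain ⟨g, rfl⟩ := QuotientGroup.mk'_surjective M z
      have := Subgroup.mem_top g
      rw [← hsup] at this
      obtain ⟨n, hn, m, hm, rfl⟩ := Subgroup.mem_sup_of_normal_right.1 this
      exact ⟨⟨n, hn⟩, by simp [hm]⟩
    obtain ⟨x, hx⟩ := exists_prime_orderOf_dvd_card' q hqN
    obtain ⟨z, hz⟩ := exists_orderOf_mul_of_normalize (hP r hr).1 (hP q hq).1 hrq (hdiv r hr q hq hrq)
      S' hcard (x : Q) (by rw [Subgroup.orderOf_coe]; exact hx) x.2
    obtain ⟨g, rfl⟩ := hfs z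
    obtain ⟨w, -, hw⟩ := exists_orderOf_map f g hz
    exact hadj r hr q hq hrq ⟨w, hw⟩
  have hp := (hP p0 hp0).1
  haveI := Fact.mk hp
  -- every nontrivial normal subgroup of `M` has order divisible by `p0`
  have hsub : ∀ T : Subgroup Q, T ≤ M → M ≤ Subgroup.normalizer (T : Set Q) → T ≠ ⊥ →
      p0 ∣ Nat.card T := by
    obtain ⟨K, ⟨hKle, hKn, hKp⟩, hKmax⟩ := Set.Finite.exists_maximal
      (Set.toFinite {T : Subgroup Q | T ≤ M ∧ M ≤ Subgroup.normalizer (T : Set Q) ∧ ¬ p0 ∣ Nat.card T})
      ⟨⊥, bot_le, fun m _ => by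
        rw [Subgroup.mem_normalizer_iff]; intro h; simp,
        fun h => by rw [Subgroup.card_bot] at h; exact hp.not_dvd_one h⟩
    have huniq : ∀ T : Subgroup Q, T ≤ M → M ≤ Subgroup.normalizer (T : Set Q) → ¬ p0 ∣ Nat.card T →
        T ≤ K := by
      intro T h1 h2 h3
      refine le_trans le_sup_left (hKmax ⟨sup_le h1 hKle, ?_, ?_⟩ (le_sup_right : K ≤ T ⊔ K))
      · intro m hm
        have e : ∀ U : Subgroup Q, m ∈ Subgroup.normalizer (U : Set Q) →
            U.map (MulAut.conj m).toMonoidHom = U := by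
          intro U hU
          ext z
          constructor
          · rintro ⟨u, hu, rfl⟩; exact (Subgroup.mem_normalizer_iff.1 hU u).1 hu
          · intro hz
            refine ⟨m⁻¹ * z * m, (Subgroup.mem_normalizer_iff.1 hU _).2 (by group; exact hz), ?_⟩
            simp [MulAut.conj_apply]; group
        have e2 : (T ⊔ K).map (MulAut.conj m).toMonoidHom = T ⊔ K := by
          rw [Subgroup.map_sup, e T (h2 hm), e K (hKn hm)]
        rw [Subgroup.mem_normalizer_iff]
        intro z
        conv_rhs => rw [← e2]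
        constructor
        · exact fun hz => ⟨z, hz, rfl⟩
        · rintro ⟨w, hw, hwz⟩
          have : w = z := (MulAut.conj m).injective hwz
          rwa [← this]
      · intro hd
        haveI hK' : (K.subgroupOf (T ⊔ K)).Normal := (Subgroup.normal_subgroupOf_iff_le_normalizer
          le_sup_right).2 (sup_le (h1.trans hKn) Subgroup.le_normalizer)
        rw [Subgroup.card_eq_card_quotient_mul_card_subgroup (K.subgroupOf (T ⊔ K)),
          Nat.card_congr (Subgroup.subgroupOfEquivOfLe (le_sup_right : K ≤ T ⊔ K)).toEquiv] at hd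
        haveI : (K.subgroupOf T).Normal := Subgroup.normal_subgroupOf_of_le_normalizer (h1.trans hKn)
        rcases hp.dvd_mul.1 hd with h | h
        · rw [← Nat.card_congr (QuotientGroup.quotientInfEquivProdNormalizerQuotient T K
            (h1.trans hKn)).toEquiv] at h
          exact h3 (h.trans (Subgroup.card_quotient_dvd_card _))
        · exact hKp h
    have hKnormal : K.Normal := by
      refine ⟨fun k hk g => ?_⟩
      have himg : K.map (MulAut.conj g).toMonoidHom ≤ K := by
        refine huniq _ ?_ ?_ ?_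
        · rintro _ ⟨u, hu, rfl⟩; exact hMn.conj_mem u (hKle hu) g
        · intro m hm
          have hm' : g⁻¹ * m * g ∈ M := by
            have h' := hMn.conj_mem m hm g⁻¹
            rwa [inv_inv] at h'
          rw [Subgroup.mem_normalizer_iff]
          intro z
          rw [Subgroup.map_equiv_eq_comap_symm', Subgroup.mem_comap, Subgroup.mem_comap]
          simp only [MulEquiv.coe_toMonoidHom, MulAut.conj_symm_apply]
          convert Subgroup.mem_normalizer_iff.1 (hKn hm') (g⁻¹ * z * g) using 2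
          group
        · rw [Nat.card_congr (Subgroup.equivMapOfInjective K _ (MulAut.conj g).injective).symm.toEquiv]
          exact hKp
      exact himg ⟨k, hk, rfl⟩
    have hKbot : K = ⊥ := by
      by_contra h
      exact hKp ((hMmin (⟨hKnormal, h⟩ : K.Normal ∧ K ≠ ⊥) hKle) |> fun hMK =>
        (le_antisymm hKle hMK) ▸ hMall p0 hp0)
    intro T h1 h2 h3
    by_contra h4
    exact h3 (eq_bot_iff.2 (hKbot ▸ huniq T h1 h2 h4))
  have hsimple : IsSimpleGroup M := by
    haveI : Nontrivial M := (Subgroup.nontrivial_iff_ne_bot M).2 hMne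
    refine ⟨fun T hT => ?_⟩
    by_contra hcon
    push_neg at hcon
    set T' := T.map M.subtype with hT'
    have hT'le : T' ≤ M := Subgroup.map_subtype_le T
    have hT'ne : T' ≠ ⊥ := by
      rw [hT', Ne, Subgroup.map_eq_bot_iff_of_injective _ M.subtype_injective]; exact hcon.1
    have hT'n : M ≤ Subgroup.normalizer (T' : Set Q) := by
      intro m hm
      have hn : (⟨m, hm⟩ : M) ∈ Subgroup.normalizer (T : Set M) := by
        rw [Subgroup.normalizer_eq_top (H := T)]; trivial
      exact Subgroup.le_normalizer_map M.subtype ⟨⟨m, hm⟩, hn, rfl⟩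
    obtain ⟨S, ⟨hS1, hS2, hS3⟩, hSmin⟩ := Set.Finite.exists_minimal
      (Set.toFinite {T : Subgroup Q | T ≤ T' ∧ M ≤ Subgroup.normalizer (T : Set Q) ∧ T ≠ ⊥})
      ⟨T', le_rfl, hT'n, hT'ne⟩
    have hSnormal : S.Normal := by
      refine ⟨fun s hs g => ?_⟩
      set S2 := S.map (MulAut.conj g).toMonoidHom with hS2'
      have hS2n : M ≤ Subgroup.normalizer (S2 : Set Q) := by
        intro m hm
        have hm' : g⁻¹ * m * g ∈ M := by
            have h' := hMn.conj_mem m hm g⁻¹
            rwa [inv_inv] at h'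
        rw [Subgroup.mem_normalizer_iff]
        intro z
        rw [hS2', Subgroup.map_equiv_eq_comap_symm', Subgroup.mem_comap, Subgroup.mem_comap]
        simp only [MulEquiv.coe_toMonoidHom, MulAut.conj_symm_apply]
        convert Subgroup.mem_normalizer_iff.1 (hS2 hm') (g⁻¹ * z * g) using 2
        group
      have hS2le : S2 ≤ M := by
        rintro _ ⟨u, hu, rfl⟩; exact hMn.conj_mem u (hT'le (hS1 hu)) g
      by_cases hinf : S ⊓ S2 = ⊥
      · exfalso
        apply hPQ2 p0 hp0
        haveI hS' : (S2.subgroupOf (S ⊔ S2)).Normal := (Subgroup.normal_subgroupOf_iff_le_normalizer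
          le_sup_right).2 (sup_le ((hS1.trans hT'le).trans hS2n) Subgroup.le_normalizer)
        haveI : (S2.subgroupOf S).Normal :=
          Subgroup.normal_subgroupOf_of_le_normalizer ((hS1.trans hT'le).trans hS2n)
        have hc := Subgroup.card_eq_card_quotient_mul_card_subgroup (S2.subgroupOf (S ⊔ S2))
        have hinj : S2.subgroupOf S = ⊥ :=
          Subgroup.subgroupOf_eq_bot.2 (disjoint_iff.2 (inf_comm S S2 ▸ hinf))
        rw [Nat.card_congr (Subgroup.subgroupOfEquivOfLe (le_sup_right : S2 ≤ S ⊔ S2)).toEquiv,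
          ← Nat.card_congr (QuotientGroup.quotientInfEquivProdNormalizerQuotient S S2
            ((hS1.trans hT'le).trans hS2n)).toEquiv] at hc
        have h5 : Nat.card (S ⧸ S2.subgroupOf S) = Nat.card S := by
          rw [← Subgroup.index_eq_card, hinj, Subgroup.index_bot]
        rw [h5] at hc
        have : p0 ^ 2 ∣ Nat.card (S ⊔ S2 : Subgroup Q) := by
          rw [hc, sq]
          refine mul_dvd_mul (hsub S (hS1.trans hT'le) hS2 hS3) (hsub S2 hS2le hS2n ?_)
          rw [hS2', Ne, Subgroup.map_eq_bot_iff_of_injective _ (MulAut.conj g).injective]; exact hS3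
        exact this.trans (Subgroup.card_subgroup_dvd_card _)
      · have h6 : S ≤ S ⊓ S2 := hSmin (⟨inf_le_left.trans hS1, fun m hm => by
          rw [Subgroup.mem_normalizer_iff]; intro z
          exact and_congr (Subgroup.mem_normalizer_iff.1 (hS2 hm) z)
            (Subgroup.mem_normalizer_iff.1 (hS2n hm) z), hinf⟩) inf_le_left
        have h7 : S2 = S := (Subgroup.eq_of_le_of_card_ge (h6.trans inf_le_right) (le_of_eq
          (Nat.card_congr (Subgroup.equivMapOfInjective S _ (MulAut.conj g).injective).symm.toEquiv))).symm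
        rw [← h7]
        exact ⟨s, hs, rfl⟩
    have hSM : M ≤ S := hMmin (⟨hSnormal, hS3⟩ : S.Normal ∧ S ≠ ⊥) (hS1.trans hT'le)
    apply hcon.2
    refine Subgroup.map_injective M.subtype_injective ?_
    rw [← hT', ← MonoidHom.range_eq_map, Subgroup.range_subtype]
    exact le_antisymm hT'le (hSM.trans hS1)
  let g : M.comap f →* M := f.subgroupComap M
  have hg : Function.Surjective g := MonoidHom.subgroupComap_surjective_of_surjective f M hfs
  have hkerg : g.ker = N.subgroupOf (M.comap f) := by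
    ext z
    rw [MonoidHom.mem_ker, Subgroup.mem_subgroupOf, ← QuotientGroup.eq_one_iff, ← Subtype.val_inj]
    rfl
  let e : (↥(M.comap f) ⧸ N.subgroupOf (M.comap f)) ≃* M :=
    (QuotientGroup.quotientMulEquivOfEq hkerg.symm).trans (QuotientGroup.quotientKerEquivOfSurjective g hg)
  refine ⟨N, M.comap f, hNn, hMn.comap f, ?_, ?_, ?_, ?_⟩
  · refine lt_of_le_of_ne (fun n hn => ?_) ?_
    · rw [Subgroup.mem_comap, show f n = 1 from (QuotientGroup.eq_one_iff n).2 hn]; exact M.one_mem
    · intro h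
      apply hMne
      rw [← Subgroup.map_comap_eq_self_of_surjective hfs M, ← h, eq_bot_iff]
      rintro _ ⟨n, hn, rfl⟩
      exact (QuotientGroup.eq_one_iff n).2 hn
  · exact e.isSimpleGroup
  · intro hcomm
    -- a simple commutative group has prime order
    letI : CommGroup M :=
      { (inferInstance : Group M) with
        mul_comm := fun a b => e.symm.injective (by simp only [map_mul]; exact hcomm.is_comm.comm _ _) }
    haveI : IsSimpleGroup M := hsimple
    have hpr : (Nat.card M).Prime := IsSimpleGroup.prime_card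
    exact hpq0 (((Nat.prime_dvd_prime_iff_eq hp hpr).1 (hMall p0 hp0)).trans
      ((Nat.prime_dvd_prime_iff_eq (hP q0 hq0).1 hpr).1 (hMall q0 hq0)).symm)
  · intro p hp'
    rw [Nat.card_congr e.toEquiv]
    exact hMall p hp'

/-- Same order and spectrum as `A_n`, `n ≥ 11`. -/
theorem alt_large_prime_section {G : Type*} [Group G] [Finite G] (n : ℕ) (hn : 11 ≤ n)
    (hcard : Nat.card G = Nat.card ↥(alternatingGroup (Fin n)))
    (hspec : Set.range (orderOf : G → ℕ) = Set.range (orderOf : ↥(alternatingGroup (Fin n)) → ℕ)) :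
    ∃ (N H : Subgroup G) (_ : N.Normal), H.Normal ∧ N < H ∧
      IsSimpleGroup (↥H ⧸ N.subgroupOf H) ∧ ¬ IsMulCommutative (↥H ⧸ N.subgroupOf H) ∧
      ∀ p : ℕ, p.Prime → n < 2 * p → p ≤ n → p ∣ Nat.card (↥H ⧸ N.subgroupOf H) := by
  obtain ⟨p, q, hp, hq, hne, a1, a2, b1, b2⟩ := exists_two_primes_half n hn
  obtain ⟨N, H, h0, h1, h2, h3, h4, h5⟩ := large_primes_simple_section (G := G)
    {p | p.Prime ∧ n < 2 * p ∧ p ≤ n}
    (fun r ⟨hr, r1, r2⟩ => ⟨hr, hcard ▸ alt_card_dvd (by omega) hr (by omega) r2,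
      hcard ▸ alt_not_sq_dvd (by omega) hr r1⟩)
    ⟨p, ⟨hp, a1, a2⟩, q, ⟨hq, b1, b2⟩, hne⟩
    (by
      rintro a ⟨ha, a1, a2⟩ b ⟨hb, b1, b2⟩ hab ⟨c, hc⟩
      rcases Nat.lt_or_ge c 2 with hc2 | hc2
      · interval_cases c
        · omega
        · -- `a = b + 1` forces an even prime
          rcases hb.eq_two_or_odd' with h | ⟨k, hk⟩
          · omega
          · rcases ha.eq_two_or_odd' with h | ⟨l, hl⟩ <;> omega
      · have : b * 2 ≤ b * c := Nat.mul_le_mul_left b hc2
        omega)
    (by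
      rintro a ⟨ha, a1, a2⟩ b ⟨hb, b1, b2⟩ hab ⟨z, hz⟩
      exact alt_no_order (n := n) ha hb hab (by omega) (hspec ▸ ⟨z, hz⟩))
  exact ⟨N, H, h0, h1, h2, h3, h4, fun r r0 r1 r2 => h5 r ⟨r0, r1, r2⟩⟩

/-- Two prime divisors with unsuitable powers force an element of order `st` in a solvable group. -/
theorem solvable_two_primes {G : Type*} [Group G] [Finite G] (hG : Group.IsSolvable G) {s t : ℕ}
    (hs : s.Prime) (ht : t.Prime) (hst : s ≠ t) (h1 : s ∣ Nat.card G) (h2 : t ∣ Nat.card G)
    (hadj : ¬ ∃ z : G, orderOf z = s * t)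
    (hts : ∀ i, 1 ≤ i → t ^ i ∣ Nat.card G → t ^ i % s ≠ 1)
    (hst' : ∀ i, 1 ≤ i → s ^ i ∣ Nat.card G → s ^ i % t ≠ 1) : False := by
  have main : ∀ a b : ℕ, a.Prime → b.Prime → a ≠ b → (¬ ∃ z : G, orderOf z = a * b) →
      (∀ i, 1 ≤ i → b ^ i ∣ Nat.card G → b ^ i % a ≠ 1) →
      ∀ (x : G) (Q : Subgroup G), orderOf x = a → IsPGroup b Q → Q ≠ ⊥ →
        x ∈ Subgroup.normalizer (Q : Set G) → False := by
    intro a b ha hb hab hn hi x Q hx hQ hQne hxn
    haveI := Fact.mk ha
    haveI := Fact.mk hb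
    let A := Subgroup.zpowers x
    letI : MulAction A Q :=
      { smul := fun g u => ⟨(g : G) * u * (g : G)⁻¹,
          (Subgroup.mem_normalizer_iff.1 (Subgroup.zpowers_le.2 hxn g.2) u).1 u.2⟩
        one_smul := fun u => Subtype.ext (by show ((1 : A) : G) * u * ((1 : A) : G)⁻¹ = u; simp)
        mul_smul := fun g h u => Subtype.ext (by
          show ((g * h : A) : G) * u * ((g * h : A) : G)⁻¹ = (g : G) * ((h : G) * u * (h : G)⁻¹) * (g : G)⁻¹
          rw [Subgroup.coe_mul]; group) }
    have hA : IsPGroup a A := IsPGroup.of_card (n := 1) (by rw [Nat.card_zpowers, hx, pow_one])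
    have h := hA.card_modEq_card_fixedPoints Q
    have hfix : MulAction.fixedPoints A Q = {1} := by
      ext u
      constructor
      · intro hu
        have e : x * (u : G) * x⁻¹ = u := congrArg Subtype.val (hu ⟨x, Subgroup.mem_zpowers x⟩)
        by_contra hu1
        obtain ⟨k, hk⟩ := IsPGroup.iff_orderOf.1 hQ u
        have hb' : b ∣ orderOf (u : G) := by
          rw [Subgroup.orderOf_coe, hk]
          refine dvd_pow_self b ?_
          rintro rfl
          exact hu1 (orderOf_eq_one_iff.1 (by simpa using hk))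
        exact hn (exists_orderOf_mul_of_conj ha hb hab (hx ▸ dvd_rfl) hb' e)
      · rintro rfl g
        exact Subtype.ext (by show (g : G) * ((1 : Q) : G) * (g : G)⁻¹ = ((1 : Q) : G); simp)
    obtain ⟨k, hk⟩ := hQ.exists_card_eq
    rw [hfix, Nat.card_coe_set_eq, Set.ncard_singleton, hk] at h
    refine hi k ?_ (hk ▸ Subgroup.card_subgroup_dvd_card Q) ?_
    · rcases Nat.eq_zero_or_pos k with rfl | hk'
      · exact absurd (Subgroup.card_eq_one.1 (by simpa using hk)) hQne
      · exact hk'
    · rw [h, Nat.mod_eq_of_lt ha.one_lt]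
  haveI := Fact.mk hs
  haveI := Fact.mk ht
  rcases exists_normalized_subgroup hG hst h1 h2 with ⟨x, Q, hx, hQ, hne, hxn⟩ | ⟨x, Q, hx, hQ, hne, hxn⟩
  · exact main s t hs ht hst hadj hts x Q hx hQ hne hxn
  · exact main t s ht hs hst.symm (fun ⟨z, hz⟩ => hadj ⟨z, hz.trans (mul_comm _ _)⟩) hst' x Q hx hQ hne hxn

theorem alt_same_order_spectrum_not_solvable {G : Type*} [Group G] [Finite G] (n : ℕ) (hn : 5 ≤ n)
    (hcard : Nat.card G = Nat.card ↥(alternatingGroup (Fin n)))
    (hspec : Set.range (orderOf : G → ℕ) = Set.range (orderOf : ↥(alternatingGroup (Fin n)) → ℕ)) :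
    ¬ Group.IsSolvable G := by
  intro hs
  haveI := hs
  by_cases h11 : 11 ≤ n
  · obtain ⟨N, H, h0, h1, h2, h3, h4, -⟩ := alt_large_prime_section n h11 hcard hspec
    haveI := h3
    haveI : Group.IsSolvable (↥H ⧸ N.subgroupOf H) := inferInstance
    apply h4
    exact ⟨⟨fun a b => IsSimpleGroup.comm_iff_isSolvable.2 inferInstance a b⟩⟩
  have no : ∀ a b, a ∉ Set.range (orderOf : ↥(alternatingGroup (Fin n)) → ℕ) → a = b →
      ¬ ∃ z : G, orderOf z = b := fun a b ha hab ⟨z, hz⟩ => ha (hspec ▸ ⟨z, hz.trans hab.symm⟩)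
  haveI : Nontrivial (Fin n) := Fin.nontrivial_iff_two_le.2 (by omega)
  have hfac : 2 * Nat.card G = n.factorial := by
    rw [hcard, two_mul_nat_card_alternatingGroup, Nat.card_perm, Nat.card_fin]
  interval_cases n <;> simp only [Nat.factorial] at hfac
  all_goals norm_num at hfac
  · replace hfac : Nat.card G = 60 := by omega
    rcases three_primes_adjacent hs (r := 2) (s := 3) (t := 5) (by norm_num) (by norm_num) (by norm_num)
      (by norm_num) (by norm_num) (by norm_num) (by rw [hfac]; norm_num) (by rw [hfac]; norm_num)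
      (by rw [hfac]; norm_num) with h | h | h
    all_goals exact no _ _ (by rw [H63.mem_range_orderOf_alt_iff_list]; decide +kernel) rfl h
  · replace hfac : Nat.card G = 360 := by omega
    rcases three_primes_adjacent hs (r := 2) (s := 3) (t := 5) (by norm_num) (by norm_num) (by norm_num)
      (by norm_num) (by norm_num) (by norm_num) (by rw [hfac]; norm_num) (by rw [hfac]; norm_num)
      (by rw [hfac]; norm_num) with h | h | h
    all_goals exact no _ _ (by rw [H63.mem_range_orderOf_alt_iff_list]; decide +kernel) rfl h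
  · replace hfac : Nat.card G = 2520 := by omega
    rcases three_primes_adjacent hs (r := 2) (s := 5) (t := 7) (by norm_num) (by norm_num) (by norm_num)
      (by norm_num) (by norm_num) (by norm_num) (by rw [hfac]; norm_num) (by rw [hfac]; norm_num)
      (by rw [hfac]; norm_num) with h | h | h
    all_goals exact no _ _ (by rw [H63.mem_range_orderOf_alt_iff_list]; decide +kernel) rfl h
  · replace hfac : Nat.card G = 20160 := by omega
    rcases three_primes_adjacent hs (r := 2) (s := 5) (t := 7) (by norm_num) (by norm_num) (by norm_num)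
      (by norm_num) (by norm_num) (by norm_num) (by rw [hfac]; norm_num) (by rw [hfac]; norm_num)
      (by rw [hfac]; norm_num) with h | h | h
    all_goals exact no _ _ (by rw [H63.mem_range_orderOf_alt_iff_list]; decide +kernel) rfl h
  all_goals
    refine solvable_two_primes hs (s := 5) (t := 7) (by norm_num) (by norm_num) (by norm_num) ?_ ?_
      (no _ _ (by rw [H63.mem_range_orderOf_alt_iff_list]; decide +kernel) rfl) ?_ ?_
  all_goals first
    | omega
    | (intro i hi hd
       have hle : i ≤ 2 := by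
         by_contra hgt
         have h3 := (pow_dvd_pow _ (show 3 ≤ i by omega)).trans hd
         norm_num at h3
         omega
       interval_cases i <;> norm_num)

end H64
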