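import Mathlib

/-!
Groups with the order and element orders of `PSL₂(q)`, `q` odd: the Sylow `p`-subgroups meet trivially.
-/

set_option autoImplicit false

namespace H64

open Subgroup

variable {G : Type*} [Group G]

/-- The consequences of having the order and the spectrum of `PSL₂(q)` that the argument uses. -/
structure LikePSL2 (G : Type*) [Group G] (p q : ℕ) : Prop where
  prime : p.Prime
  odd : p ≠ 2
  card : 2 * Nat.card G = q * ((q - 1) * (q + 1))
  pow : ∃ f, 0 < f ∧ q = p ^ f
  five : 5 ≤ q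
  spec : ∀ g : G, orderOf g ∣ p ∨ orderOf g ∣ (q - 1) / 2 ∨ orderOf g ∣ (q + 1) / 2
  minus : ∃ g : G, orderOf g = (q - 1) / 2
  plus : ∃ g : G, orderOf g = (q + 1) / 2

namespace LikePSL2

variable [Finite G] {p q : ℕ} (h : LikePSL2 G p q)
include h

theorem q_odd : Odd q := by
  obtain ⟨f, -, rfl⟩ := h.pow
  exact (h.prime.odd_of_ne_two h.odd).pow

theorem not_dvd_halves : ¬ p ∣ (q - 1) / 2 ∧ ¬ p ∣ (q + 1) / 2 := by
  obtain ⟨f, hf, e⟩ := h.pow
  have hq : p ∣ q := e ▸ dvd_pow_self p hf.ne'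
  obtain ⟨c, hc⟩ := h.q_odd
  have h5 := h.five
  have h1 : ¬ p ∣ 1 := h.prime.not_dvd_one
  constructor
  · intro hd
    have h2 : p ∣ q - 1 := by
      rw [show q - 1 = (q - 1) / 2 * 2 by omega]
      exact hd.mul_right 2
    have := Nat.dvd_sub hq h2
    rw [show q - (q - 1) = 1 by omega] at this
    exact h1 this
  · intro hd
    have h2 : p ∣ q + 1 := by
      rw [show q + 1 = (q + 1) / 2 * 2 by omega]
      exact hd.mul_right 2
    exact h1 ((Nat.dvd_add_right hq).1 h2)

theorem exp_p {g : G} (hd : p ∣ orderOf g) : orderOf g = p := by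
  rcases h.spec g with e | e | e
  · exact ((Nat.dvd_prime h.prime).1 e).resolve_left fun e' => h.prime.not_dvd_one (e' ▸ hd)
  · exact absurd (hd.trans e) h.not_dvd_halves.1
  · exact absurd (hd.trans e) h.not_dvd_halves.2

theorem pow_p_of_isPGroup {H : Subgroup G} (hH : IsPGroup p H) {g : G} (hg : g ∈ H) : g ^ p = 1 := by
  haveI := Fact.mk h.prime
  obtain ⟨k, hk⟩ := hH.exists_orderOf_eq_pow ⟨g, hg⟩
  rw [Subgroup.orderOf_mk] at hk
  rcases Nat.eq_zero_or_pos k with rfl | hk0
  · have : g = 1 := orderOf_eq_one_iff.1 (by simpa using hk)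
    rw [this, one_pow]
  · rw [← h.exp_p (g := g) (hk ▸ dvd_pow_self p hk0.ne'), pow_orderOf_eq_one]

/-- An element of order `p` commutes with no element of another prime order. -/
theorem no_commute {x y : G} (hx : orderOf x = p) {r : ℕ} (hr : r.Prime) (hne : r ≠ p) (hy : orderOf y = r)
    (hc : Commute x y) : False := by
  have hcop : Nat.Coprime (orderOf x) (orderOf y) := by
    rw [hx, hy]; exact (Nat.coprime_primes h.prime hr).2 (Ne.symm hne)
  have ho : orderOf (x * y) = p * r := by rw [hc.orderOf_mul_eq_mul_orderOf_of_coprime hcop, hx, hy]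
  have := h.exp_p (g := x * y) (ho ▸ dvd_mul_right p r)
  rw [ho] at this
  exact hr.ne_one (Nat.eq_of_mul_eq_mul_left h.prime.pos (this.trans (mul_one p).symm))

/-- Centralisers of nontrivial `p`-subgroups are `p`-groups. -/
theorem centralizer_pGroup {V : Subgroup G} (hV : IsPGroup p V) (hne : V ≠ ⊥) :
    IsPGroup p (Subgroup.centralizer (V : Set G)) := by
  haveI := Fact.mk h.prime
  obtain ⟨⟨v, hvV⟩, hv⟩ : ∃ v : V, v ≠ 1 := by
    have := (Subgroup.nontrivial_iff_ne_bot V).2 hne
    exact exists_ne 1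
  have hvo : orderOf v = p := orderOf_eq_prime (h.pow_p_of_isPGroup hV hvV) fun e => hv (Subtype.ext e)
  intro c
  refine ⟨1, ?_⟩
  rw [pow_one]
  refine Subtype.ext ?_
  show (c : G) ^ p = 1
  rcases eq_or_ne (c : G) 1 with e | e
  · rw [e, one_pow]
  obtain ⟨r, hr, hd⟩ := Nat.exists_prime_and_dvd (fun e' => e (orderOf_eq_one_iff.1 e'))
  rcases eq_or_ne r p with rfl | hne'
  · rw [← h.exp_p hd, pow_orderOf_eq_one]
  · exfalso
    have hc : Commute v (c : G) := Subgroup.mem_centralizer_iff.1 c.2 v hvV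
    exact h.no_commute hvo hr hne' (orderOf_pow_orderOf_div (orderOf_pos (c : G)).ne' hd) (hc.pow_right _)

/-- An element of order `p` normalises no subgroup of prime order `r ≠ p` inside the normaliser of a
nontrivial abelian `p`-subgroup. -/
theorem no_normalise {V : Subgroup G} (hVp : IsPGroup p V) [IsMulCommutative V] (hne : V ≠ ⊥) {x y : G}
    (hx : orderOf x = p) {r : ℕ} (hr : r.Prime) (hrp : r ≠ p) (hy : orderOf y = r)
    (hxV : x ∈ Subgroup.normalizer (V : Set G)) (hyV : y ∈ Subgroup.normalizer (V : Set G))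
    (hxy : x * y * x⁻¹ ∈ Subgroup.zpowers y) : False := by
  classical
  haveI := Fact.mk h.prime
  letI : CommGroup V := { (inferInstance : Group V) with mul_comm := mul_comm' }
  let N := Subgroup.normalizer (V : Set G)
  let c : N → V → V := fun g v => ⟨g * v * (g : G)⁻¹, (Subgroup.mem_normalizer_iff.1 g.2 v).1 v.2⟩
  have hcc : ∀ g g' : N, ∀ v, c g (c g' v) = c (g * g') v := fun g g' v => Subtype.ext (by
    show (g : G) * ((g' : G) * v * (g' : G)⁻¹) * (g : G)⁻¹ = (g : G) * g' * v * ((g : G) * g')⁻¹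
    group)
  have hcm : ∀ (g : N) (s : Finset ℕ) (F : ℕ → V), c g (∏ i ∈ s, F i) = ∏ i ∈ s, c g (F i) := fun g s F => by
    let φ : V →* V := MonoidHom.mk' (c g) fun a b => Subtype.ext (by
      show (g : G) * ((a : G) * b) * (g : G)⁻¹ = (g : G) * a * (g : G)⁻¹ * ((g : G) * b * (g : G)⁻¹)
      group)
    exact map_prod φ F s
  -- the norm
  have key : ∀ z : N, orderOf (z : G) = p → ∀ v : V, ∏ i ∈ Finset.range p, c (z ^ i) v = 1 := by
    intro z hz v
    have hpow : ∀ n, ((v : G) * (z : G)) ^ n = ((∏ i ∈ Finset.range n, c (z ^ i) v : V) : G) * (z : G) ^ n := by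
      intro n
      induction n with
      | zero => simp
      | succ n ih =>
        rw [pow_succ, ih, Finset.prod_range_succ, Subgroup.coe_mul]
        show _ = _ * (((z ^ n : N) : G) * v * (((z ^ n : N) : G))⁻¹) * (z : G) ^ (n + 1)
        rw [Subgroup.coe_pow, pow_succ]
        group
    have h1 := hpow p
    rw [← hz, pow_orderOf_eq_one, hz, mul_one] at h1
    have h2 : ((v : G) * (z : G)) ^ (p * p) = 1 := by
      rw [pow_mul, h1]
      exact h.pow_p_of_isPGroup hVp (SetLike.coe_mem _)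
    have h3 : ((v : G) * (z : G)) ^ p = 1 := by
      rcases eq_or_ne ((v : G) * (z : G)) 1 with e | e
      · rw [e, one_pow]
      · obtain ⟨s, hs, hsd⟩ := Nat.exists_prime_and_dvd (fun e' => e (orderOf_eq_one_iff.1 e'))
        have hsp : s ∣ p * p := hsd.trans (orderOf_dvd_of_pow_eq_one h2)
        have : p ∣ orderOf ((v : G) * (z : G)) :=
          ((Nat.prime_dvd_prime_iff_eq hs h.prime).1 ((hs.dvd_mul.1 hsp).elim id id)) ▸ hsd
        rw [← h.exp_p this, pow_orderOf_eq_one]
    exact Subtype.ext (h1.symm.trans h3)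
  set X : N := ⟨x, hxV⟩ with hX
  set Y : N := ⟨y, hyV⟩ with hY
  have hYo : Y ^ r = 1 := Subtype.ext (by
    show ((Y ^ r : N) : G) = 1
    rw [Subgroup.coe_pow, ← hy]; exact pow_orderOf_eq_one y)
  have hXY : X * Y * X⁻¹ ∈ Subgroup.zpowers Y := by
    obtain ⟨k, hk⟩ := Subgroup.mem_zpowers_iff.1 hxy
    exact Subgroup.mem_zpowers_iff.2 ⟨k, Subtype.ext (by simpa [hX, hY] using hk)⟩
  have hXiY : ∀ i : ℕ, X ^ i * Y * (X ^ i)⁻¹ ∈ Subgroup.zpowers Y := by
    intro i
    induction i with
    | zero => simp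
    | succ i ih =>
      obtain ⟨k, hk⟩ := Subgroup.mem_zpowers_iff.1 ih
      rw [show X ^ (i + 1) * Y * (X ^ (i + 1))⁻¹ = X * (X ^ i * Y * (X ^ i)⁻¹) * X⁻¹ by group, ← hk]
      rw [← conj_zpow]
      exact Subgroup.zpow_mem _ hXY k
  have hall : ∀ v : V, v ^ r = 1 := by
    intro v
    have hconj : ∀ j : ℕ, orderOf ((Y ^ j * X * (Y ^ j)⁻¹ : N) : G) = p := fun j => by
      rw [← hx]
      exact orderOf_injective (MulAut.conj ((Y ^ j : N) : G)).toMonoidHom (MulEquiv.injective _) x
    have h0 : ∏ j ∈ Finset.range r, ∏ i ∈ Finset.range p, c ((Y ^ j * X * (Y ^ j)⁻¹) ^ i) v = 1 :=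
      Finset.prod_eq_one fun j _ => key _ (hconj j) v
    rw [Finset.prod_comm, Finset.prod_eq_single 0] at h0
    · have e : ∀ j : ℕ, c ((Y ^ j * X * (Y ^ j)⁻¹) ^ 0) v = v := fun j => Subtype.ext (by simp [c])
      have e1 : c 1 v = v := Subtype.ext (by simp [c])
      simpa [e1] using h0
    · intro i hi hi0
      set u : N := Y * (X ^ i * Y * (X ^ i)⁻¹)⁻¹ with hu
      have huY : u ∈ Subgroup.zpowers Y := mul_mem (Subgroup.mem_zpowers Y) (inv_mem (hXiY i))
      have hterm : ∀ j : ℕ, (Y ^ j * X * (Y ^ j)⁻¹) ^ i = u ^ j * X ^ i := by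
        intro j
        rw [conj_pow]
        have hcomm : Commute Y (X ^ i * Y * (X ^ i)⁻¹)⁻¹ := by
          obtain ⟨k, hk⟩ := Subgroup.mem_zpowers_iff.1 (hXiY i)
          rw [← hk]
          exact ((Commute.refl Y).zpow_right k).inv_right
        rw [hu, hcomm.mul_pow, show (X ^ i * Y * (X ^ i)⁻¹)⁻¹ = X ^ i * Y⁻¹ * (X ^ i)⁻¹ by group, conj_pow]
        group
      have hu1 : u ≠ 1 := by
        intro e
        have hip : ¬ p ∣ i := fun hd => by
          have := Nat.le_of_dvd (Nat.pos_of_ne_zero hi0) hd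
          have := Finset.mem_range.1 hi
          omega
        have hxo : orderOf (x ^ i) = p := by
          rw [Nat.Coprime.orderOf_pow (by rw [hx]; exact h.prime.coprime_iff_not_dvd.2 hip), hx]
        refine h.no_commute hxo hr hrp hy ?_
        have e' := congrArg (fun t : N => (t : G)) e
        simp [hu, hX, hY] at e'
        show x ^ i * y = y * x ^ i
        calc x ^ i * y = (y * (x ^ i * (y⁻¹ * (x ^ i)⁻¹)))⁻¹ * (y * x ^ i) := by group
          _ = y * x ^ i := by rw [e', inv_one, one_mul]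
      have hur : u ^ r = 1 := by
        obtain ⟨k, hk⟩ := Subgroup.mem_zpowers_iff.1 huY
        rw [← hk, ← zpow_natCast, ← zpow_mul, mul_comm, zpow_mul, zpow_natCast, hYo, one_zpow]
      set W := ∏ j ∈ Finset.range r, c ((Y ^ j * X * (Y ^ j)⁻¹) ^ i) v with hW
      have hWeq : W = ∏ j ∈ Finset.range r, c (u ^ j) (c (X ^ i) v) := by
        rw [hW]
        exact Finset.prod_congr rfl fun j _ => by rw [hterm, hcc]
      have hfix : c u W = W := by
        rw [hWeq, hcm]
        simp only [hcc]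
        have e1 : ∀ j : ℕ, u * (u ^ j * X ^ i) = u ^ (j + 1) * X ^ i := fun j => by rw [pow_succ', ← mul_assoc]
        simp only [e1]
        have h1 := Finset.prod_range_succ (fun j => c (u ^ j * X ^ i) v) r
        have h2 := Finset.prod_range_succ' (fun j => c (u ^ j * X ^ i) v) r
        rw [h1, hur, ← pow_zero u] at h2
        exact (mul_right_cancel h2).symm
      by_contra hW1
      have hWne : (W : G) ≠ 1 := fun e => hW1 (Subtype.ext e)
      have hWo : orderOf (W : G) = p := orderOf_eq_prime (h.pow_p_of_isPGroup hVp W.2) hWne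
      have huo : orderOf (u : G) = r := by
        haveI := Fact.mk hr
        refine orderOf_eq_prime ?_ fun e => hu1 (Subtype.ext e)
        rw [← Subgroup.coe_pow, hur]; rfl
      refine h.no_commute hWo hr hrp huo ?_
      have e := congrArg (fun t : V => (t : G)) hfix
      show (W : G) * (u : G) = (u : G) * W
      calc (W : G) * (u : G) = ((u : G) * W * (u : G)⁻¹) * u := by rw [show (u : G) * W * (u : G)⁻¹ = W from e]
        _ = (u : G) * W := by group
    · intro hn
      exact absurd (Finset.mem_range.2 h.prime.pos) hn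
  refine hne ((Subgroup.eq_bot_iff_forall V).2 fun v hv => ?_)
  have h1 : v ^ r = 1 := congrArg Subtype.val (hall ⟨v, hv⟩)
  have h2 := h.pow_p_of_isPGroup hVp hv
  have := pow_gcd_eq_one.2 ⟨h1, h2⟩
  rwa [(Nat.coprime_primes hr h.prime).2 hrp, pow_one] at this

/-- Odd primes other than `p` have cyclic Sylow subgroups. -/
theorem cyclic_of_odd {r : ℕ} (hr : r.Prime) (hr2 : r ≠ 2) (hrp : r ≠ p) (R : Subgroup G) (hR : IsPGroup r R) :
    IsCyclic R := by
  haveI := Fact.mk hr
  obtain ⟨S, hS⟩ := hR.exists_le_sylow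
  obtain ⟨c, hc⟩ := h.q_odd
  obtain ⟨f, hf, hq⟩ := h.pow
  have h5 := h.five
  have hcard : Nat.card G = q * (((q - 1) / 2) * ((q + 1) / 2)) * 2 := by
    have := h.card
    rw [show q - 1 = 2 * ((q - 1) / 2) by omega, show q + 1 = 2 * ((q + 1) / 2) by omega] at this
    linarith
  have hrq : ¬ r ∣ q := fun e => hrp ((Nat.prime_dvd_prime_iff_eq hr h.prime).1 (hr.dvd_of_dvd_pow (hq ▸ e)))
  have hr2' : ¬ r ∣ 2 := fun e => hr2 ((Nat.prime_dvd_prime_iff_eq hr Nat.prime_two).1 e)
  have hfac : ∀ a b : ℕ, (∃ g : G, orderOf g = a) → Nat.card G = q * (a * b) * 2 → ¬ r ∣ b → IsCyclic R := by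
    rintro a b ⟨g, rfl⟩ he hb
    have hpos : Nat.card G ≠ 0 := Nat.card_pos.ne'
    rw [he] at hpos
    simp only [mul_ne_zero_iff] at hpos
    obtain ⟨⟨hq0, ha0, hb0⟩, -⟩ := hpos
    have hk : (Nat.card G).factorization r = (orderOf g).factorization r := by
      rw [he, Nat.factorization_mul (by positivity) two_ne_zero, Nat.factorization_mul hq0 (by positivity),
        Nat.factorization_mul ha0 hb0]
      simp [Nat.factorization_eq_zero_of_not_dvd hrq, Nat.factorization_eq_zero_of_not_dvd hr2',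
        Nat.factorization_eq_zero_of_not_dvd hb]
    set k := (orderOf g).factorization r
    have hdvd : r ^ k ∣ orderOf g := Nat.ordProj_dvd _ r
    set g' := g ^ (orderOf g / r ^ k)
    have hg' : orderOf g' = r ^ k := orderOf_pow_orderOf_div ha0 hdvd
    let T : Sylow r G := Sylow.ofCard (Subgroup.zpowers g') (by rw [Nat.card_zpowers, hg', hk])
    haveI : IsCyclic (T : Subgroup G) := inferInstanceAs (IsCyclic (Subgroup.zpowers g'))
    haveI : IsCyclic (S : Subgroup G) := (Sylow.equiv S T).isCyclic.2 inferInstance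
    exact Subgroup.isCyclic_of_le hS
  rcases Nat.eq_zero_or_pos (Nat.gcd r ((q + 1) / 2)) with e | -
  · simp [hr.ne_zero] at e
  by_cases hd : r ∣ (q + 1) / 2
  · refine hfac ((q + 1) / 2) ((q - 1) / 2) h.plus (by rw [hcard]; ring) fun e => hr2' ?_
    have := Nat.dvd_sub hd e
    rw [show (q + 1) / 2 - (q - 1) / 2 = 1 by omega] at this
    exact this.trans (one_dvd _)
  · exact hfac _ _ h.minus hcard hd

/-- Inside the normaliser of a nontrivial abelian `p`-subgroup the `p`-elements form a group. -/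
theorem exists_p_part {V : Subgroup G} (hVp : IsPGroup p V) [IsMulCommutative V] (hne : V ≠ ⊥) :
    ∀ (n : ℕ) (K : Subgroup G), Nat.card K = n → K ≤ Subgroup.normalizer (V : Set G) →
      ∃ S : Subgroup G, IsPGroup p S ∧ ∀ x ∈ K, orderOf x = p → x ∈ S := by
  intro n
  induction n using Nat.strong_induction_on with | _ n ih => ?_
  intro K hKn hK
  haveI := Fact.mk h.prime
  have hCp := h.centralizer_pGroup hVp hne
  by_cases h2 : 2 ∣ Nat.card K
  · -- an involution inverts `V`
    haveI : Fact (Nat.Prime 2) := ⟨Nat.prime_two⟩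
    obtain ⟨⟨z, hzK⟩, hz⟩ := exists_prime_orderOf_dvd_card' 2 h2
    rw [Subgroup.orderOf_mk] at hz
    have hzz : z * z = 1 := by rw [← pow_two, ← hz, pow_orderOf_eq_one]
    have hzi : z⁻¹ = z := inv_eq_of_mul_eq_one_right hzz
    have hinvert : ∀ v ∈ V, z * v * z = v⁻¹ := by
      intro v hv
      have hv' : z * v * z ∈ V := by
        have := (Subgroup.mem_normalizer_iff.1 (hK hzK) v).1 hv
        rwa [hzi] at this
      have hw : v * (z * v * z) ∈ V := mul_mem hv hv'
      refine eq_inv_of_mul_eq_one_right ?_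
      by_contra hw1
      refine h.no_commute (orderOf_eq_prime (h.pow_p_of_isPGroup hVp hw) hw1) Nat.prime_two
        (fun e => h.odd e.symm) hz ?_
      have hcm : v * (z * v * z) = z * v * z * v := by
        simpa using congrArg Subtype.val (mul_comm' (⟨v, hv⟩ : V) ⟨z * v * z, hv'⟩)
      calc v * (z * v * z) * z = v * z * v * (z * z) := by group
        _ = z * z * (v * z * v) := by rw [hzz, mul_one, one_mul]
        _ = z * (z * v * z * v) := by group
        _ = z * (v * (z * v * z)) := by rw [hcm]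
    refine ⟨Subgroup.centralizer (V : Set G), hCp, fun x hxK hx => ?_⟩
    by_contra hxC
    set C := Subgroup.centralizer (V : Set G)
    have hCn : ∀ g ∈ Subgroup.normalizer (V : Set G), ∀ c ∈ C, g * c * g⁻¹ ∈ C := by
      intro g hg c hc
      refine Subgroup.mem_centralizer_iff.2 fun v hv => ?_
      have hv' : g⁻¹ * v * g ∈ V := by
        have := (Subgroup.mem_normalizer_iff.1 (inv_mem hg) v).1 hv
        rwa [inv_inv] at this
      have e := Subgroup.mem_centralizer_iff.1 hc _ hv'
      calc v * (g * c * g⁻¹) = g * ((g⁻¹ * v * g) * c) * g⁻¹ := by group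
        _ = g * (c * (g⁻¹ * v * g)) * g⁻¹ := by rw [e]
        _ = g * c * g⁻¹ * v := by group
    have hw : z * x * z * x⁻¹ ∈ C := by
      refine Subgroup.mem_centralizer_iff.2 fun v hv => ?_
      have e1 := hinvert v hv
      have hxv : x⁻¹ * v * x ∈ V := by
        have := (Subgroup.mem_normalizer_iff.1 (inv_mem (hK hxK)) v).1 hv
        rwa [inv_inv] at this
      have e2 := hinvert _ hxv
      calc v * (z * x * z * x⁻¹) = (z * z) * v * (z * x * z * x⁻¹) := by rw [hzz, one_mul]
        _ = z * (z * v * z) * (x * z * x⁻¹) := by group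
        _ = z * v⁻¹ * (x * z * x⁻¹) := by rw [e1]
        _ = z * x * (x⁻¹ * v * x)⁻¹ * z * x⁻¹ := by group
        _ = z * x * (z * (x⁻¹ * v * x) * z) * z * x⁻¹ := by rw [e2]
        _ = z * x * z * (x⁻¹ * v * x) * (z * z) * x⁻¹ := by group
        _ = z * x * z * x⁻¹ * v := by rw [hzz]; group
    let φ : Function.End C := fun c => ⟨z * c * z⁻¹ * (z * x * z * x⁻¹),
      mul_mem (hCn z (hK hzK) c c.2) hw⟩
    have hφ : ∀ c, φ (φ c) = c := fun c => Subtype.ext (by
      show z * (z * c * z⁻¹ * (z * x * z * x⁻¹)) * z⁻¹ * (z * x * z * x⁻¹) = (c : G)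
      rw [hzi]
      calc z * (z * (c : G) * z * (z * x * z * x⁻¹)) * z * (z * x * z * x⁻¹)
          = (z * z) * c * (z * z) * x * z * x⁻¹ * (z * z) * x * z * x⁻¹ := by group
        _ = (c : G) * x * z * (x⁻¹ * x) * z * x⁻¹ := by rw [hzz]; group
        _ = (c : G) * x * (z * z) * x⁻¹ := by group
        _ = c := by rw [hzz]; group)
    obtain ⟨k, hk⟩ := hCp.exists_card_eq
    haveI := Fintype.ofFinite C
    have hodd : ¬ 2 ∣ Fintype.card C := by
      rw [← Nat.card_eq_fintype_card, hk]
      exact fun e => h.odd ((Nat.prime_dvd_prime_iff_eq Nat.prime_two h.prime).1 (Nat.prime_two.dvd_of_dvd_pow e)).symm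
    obtain ⟨c, hc⟩ := Equiv.Perm.exists_fixed_point_of_prime (p := 2) (n := 1) hodd
      (σ := Function.Involutive.toPerm φ hφ) (Equiv.ext fun c => hφ c)
    have hc' : z * (c : G) * z⁻¹ * (z * x * z * x⁻¹) = c := congrArg Subtype.val hc
    have hcom : Commute ((c : G) * x) z := by
      show (c : G) * x * z = z * ((c : G) * x)
      calc (c : G) * x * z = z * (c : G) * z⁻¹ * (z * x * z * x⁻¹) * x * z := by rw [hc']
        _ = z * ((c : G) * x) * (z * z) := by group
        _ = z * ((c : G) * x) := by rw [hzz, mul_one]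
    have hcx : (c : G) * x ≠ 1 := fun e => hxC (by rw [eq_inv_of_mul_eq_one_right e]; exact inv_mem c.2)
    have hmem : ((c : G) * x) ^ p ∈ C := by
      suffices ∀ m, ((c : G) * x) ^ m * (x ^ m)⁻¹ ∈ C by
        have e := this p
        rwa [← hx, pow_orderOf_eq_one, inv_one, mul_one, hx] at e
      intro m
      induction m with
      | zero => simp [C.one_mem]
      | succ m ih =>
        have e : ((c : G) * x) ^ (m + 1) * (x ^ (m + 1))⁻¹ =
            (((c : G) * x) ^ m * (x ^ m)⁻¹) * (x ^ m * c * (x ^ m)⁻¹) := by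
          rw [pow_succ, pow_succ]; group
        rw [e]
        exact mul_mem ih (hCn _ (pow_mem (hK hxK) m) c c.2)
    obtain ⟨s, hs, hsd⟩ := Nat.exists_prime_and_dvd (fun e => hcx (orderOf_eq_one_iff.1 e))
    have hsp : s ∣ p := by
      have h1 : ((c : G) * x) ^ (p * p) = 1 := by rw [pow_mul]; exact h.pow_p_of_isPGroup hCp hmem
      exact ((hs.dvd_mul).1 (hsd.trans (orderOf_dvd_of_pow_eq_one h1))).elim id id
    have hcxo := h.exp_p ((Nat.prime_dvd_prime_iff_eq hs h.prime).1 hsp ▸ hsd)
    exact h.no_commute hcxo Nat.prime_two (fun e => h.odd e.symm) hz hcom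
  -- odd order
  by_cases hp : ∀ r : ℕ, r.Prime → r ∣ Nat.card K → r = p
  · refine ⟨K, IsPGroup.of_card (n := (Nat.card K).primeFactorsList.length) ?_, fun x hx _ => hx⟩
    exact Nat.eq_prime_pow_of_unique_prime_dvd Nat.card_pos.ne' fun {d} hd hdvd => hp d hd hdvd
  push Not at hp
  classical
  have hex : ∃ r : ℕ, r.Prime ∧ r ∣ Nat.card K ∧ r ≠ p := hp
  set r := Nat.find hex
  obtain ⟨hr, hrd, hrp⟩ : r.Prime ∧ r ∣ Nat.card K ∧ r ≠ p := Nat.find_spec hex
  haveI := Fact.mk hr
  have hr2 : r ≠ 2 := fun e => h2 (e ▸ hrd)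
  obtain ⟨R⟩ : Nonempty (Sylow r K) := inferInstance
  haveI hRc : IsCyclic (R : Subgroup K) := by
    haveI := h.cyclic_of_odd hr hr2 hrp ((R : Subgroup K).map K.subtype) (R.2.map _)
    exact ((R : Subgroup K).equivMapOfInjective K.subtype K.subtype_injective).isCyclic.2 inferInstance
  have hP : Subgroup.normalizer ((R : Subgroup K) : Set K) ≤ Subgroup.centralizer ((R : Subgroup K) : Set K) := by
    set φ := (R : Subgroup K).normalizerMonoidHom with hφdef
    have hker : ∀ g, φ g = 1 → (g : K) ∈ Subgroup.centralizer ((R : Subgroup K) : Set K) := fun g hg => by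
      refine Subgroup.mem_centralizer_iff.2 fun a ha => ?_
      have := congrArg Subtype.val (DFunLike.congr_fun hg ⟨a, ha⟩)
      have e : (g : K) * a * (g : K)⁻¹ = a := this
      calc a * (g : K) = ((g : K) * a * (g : K)⁻¹) * g := by rw [e]
        _ = (g : K) * a := by group
    intro g hg
    by_contra hgc
    have hne1 : φ ⟨g, hg⟩ ≠ 1 := fun e => hgc (hker _ e)
    obtain ⟨s, hs, hsd⟩ := Nat.exists_prime_and_dvd (fun e => hne1 (orderOf_eq_one_iff.1 e))
    have hsK : s ∣ Nat.card K := hsd.trans ((orderOf_map_dvd φ _).trans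
      (Subgroup.orderOf_coe (⟨g, hg⟩ : Subgroup.normalizer ((R : Subgroup K) : Set K)) ▸ orderOf_dvd_natCard _))
    set g₁ : Subgroup.normalizer ((R : Subgroup K) : Set K) := ⟨g, hg⟩
    set g₂ := g₁ ^ (orderOf g₁ / s)
    have hg₂ : orderOf g₂ = s := orderOf_pow_orderOf_div (orderOf_pos g₁).ne' (hsd.trans (orderOf_map_dvd φ _))
    have hsp : s = p := by
      by_contra hsp
      have hsr : s ≠ r := by
        rintro rfl
        have hmem : g₂ ∈ ((R : Subgroup K)).subgroupOf (Subgroup.normalizer ((R : Subgroup K) : Set K)) := by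
          rw [Subgroup.mem_subgroupOf]
          have h1 : IsPGroup r (Subgroup.zpowers (g₂ : K)) :=
            IsPGroup.of_card (n := 1) (by rw [Nat.card_zpowers, Subgroup.orderOf_coe, hg₂, pow_one])
          have h3 : (g₂ : K) ∈ Subgroup.zpowers (g₂ : K) ⊓ Subgroup.normalizer ((R : Subgroup K) : Set K) :=
            ⟨Subgroup.mem_zpowers _, g₂.2⟩
          exact ((h1.inf_normalizer_sylow R).le h3).2
        have hfac : r ∣ Nat.card (φ.range) := hsd.trans (by
          rw [show orderOf (φ g₁) = orderOf (⟨φ g₁, g₁, rfl⟩ : φ.range) from (Subgroup.orderOf_mk _ _).symm]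
          exact orderOf_dvd_natCard _)
        have hidx : φ.ker.index = Nat.card φ.range := Subgroup.index_ker φ
        have hle : ((R : Subgroup K)).subgroupOf (Subgroup.normalizer ((R : Subgroup K) : Set K)) ≤ φ.ker := by
          intro a ha
          rw [MonoidHom.mem_ker]
          refine MulEquiv.ext fun b => Subtype.ext ?_
          show (a : K) * b * (a : K)⁻¹ = b
          have := congrArg Subtype.val (mul_comm' (⟨(a : K), Subgroup.mem_subgroupOf.1 ha⟩ : (R : Subgroup K)) b)
          simp only [Subgroup.coe_mul] at this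
          rw [this, mul_inv_cancel_right]
        have h4 := (Subgroup.index_dvd_of_le hle)
        rw [hidx] at h4
        have h5 : ¬ r ∣ ((R : Subgroup K).subgroupOf (Subgroup.normalizer ((R : Subgroup K) : Set K))).index :=
          (R.subtype Subgroup.le_normalizer).not_dvd_index
        exact h5 (hfac.trans h4)
      have hlt : s < r := by
        have h1 : s ∣ Nat.card (MulAut (R : Subgroup K)) := hsd.trans (orderOf_dvd_natCard _)
        rw [IsCyclic.card_mulAut] at h1
        obtain ⟨k, hk⟩ := R.2.exists_card_eq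
        rw [hk] at h1
        rcases Nat.eq_zero_or_pos k with rfl | hk0
        · simp [hs.ne_one] at h1
        rw [Nat.totient_prime_pow hr hk0] at h1
        rcases hs.dvd_mul.1 h1 with h3 | h3
        · exact absurd ((Nat.prime_dvd_prime_iff_eq hs hr).1 (hs.dvd_of_dvd_pow h3)) hsr
        · exact lt_of_le_of_lt (Nat.le_of_dvd (by have := hr.two_le; omega) h3) (Nat.sub_lt hr.pos one_pos)
      exact Nat.find_min hex hlt ⟨hs, hsK, hsp⟩
    have hgen : ∃ g' : Subgroup.normalizer ((R : Subgroup K) : Set K),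
        orderOf g' = p ∧ φ g' ≠ 1 := by
      have hd : p ∣ orderOf g₁ := hsp ▸ hsd.trans (orderOf_map_dvd φ _)
      refine ⟨g₁, ?_, hne1⟩
      rw [← Subgroup.orderOf_coe, ← Subgroup.orderOf_coe]
      exact h.exp_p (by rwa [Subgroup.orderOf_coe, Subgroup.orderOf_coe])
    obtain ⟨g', hg', hne'⟩ := hgen
    have hRdvd : r ∣ Nat.card (R : Subgroup K) := by
      obtain ⟨k, hk⟩ := R.2.exists_card_eq
      refine hk ▸ dvd_pow_self r fun e => ?_
      subst e
      exact R.not_dvd_index (by
        rw [← Subgroup.card_mul_index (R : Subgroup K), hk, pow_zero, one_mul] at hrd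
        exact hrd)
    obtain ⟨a, ha⟩ := exists_prime_orderOf_dvd_card' (G := (R : Subgroup K)) r hRdvd
    have hconj : φ g' a ∈ Subgroup.zpowers a := by
      haveI := Fintype.ofFinite (R : Subgroup K)
      haveI := Fintype.ofFinite (Subgroup.zpowers a)
      have hsub : Finset.univ.filter (fun b : (R : Subgroup K) => b ∈ Subgroup.zpowers a) =
          Finset.univ.filter (fun b : (R : Subgroup K) => b ^ r = 1) := by
        refine Finset.eq_of_subset_of_card_le (fun b hb => ?_) ?_
        · obtain ⟨k, rfl⟩ := Subgroup.mem_zpowers_iff.1 (Finset.mem_filter.1 hb).2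
          refine Finset.mem_filter.2 ⟨Finset.mem_univ _, ?_⟩
          rw [← zpow_natCast, ← zpow_mul, mul_comm, zpow_mul, zpow_natCast, orderOf_dvd_iff_pow_eq_one.1 ha.dvd, one_zpow]
        · refine (IsCyclic.card_pow_eq_one_le hr.pos).trans (le_of_eq ?_)
          rw [← Fintype.card_subtype, ← Nat.card_eq_fintype_card]
          exact (Nat.card_zpowers a).trans ha |>.symm
      have hmem : φ g' a ∈ Finset.univ.filter (fun b : (R : Subgroup K) => b ^ r = 1) := by
        refine Finset.mem_filter.2 ⟨Finset.mem_univ _, ?_⟩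
        rw [← map_pow, orderOf_dvd_iff_pow_eq_one.1 ha.dvd, map_one]
      rw [← hsub] at hmem
      exact (Finset.mem_filter.1 hmem).2
    refine h.no_normalise hVp hne (x := ((g' : K) : G)) (y := ((a : K) : G)) ?_ hr hrp ?_ (hK (g' : K).2)
      (hK (a : K).2) ?_
    · rw [Subgroup.orderOf_coe, Subgroup.orderOf_coe, hg']
    · rw [Subgroup.orderOf_coe, Subgroup.orderOf_coe, ha]
    · obtain ⟨k, hk⟩ := Subgroup.mem_zpowers_iff.1 hconj
      refine Subgroup.mem_zpowers_iff.2 ⟨k, ?_⟩
      have := congrArg (fun t : (R : Subgroup K) => ((t : K) : G)) hk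
      simp only [Subgroup.coe_zpow] at this
      exact this
  set M := (MonoidHom.transferSylow R hP).ker with hM
  have hlt : Nat.card M < Nat.card K := by
    refine Nat.lt_of_le_of_ne (Subgroup.card_le_card_group M) fun e => ?_
    exact MonoidHom.not_dvd_card_ker_transferSylow R hP (e ▸ hrd)
  obtain ⟨S, hS, hmem⟩ := ih (Nat.card M) (hKn ▸ hlt) (M.map K.subtype)
    (Nat.card_congr (M.equivMapOfInjective K.subtype K.subtype_injective).toEquiv).symm
    ((Subgroup.map_subtype_le M).trans hK)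
  refine ⟨S, hS, fun x hxK hx => hmem x ⟨⟨x, hxK⟩, ?_, rfl⟩ hx⟩
  show MonoidHom.transferSylow R hP ⟨x, hxK⟩ = 1
  obtain ⟨k, hk⟩ := R.2.exists_orderOf_eq_pow (MonoidHom.transferSylow R hP ⟨x, hxK⟩)
  have h1 : orderOf (MonoidHom.transferSylow R hP ⟨x, hxK⟩) ∣ p := by
    refine (orderOf_map_dvd _ _).trans ?_
    rw [Subgroup.orderOf_mk, hx]
  rw [← orderOf_eq_one_iff]
  rcases (Nat.dvd_prime h.prime).1 h1 with e | e
  · exact e
  · exfalso
    rw [e] at hk
    exact hrp ((Nat.prime_dvd_prime_iff_eq hr h.prime).1 (by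
      rcases Nat.eq_zero_or_pos k with rfl | hk0
      · exact absurd hk h.prime.ne_one
      · exact hk ▸ dvd_pow_self r hk0.ne'))

/-- Distinct Sylow `p`-subgroups meet trivially. -/
theorem sylow_inf_eq_bot [Fact p.Prime] (P Q : Sylow p G) (hPQ : P ≠ Q) :
    (P : Subgroup G) ⊓ (Q : Subgroup G) = ⊥ := by
  classical
  by_contra hne
  let A : Set (Sylow p G × Sylow p G) := {t | t.1 ≠ t.2 ∧ (t.1 : Subgroup G) ⊓ t.2 ≠ ⊥}
  obtain ⟨⟨P, Q⟩, ⟨hPQ, hD0⟩, hmax⟩ := Set.exists_max_image A
    (fun t => Nat.card ((t.1 : Subgroup G) ⊓ t.2 : Subgroup G)) (Set.toFinite A) ⟨(P, Q), hPQ, hne⟩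
  set D : Subgroup G := (P : Subgroup G) ⊓ Q with hDdef
  have hDp : IsPGroup p D := P.2.to_le inf_le_left
  set V : Subgroup G := (Subgroup.center D).map D.subtype with hVdef
  have hVp : IsPGroup p V := hDp.to_le (Subgroup.map_subtype_le _)
  have hV0 : V ≠ ⊥ := by
    rw [hVdef, Ne, Subgroup.map_eq_bot_iff_of_injective _ D.subtype_injective]
    haveI : Nontrivial D := (Subgroup.nontrivial_iff_ne_bot D).2 hD0
    intro e
    have := hDp.center_nontrivial
    rw [e] at this
    exact not_nontrivial (⊥ : Subgroup D) this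
  haveI : IsMulCommutative V := by
    refine ⟨⟨fun a b => Subtype.ext ?_⟩⟩
    obtain ⟨a', ha', ea⟩ := a.2
    obtain ⟨b', -, eb⟩ := b.2
    show (a : G) * b = b * a
    rw [← ea, ← eb, ← map_mul, ← map_mul, Subgroup.mem_center_iff.1 ha' b']
  have hnorm : Subgroup.normalizer (D : Set G) ≤ Subgroup.normalizer (V : Set G) := by
    have key : ∀ g ∈ Subgroup.normalizer (D : Set G), ∀ v ∈ V, g * v * g⁻¹ ∈ V := by
      rintro g hg _ ⟨⟨v, hv⟩, hvc, rfl⟩
      refine ⟨⟨g * v * g⁻¹, (Subgroup.mem_normalizer_iff.1 hg v).1 hv⟩, ?_, rfl⟩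
      refine Subgroup.mem_center_iff.2 fun d => ?_
      have hd' : g⁻¹ * d * g ∈ D := by
        have := (Subgroup.mem_normalizer_iff.1 (inv_mem hg) d).1 d.2
        rwa [inv_inv] at this
      have e := congrArg Subtype.val (Subgroup.mem_center_iff.1 hvc ⟨_, hd'⟩)
      refine Subtype.ext ?_
      show (d : G) * (g * v * g⁻¹) = g * v * g⁻¹ * d
      simp only [Subgroup.coe_mul] at e
      calc (d : G) * (g * v * g⁻¹) = g * ((g⁻¹ * d * g) * v) * g⁻¹ := by group
        _ = g * (v * (g⁻¹ * d * g)) * g⁻¹ := by rw [e]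
        _ = g * v * g⁻¹ * d := by group
    intro g hg
    refine Subgroup.mem_normalizer_iff.2 fun v => ⟨key g hg v, fun hv => ?_⟩
    have := key g⁻¹ (inv_mem hg) _ hv
    rwa [inv_inv, show g⁻¹ * (g * v * g⁻¹) * g = v by group] at this
  obtain ⟨S, hS, hmem⟩ := h.exists_p_part hVp hV0 _ _ rfl le_rfl
  obtain ⟨T, hT⟩ := hS.exists_le_sylow
  have step : ∀ R R' : Sylow p G, (R : Subgroup G) ⊓ R' = D → R ≠ R' → T = R := by
    intro R R' hRR' hne'
    have hlt : D < (R : Subgroup G) := by
      refine lt_of_le_of_ne (hRR' ▸ inf_le_left) fun e => hne' ?_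
      have hle : (R : Subgroup G) ≤ R' := e ▸ hRR' ▸ inf_le_right
      exact (Sylow.ext (R.3 R'.2 hle)).symm
    haveI : Group.IsNilpotent (R : Subgroup G) := R.2.isNilpotent
    have hDne : D.subgroupOf (R : Subgroup G) < ⊤ := by
      rw [lt_top_iff_ne_top]
      intro e
      exact hlt.ne (le_antisymm hlt.le (Subgroup.subgroupOf_eq_top.1 e))
    have hgrow := Group.normalizerCondition_of_isNilpotent _ hDne
    obtain ⟨a, ha, hane⟩ := SetLike.exists_of_lt hgrow
    have haG : (a : G) ∈ Subgroup.normalizer (D : Set G) := by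
      refine Subgroup.mem_normalizer_iff.2 fun d => ?_
      constructor
      · intro hd
        exact (Subgroup.mem_normalizer_iff.1 ha ⟨d, hlt.le hd⟩).1 hd
      · intro hd
        have hdR : d ∈ (R : Subgroup G) := by
          have := mul_mem (mul_mem (inv_mem a.2) (hlt.le hd)) a.2
          simpa [mul_assoc] using this
        exact (Subgroup.mem_normalizer_iff.1 ha ⟨d, hdR⟩).2 hd
    have hmemT : ∀ g ∈ (R : Subgroup G), g ∈ Subgroup.normalizer (D : Set G) → g ∈ (T : Subgroup G) := by
      intro g hgR hg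
      rcases eq_or_ne g 1 with rfl | hg1
      · exact one_mem _
      · exact hT (hmem g (hnorm hg) (orderOf_eq_prime (h.pow_p_of_isPGroup R.2 hgR) hg1))
    by_contra hTR
    have hbig : D < (T : Subgroup G) ⊓ R := by
      refine lt_of_le_of_ne (le_inf (fun d hd => hmemT d (hlt.le hd) (Subgroup.le_normalizer hd)) hlt.le) fun e => ?_
      exact hane (Subgroup.mem_subgroupOf.2 (e ▸ ⟨hmemT _ a.2 haG, a.2⟩))
    have hin : (T, R) ∈ A := ⟨hTR, fun e => not_lt_bot (e ▸ hbig)⟩
    have h1 := hmax (T, R) hin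
    dsimp only at h1
    exact hbig.ne (Subgroup.eq_of_le_of_card_ge hbig.le h1)
  have e1 := step P Q rfl hPQ
  have e2 := step Q P (inf_comm _ _) (Ne.symm hPQ)
  exact hPQ (e1.symm.trans e2)

end LikePSL2

end H64
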