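import Cfsg.Agent.H64.LikePSL2
import Cfsg.Agent.S0731
import Cfsg.Agent.S0738

/-!
A group with the order and element orders of `PSL₂(q)`, `q` odd, is a Zassenhaus group on its Sylow
`p`-subgroups, hence isomorphic to some `PSL₂`.
-/

set_option autoImplicit false

namespace H64

open Subgroup MulAction Pointwise

/-- A semiregular action: the group order divides the number of points. -/
theorem semireg_dvd {H α : Type*} [Group H] [MulAction H α] [Finite α]
    (hfree : ∀ a : α, stabilizer H a = ⊥) : Nat.card H ∣ Nat.card α := by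
  have e : ∀ ω : Quotient (orbitRel H α), H ⧸ stabilizer H ω.out ≃ H := fun ω =>
    ((Subgroup.quotientEquivOfEq (hfree ω.out)).trans (QuotientGroup.quotientBot (G := H)).toEquiv)
  rw [Nat.card_congr ((selfEquivSigmaOrbitsQuotientStabilizer H α).trans
    ((Equiv.sigmaCongrRight e).trans (Equiv.sigmaEquivProd _ H))), Nat.card_prod]
  exact dvd_mul_left _ _

namespace LikePSL2

variable {G : Type*} [Group G] [Finite G] {p q : ℕ} (h : LikePSL2 G p q)
include h

theorem card_sylow_eq [Fact p.Prime] (P : Sylow p G) : Nat.card (P : Subgroup G) = q := by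
  obtain ⟨f, hf, hq⟩ := h.pow
  rw [Sylow.card_eq_multiplicity, hq]
  congr 1
  obtain ⟨c, hc⟩ := h.q_odd
  have h5 := h.five
  have h2 : Nat.card G = p ^ f * (((q - 1) / 2) * ((q + 1) / 2)) * 2 := by
    have := h.card
    rw [show q - 1 = 2 * ((q - 1) / 2) by omega, show q + 1 = 2 * ((q + 1) / 2) by omega] at this
    rw [← hq]
    linarith
  have hp2 : ¬ p ∣ 2 := fun e => h.odd ((Nat.prime_dvd_prime_iff_eq h.prime Nat.prime_two).1 e)
  have h1 : (q - 1) / 2 ≠ 0 := by omega
  have h3 : (q + 1) / 2 ≠ 0 := by omega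
  have hp0 : p ^ f ≠ 0 := (Nat.pow_pos h.prime.pos).ne'
  rw [h2, Nat.factorization_mul (mul_ne_zero hp0 (mul_ne_zero h1 h3)) two_ne_zero,
    Nat.factorization_mul hp0 (mul_ne_zero h1 h3), Nat.factorization_mul h1 h3, Nat.factorization_pow]
  simp [Nat.factorization_eq_zero_of_not_dvd hp2, Nat.factorization_eq_zero_of_not_dvd h.not_dvd_halves.1,
    Nat.factorization_eq_zero_of_not_dvd h.not_dvd_halves.2, Nat.Prime.factorization_self h.prime]

theorem p_element_fixes [Fact p.Prime] {P Q : Sylow p G} {x : G} (hx : x ∈ (P : Subgroup G)) (hfix : x • Q = Q) :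
    x ∈ (Q : Subgroup G) := by
  have hn : x ∈ Subgroup.normalizer ((Q : Subgroup G) : Set G) := Sylow.smul_eq_iff_mem_normalizer.1 hfix
  have hp : IsPGroup p (Subgroup.zpowers x) := P.2.to_le (Subgroup.zpowers_le.2 hx)
  exact ((hp.inf_normalizer_sylow Q).le ⟨Subgroup.mem_zpowers x, hn⟩).2

theorem p_element_free [Fact p.Prime] {P Q : Sylow p G} (hQ : Q ≠ P) {x : G} (hx : x ∈ (P : Subgroup G))
    (hfix : x • Q = Q) : x = 1 := by
  have h1 : x ∈ (P : Subgroup G) ⊓ Q := ⟨hx, h.p_element_fixes hx hfix⟩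
  rwa [h.sylow_inf_eq_bot P Q (Ne.symm hQ), Subgroup.mem_bot] at h1

/-- The number of Sylow subgroups and the order of a normaliser. -/
theorem sylow_numbers [Fact p.Prime] (P : Sylow p G) :
    Nat.card (Sylow p G) = q + 1 ∧ Nat.card (stabilizer G P) = q * ((q - 1) / 2) := by
  classical
  have hPc := h.card_sylow_eq P
  obtain ⟨c, hc⟩ := h.q_odd
  have h5 := h.five
  -- the orbits of `P` on the other Sylow subgroups
  haveI : Finite {Q : Sylow p G // Q ≠ P} := inferInstance
  letI : MulAction (P : Subgroup G) {Q : Sylow p G // Q ≠ P} :=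
    { smul := fun x Q => ⟨(x : G) • Q.1, fun e => Q.2 (by
        have h1 : (x : G) • P = P := Sylow.smul_eq_iff_mem_normalizer.2 (Subgroup.le_normalizer x.2)
        exact smul_left_cancel (x : G) (e.trans h1.symm))⟩
      one_smul := fun Q => Subtype.ext (one_smul G Q.1)
      mul_smul := fun x y Q => Subtype.ext (mul_smul (x : G) (y : G) Q.1) }
  have hdvd : q ∣ Nat.card {Q : Sylow p G // Q ≠ P} := by
    rw [← hPc]
    refine semireg_dvd fun Q => (Subgroup.eq_bot_iff_forall _).2 fun x hx => Subtype.ext ?_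
    exact h.p_element_free Q.2 x.2 (congrArg Subtype.val hx)
  have hn : Nat.card (Sylow p G) = Nat.card {Q : Sylow p G // Q ≠ P} + 1 := by
    rw [← Nat.card_congr (Equiv.optionSubtypeNe P), Finite.card_option]
  -- the normaliser
  set N := stabilizer G P with hNdef
  set P' := (P : Subgroup G).subgroupOf N with hP'
  have hle : (P : Subgroup G) ≤ N := fun x hx => Sylow.smul_eq_iff_mem_normalizer.2 (Subgroup.le_normalizer hx)
  haveI : P'.Normal := ⟨fun a ha g => by
    rw [hP', Subgroup.mem_subgroupOf] at ha ⊢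
    exact (Subgroup.mem_normalizer_iff.1 (Sylow.smul_eq_iff_mem_normalizer.1 g.2) _).1 ha⟩
  have hP'c : Nat.card P' = q := (Nat.card_congr (Subgroup.subgroupOfEquivOfLe hle).toEquiv).trans hPc
  have hcop : Nat.Coprime (Nat.card P') P'.index := by
    obtain ⟨f, hf, hq⟩ := h.pow
    rw [hP'c, hq]
    exact Nat.Coprime.pow_left _ (h.prime.coprime_iff_not_dvd.2 (P.subtype hle).not_dvd_index)
  obtain ⟨H, hH⟩ := Subgroup.exists_right_complement'_of_coprime hcop
  set m := P'.index with hmdef
  have hHc : Nat.card H = m := (hH.symm.index_eq_card).symm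
  have hNc : Nat.card N = q * m := by rw [← P'.card_mul_index, hP'c]
  have hm : m ∣ q - 1 := by
    letI : MulAction H {x : P' // x ≠ 1} :=
      { smul := fun g x => ⟨⟨(g : N) * x.1 * (g : N)⁻¹, (inferInstance : P'.Normal).conj_mem _ x.1.2 _⟩, fun e =>
          x.2 (Subtype.ext (conj_eq_one_iff.1 (congrArg Subtype.val e)))⟩
        one_smul := fun x => Subtype.ext (Subtype.ext (by
          show (1 : N) * x.1 * (1 : N)⁻¹ = x.1
          simp))
        mul_smul := fun a b x => Subtype.ext (Subtype.ext (by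
          show ((a : N) * b) * x.1 * ((a : N) * b)⁻¹ = (a : N) * ((b : N) * x.1 * (b : N)⁻¹) * (a : N)⁻¹
          group)) }
    have hd := semireg_dvd (H := H) (α := {x : P' // x ≠ 1}) fun x => (Subgroup.eq_bot_iff_forall _).2 fun g hg => by
      by_contra hg1
      have hgN : (g : N) ≠ 1 := fun e => hg1 (Subtype.ext e)
      have hxP : ((x.1 : N) : G) ∈ (P : Subgroup G) := x.1.2
      have hxo : orderOf ((x.1 : N) : G) = p := orderOf_eq_prime (h.pow_p_of_isPGroup P.2 hxP)
        fun e => x.2 (Subtype.ext (Subtype.ext e))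
      obtain ⟨r, hr, hrd⟩ := Nat.exists_prime_and_dvd (fun e => hgN (orderOf_eq_one_iff.1 e))
      have hrp : r ≠ p := by
        rintro rfl
        have h1 : r ∣ m := hHc ▸ (hrd.trans ((Subgroup.orderOf_coe g).dvd.trans (orderOf_dvd_natCard g)))
        obtain ⟨f, hf, hq⟩ := h.pow
        have : r ∣ Nat.gcd (Nat.card P') m := Nat.dvd_gcd (by rw [hP'c, hq]; exact dvd_pow_self r hf.ne') h1
        rw [hcop] at this
        exact hr.not_dvd_one this
      have hy := orderOf_pow_orderOf_div (orderOf_pos (((g : N) : G))).ne'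
        (show r ∣ orderOf ((g : N) : G) by rwa [Subgroup.orderOf_coe])
      refine h.no_commute hxo hr hrp hy (Commute.pow_right ?_ _)
      have e : (g : N) * x.1 * (g : N)⁻¹ = x.1 := congrArg (fun t : {x : P' // x ≠ 1} => (t.1 : N)) hg
      have e' := congrArg (fun t : N => (t : G)) e
      simp only [Subgroup.coe_mul, Subgroup.coe_inv] at e'
      show ((x.1 : N) : G) * (g : N) = ((g : N) : G) * (x.1 : N)
      calc ((x.1 : N) : G) * (g : N) = ((g : N) : G) * (x.1 : N) * ((g : N) : G)⁻¹ * (g : N) := by rw [e']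
        _ = _ := by group
    have e : Nat.card {x : P' // x ≠ 1} = q - 1 := by
      have := Nat.card_congr (Equiv.optionSubtypeNe (1 : P'))
      rw [Finite.card_option, hP'c] at this
      omega
    rwa [hHc, e] at hd
  -- the arithmetic
  have horb : Nat.card (Sylow p G) * (q * m) = Nat.card G := by
    rw [← hNc, ← MulAction.index_stabilizer_of_transitive G P, Subgroup.index_mul_card]
  obtain ⟨k, hk⟩ := hdvd
  rw [hk] at hn
  have hG := h.card
  rw [← horb, hn] at hG
  have hq0 : 0 < q := by omega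
  have hG' : 2 * m * (q * k + 1) = (q - 1) * (q + 1) :=
    Nat.eq_of_mul_eq_mul_left hq0 (by linarith)
  obtain ⟨e, he⟩ := hm
  have hm0 : 0 < m := Nat.pos_of_ne_zero fun e' => by rw [e', zero_mul] at he; omega
  have hcase : e = 2 ∧ k = 1 := by
    rw [he] at hG'
    have h2 : 2 * (q * k + 1) = e * (q + 1) := Nat.eq_of_mul_eq_mul_left hm0 (by linarith)
    -- `e ≡ 2 (mod q)` with `e ≤ q - 1`
    have hle' : e ≤ q - 1 := he ▸ Nat.le_mul_of_pos_left e hm0
    have h3 : q * (2 * k) + 2 = q * e + e := by linarith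
    rcases lt_trichotomy (2 * k) e with hlt | heq | hgt
    · have := Nat.mul_le_mul_left q (Nat.succ_le_of_lt hlt)
      rw [Nat.mul_succ] at this
      omega
    · rw [heq] at h3
      omega
    · have := Nat.mul_le_mul_left q (Nat.succ_le_of_lt hgt)
      rw [Nat.mul_succ] at this
      omega
  obtain ⟨rfl, rfl⟩ := hcase
  refine ⟨by rw [hn, mul_one], ?_⟩
  rw [hNc, he, Nat.mul_div_cancel _ two_pos]

/-- `P` is regular on the other Sylow subgroups. -/
theorem regular [Fact p.Prime] (P : Sylow p G) {Q R : Sylow p G} (hQ : Q ≠ P) (hR : R ≠ P) :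
    ∃! u : (P : Subgroup G), (u : G) • Q = R := by
  classical
  let φ : ↥(P : Subgroup G) → {R : Sylow p G // R ≠ P} := fun u => ⟨(u : G) • Q, fun e => hQ (by
    have h1 : (u : G) • P = P := Sylow.smul_eq_iff_mem_normalizer.2 (Subgroup.le_normalizer u.2)
    exact smul_left_cancel (u : G) (e.trans h1.symm))⟩
  have hinj : Function.Injective φ := fun u v e => by
    have e' : (u : G) • Q = (v : G) • Q := congrArg Subtype.val e
    have h1 : ((v : G)⁻¹ * u) • Q = Q := by rw [mul_smul, e', inv_smul_smul]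
    have := h.p_element_free hQ (mul_mem (inv_mem v.2) u.2) h1
    exact Subtype.ext (inv_mul_eq_one.1 this).symm
  have hc : Nat.card (P : Subgroup G) = Nat.card {R : Sylow p G // R ≠ P} := by
    have h1 := Nat.card_congr (Equiv.optionSubtypeNe P)
    rw [Finite.card_option, (h.sylow_numbers P).1] at h1
    rw [h.card_sylow_eq P]
    omega
  obtain ⟨u, hu⟩ := ((Nat.bijective_iff_injective_and_card φ).2 ⟨hinj, hc⟩).2 ⟨R, hR⟩
  exact ⟨u, congrArg Subtype.val hu, fun v hv => hinj (Subtype.ext (hv.trans (congrArg Subtype.val hu).symm))⟩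

theorem card_two_point [Fact p.Prime] {P Q : Sylow p G} (hQ : Q ≠ P) :
    Nat.card (stabilizer G P ⊓ stabilizer G Q : Subgroup G) = (q - 1) / 2 := by
  classical
  let φ : ↥(P : Subgroup G) × ↥(stabilizer G P ⊓ stabilizer G Q) → stabilizer G P := fun t =>
    ⟨(t.1 : G) * t.2, mul_mem (Sylow.smul_eq_iff_mem_normalizer.2 (Subgroup.le_normalizer t.1.2)) t.2.2.1⟩
  have hbij : Function.Bijective φ := by
    constructor
    · rintro ⟨u, g⟩ ⟨u', g'⟩ e
      have e' : (u : G) * g = (u' : G) * g' := congrArg Subtype.val e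
      have hQu : (u : G) • Q = (u' : G) • Q := by
        have h1 := congrArg (fun t : G => t • Q) e'
        simpa only [mul_smul, show (g : G) • Q = Q from g.2.2, show (g' : G) • Q = Q from g'.2.2] using h1
      have hR : (u' : G) • Q ≠ P := fun eq => hQ (by
        have h1 : (u' : G) • P = P := Sylow.smul_eq_iff_mem_normalizer.2 (Subgroup.le_normalizer u'.2)
        exact smul_left_cancel (u' : G) (eq.trans h1.symm))
      obtain rfl := (h.regular P hQ hR).unique hQu rfl
      exact Prod.ext rfl (Subtype.ext (mul_left_cancel e'))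
    · rintro ⟨g, hg⟩
      have hR : g • Q ≠ P := fun e => hQ (smul_left_cancel g (e.trans (show g • P = P from hg).symm))
      obtain ⟨u, hu, -⟩ := h.regular P hQ hR
      have huP : (u : G) ∈ stabilizer G P := Sylow.smul_eq_iff_mem_normalizer.2 (Subgroup.le_normalizer u.2)
      refine ⟨(u, ⟨(u : G)⁻¹ * g, (stabilizer G P).mul_mem ((stabilizer G P).inv_mem huP) hg, ?_⟩),
        Subtype.ext (mul_inv_cancel_left _ _)⟩
      show ((u : G)⁻¹ * g) • Q = Q
      rw [mul_smul, ← hu, inv_smul_smul]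
  have := Nat.card_congr (Equiv.ofBijective φ hbij)
  rw [Nat.card_prod, h.card_sylow_eq P, (h.sylow_numbers P).2] at this
  exact Nat.eq_of_mul_eq_mul_left (by have := h.five; omega) this

theorem two_pretransitive [Fact p.Prime] : IsMultiplyPretransitive G (Sylow p G) 2 := by
  rw [is_two_pretransitive_iff]
  intro A B C D hAB hCD
  obtain ⟨g, rfl⟩ := exists_smul_eq G A C
  have hB : g⁻¹ • D ≠ A := fun e => hCD (by rw [← e, smul_inv_smul])
  obtain ⟨u, hu, -⟩ := h.regular A (Ne.symm hAB) hB
  refine ⟨g * u, ?_, ?_⟩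
  · rw [mul_smul, show (u : G) • A = A from Sylow.smul_eq_iff_mem_normalizer.2 (Subgroup.le_normalizer u.2)]
  · rw [mul_smul, hu, smul_inv_smul]

theorem three_fixed [Fact p.Prime] {g : G} {A B C : Sylow p G} (hab : A ≠ B) (hbc : B ≠ C) (hac : A ≠ C)
    (hA : g • A = A) (hB : g • B = B) (hC : g • C = C) : g = 1 := by
  obtain ⟨u, hu, huniq⟩ := h.regular A (Ne.symm hab) (Ne.symm hac)
  have hmem : g * u * g⁻¹ ∈ (A : Subgroup G) :=
    (Subgroup.mem_normalizer_iff.1 (Sylow.smul_eq_iff_mem_normalizer.1 hA) _).1 u.2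
  have e : (⟨g * u * g⁻¹, hmem⟩ : (A : Subgroup G)) = u := huniq _ (by
    show (g * u * g⁻¹) • B = C
    rw [mul_smul, mul_smul, inv_smul_eq_iff.2 hB.symm, hu, hC])
  have e' : g * u * g⁻¹ = u := congrArg Subtype.val e
  have hu1 : (u : G) ≠ 1 := fun e0 => hbc (by rw [← hu, e0, one_smul])
  have hxo : orderOf (u : G) = p := orderOf_eq_prime (h.pow_p_of_isPGroup A.2 u.2) hu1
  by_contra hg1
  obtain ⟨r, hr, hrd⟩ := Nat.exists_prime_and_dvd (fun e0 => hg1 (orderOf_eq_one_iff.1 e0))
  have hcm : Commute (u : G) g := by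
    show (u : G) * g = g * u
    calc (u : G) * g = g * u * g⁻¹ * g := by rw [e']
      _ = g * u := by group
  have hd : orderOf g ∣ (q - 1) / 2 := by
    rw [← h.card_two_point (P := A) (Q := B) (Ne.symm hab)]
    exact (Subgroup.orderOf_mk g (show g ∈ stabilizer G A ⊓ stabilizer G B from ⟨hA, hB⟩)).symm.dvd.trans
      (orderOf_dvd_natCard _)
  have hrp : r ≠ p := fun e0 => h.not_dvd_halves.1 (e0 ▸ hrd.trans hd)
  exact h.no_commute hxo hr hrp (orderOf_pow_orderOf_div (orderOf_pos g).ne' hrd) (hcm.pow_right _)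

theorem third_point [Fact p.Prime] (A B : Sylow p G) : ∃ C : Sylow p G, C ≠ A ∧ C ≠ B := by
  classical
  haveI := Fintype.ofFinite (Sylow p G)
  by_contra hcon
  push Not at hcon
  have hsub : (Finset.univ : Finset (Sylow p G)) ⊆ {A, B} := fun C _ => by
    by_cases e : C = A
    · simp [e]
    · simp [hcon C e]
  have h1 := (Finset.card_le_card hsub).trans (Finset.card_le_two)
  rw [Finset.card_univ, ← Nat.card_eq_fintype_card, (h.sylow_numbers A).1] at h1
  have := h.five
  omega

theorem zassenhaus [Fact p.Prime] : Cfsg.IsZassenhausGroup G (Sylow p G) := by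
  classical
  obtain ⟨P⟩ : Nonempty (Sylow p G) := inferInstance
  obtain ⟨Q, hQ, -⟩ := h.third_point P P
  have h5 := h.five
  refine ⟨⟨fun {a b} e => ?_⟩, h.two_pretransitive, fun g A B C hab hbc hac hA hB hC =>
    h.three_fixed hab hbc hac hA hB hC, ?_, ?_⟩
  · obtain ⟨R, hRP, hRQ⟩ := h.third_point P Q
    have hfix : ∀ S : Sylow p G, (b⁻¹ * a) • S = S := fun S => by rw [mul_smul, e, inv_smul_smul]
    exact (inv_mul_eq_one.1 (h.three_fixed (Ne.symm hQ) (Ne.symm hRQ) (Ne.symm hRP) (hfix P) (hfix Q) (hfix R))).symm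
  · have h1 : 1 < Nat.card (stabilizer G P ⊓ stabilizer G Q : Subgroup G) := by
      rw [h.card_two_point hQ]; omega
    haveI := Finite.one_lt_card_iff_nontrivial.1 h1
    obtain ⟨⟨g, hgP, hgQ⟩, hg⟩ := exists_ne (1 : (stabilizer G P ⊓ stabilizer G Q : Subgroup G))
    exact ⟨g, fun e => hg (Subtype.ext e), P, Q, Ne.symm hQ, hgP, hgQ⟩
  · intro N hN hNt
    by_contra hcon
    push Not at hcon
    -- a regular normal subgroup would be an elementary abelian 2-group of order q + 1
    haveI := hN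
    have hNc : Nat.card N = q + 1 := by
      have := MulAction.index_stabilizer_of_transitive N P
      rw [hcon P, Subgroup.index_bot, (h.sylow_numbers P).1] at this
      exact this
    have hndvd : ¬ p ∣ q + 1 := fun e => by
      obtain ⟨f, hf, hq⟩ := h.pow
      exact h.prime.not_dvd_one ((Nat.dvd_add_right (hq ▸ dvd_pow_self p hf.ne')).1 e)
    letI : MulAction (P : Subgroup G) {n : N // n ≠ 1} :=
      { smul := fun x n => ⟨⟨(x : G) * (n.1 : G) * (x : G)⁻¹, hN.conj_mem _ n.1.2 _⟩, fun e =>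
          n.2 (Subtype.ext (conj_eq_one_iff.1 (congrArg Subtype.val e)))⟩
        one_smul := fun n => Subtype.ext (Subtype.ext (by
          show (1 : G) * (n.1 : G) * (1 : G)⁻¹ = n.1
          simp))
        mul_smul := fun x y n => Subtype.ext (Subtype.ext (by
          show ((x : G) * y) * (n.1 : G) * ((x : G) * y)⁻¹ = (x : G) * ((y : G) * (n.1 : G) * (y : G)⁻¹) * (x : G)⁻¹
          group)) }
    have hfree : ∀ n : {n : N // n ≠ 1}, stabilizer (P : Subgroup G) n = ⊥ := fun n =>
      (Subgroup.eq_bot_iff_forall _).2 fun x hx => by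
        by_contra hx1
        have hxo : orderOf (x : G) = p := orderOf_eq_prime (h.pow_p_of_isPGroup P.2 x.2)
          fun e => hx1 (Subtype.ext e)
        have hn1 : (n.1 : G) ≠ 1 := fun e => n.2 (Subtype.ext e)
        obtain ⟨r, hr, hrd⟩ := Nat.exists_prime_and_dvd (fun e => hn1 (orderOf_eq_one_iff.1 e))
        have hrp : r ≠ p := fun e => hndvd (e ▸ hrd.trans ((Subgroup.orderOf_coe n.1).dvd.trans
          (hNc ▸ orderOf_dvd_natCard n.1)))
        have e : (x : G) * (n.1 : G) * (x : G)⁻¹ = n.1 :=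
          congrArg (fun t : {n : N // n ≠ 1} => ((t.1 : N) : G)) hx
        refine h.no_commute hxo hr hrp (orderOf_pow_orderOf_div (orderOf_pos (n.1 : G)).ne' hrd)
          (Commute.pow_right ?_ _)
        show (x : G) * (n.1 : G) = (n.1 : G) * x
        calc (x : G) * (n.1 : G) = (x : G) * (n.1 : G) * (x : G)⁻¹ * x := by group
          _ = (n.1 : G) * x := by rw [e]
    have h2 : 2 ∣ Nat.card N := by
      rw [hNc]; obtain ⟨c, hc⟩ := h.q_odd; exact ⟨c + 1, by omega⟩
    haveI : Fact (Nat.Prime 2) := ⟨Nat.prime_two⟩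
    obtain ⟨z, hz⟩ := exists_prime_orderOf_dvd_card' 2 h2
    have hz1 : z ≠ 1 := fun e => by rw [e, orderOf_one] at hz; omega
    have hcard : Nat.card {n : N // n ≠ 1} = q := by
      have := Nat.card_congr (Equiv.optionSubtypeNe (1 : N))
      rw [Finite.card_option, hNc] at this
      omega
    let ψ : ↥(P : Subgroup G) → {n : N // n ≠ 1} := fun x => x • ⟨z, hz1⟩
    have hψ : Function.Bijective ψ := by
      refine (Nat.bijective_iff_injective_and_card ψ).2 ⟨fun x y e => ?_, by rw [h.card_sylow_eq P, hcard]⟩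
      have : y⁻¹ * x ∈ stabilizer (P : Subgroup G) (⟨z, hz1⟩ : {n : N // n ≠ 1}) := by
        show (y⁻¹ * x) • (⟨z, hz1⟩ : {n : N // n ≠ 1}) = _
        rw [mul_smul]
        exact inv_smul_eq_iff.2 e
      rw [hfree, Subgroup.mem_bot, inv_mul_eq_one] at this
      exact this.symm
    have hinv : ∀ n : N, n ^ 2 = 1 := fun n => by
      rcases eq_or_ne n 1 with rfl | hn
      · simp
      obtain ⟨x, hx⟩ := hψ.2 ⟨n, hn⟩
      have e : (x : G) * (z : G) * (x : G)⁻¹ = n :=
        congrArg (fun t : {n : N // n ≠ 1} => ((t.1 : N) : G)) hx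
      refine Subtype.ext ?_
      rw [Subgroup.coe_pow, ← e, conj_pow, ← Subgroup.coe_pow,
        show z ^ 2 = 1 by rw [← hz, pow_orderOf_eq_one]]
      simp
    have hN2 : IsPGroup 2 N := fun n => ⟨1, by simpa using hinv n⟩
    obtain ⟨j, hj⟩ := hN2.exists_card_eq
    obtain ⟨g, hg⟩ := h.plus
    have hidx : N.index = q * ((q - 1) / 2) := by
      have h1 := N.card_mul_index
      rw [hNc] at h1
      have h3 := h.card
      rw [show q - 1 = 2 * ((q - 1) / 2) by obtain ⟨c, hc⟩ := h.q_odd; omega] at h3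
      exact Nat.eq_of_mul_eq_mul_left (Nat.succ_pos q) (h1.trans (by linarith))
    have hj3 : 3 ≤ j := by
      by_contra hlt
      have : 2 ^ j ≤ 2 ^ 2 := Nat.pow_le_pow_right two_pos (by omega)
      omega
    have himg : orderOf (QuotientGroup.mk' N g) = 1 := by
      have h1 : orderOf (QuotientGroup.mk' N g) ∣ (q + 1) / 2 := hg ▸ orderOf_map_dvd _ g
      have h3 : orderOf (QuotientGroup.mk' N g) ∣ q * ((q - 1) / 2) := by
        rw [← hidx, Subgroup.index_eq_card]; exact orderOf_dvd_natCard _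
      have hq2 : (q + 1) / 2 = 2 ^ (j - 1) := by
        rw [← hNc, hj, show j = j - 1 + 1 by omega, pow_succ]; simp
      have hodd : Nat.Coprime (2 ^ (j - 1)) (q * ((q - 1) / 2)) := by
        refine Nat.Coprime.pow_left _ (Nat.coprime_two_left.2 (h.q_odd.mul ?_))
        have h8 : 2 ^ 3 ∣ 2 ^ j := pow_dvd_pow 2 hj3
        rw [← hj, hNc] at h8
        obtain ⟨c, hc⟩ := h.q_odd
        rw [Nat.odd_iff]
        obtain ⟨d, hd⟩ := h8
        omega
      rw [hq2] at h1
      exact Nat.eq_one_of_dvd_coprimes hodd h1 h3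
    rw [orderOf_eq_one_iff, QuotientGroup.mk'_apply, QuotientGroup.eq_one_iff] at himg
    have h1 : orderOf g ∣ 2 := by
      rw [← Subgroup.orderOf_mk g himg]; exact orderOf_dvd_of_pow_eq_one (hinv _)
    rw [hg] at h1
    have := Nat.le_of_dvd two_pos h1
    omega

/-- Identification with a projective special linear group. -/
theorem exists_psl [Fact p.Prime] :
    ∃ (K : Type) (_ : Field K) (_ : Fintype K), ringChar K ≠ 2 ∧
      Nonempty (G ≃* Matrix.ProjectiveSpecialLinearGroup (Fin 2) K) := by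
  classical
  haveI := Fintype.ofFinite (Sylow p G)
  obtain ⟨P⟩ : Nonempty (Sylow p G) := inferInstance
  obtain ⟨Q, hQ, -⟩ := h.third_point P P
  have hle : (P : Subgroup G) ≤ stabilizer G P :=
    fun x hx => Sylow.smul_eq_iff_mem_normalizer.2 (Subgroup.le_normalizer hx)
  have hFn : ((P : Subgroup G).subgroupOf (stabilizer G P)).Normal := ⟨fun a ha g => by
    rw [Subgroup.mem_subgroupOf] at ha ⊢
    exact (Subgroup.mem_normalizer_iff.1 (Sylow.smul_eq_iff_mem_normalizer.1 g.2) _).1 ha⟩
  have hreg : ∀ y z : Sylow p G, y ≠ P → z ≠ P → ∃! u : (P : Subgroup G), (u : G) • y = z :=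
    fun y z hy hz => h.regular P hy hz
  have hn : Fintype.card (Sylow p G) = q + 1 := by rw [← Nat.card_eq_fintype_card]; exact (h.sylow_numbers P).1
  have hd : Fintype.card (Sylow p G) - 2 ≤ 2 * Nat.card ↥(stabilizer G P ⊓ stabilizer G Q) := by
    rw [h.card_two_point hQ, hn]
    obtain ⟨c, hc⟩ := h.q_odd
    omega
  obtain ⟨hab, -⟩ := Cfsg.Agent.S0738.result h.zassenhaus (Ne.symm hQ) hd (P : Subgroup G) hle hFn hreg
  rcases Cfsg.Agent.S0731.result h.zassenhaus P (P : Subgroup G) hle hFn hab hreg with ⟨h3, hfree⟩ | hK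
  · exfalso
    haveI := h3
    obtain ⟨R, hRP, hRQ⟩ := h.third_point P Q
    let t : Fin 3 ↪ Sylow p G := ⟨![P, Q, R], by
      intro i j e
      fin_cases i <;> fin_cases j <;> simp_all [eq_comm]⟩
    have h1 := MulAction.index_stabilizer_of_transitive G t
    rw [hfree t, Subgroup.index_bot, Nat.card_eq_fintype_card (α := Fin 3 ↪ Sylow p G), Fintype.card_embedding_eq,
      hn, Fintype.card_fin] at h1
    have h5 := h.five
    have h2 := h.card
    rw [h1, Nat.descFactorial_succ, Nat.descFactorial_succ, Nat.descFactorial_succ, Nat.descFactorial_zero,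
      mul_one, show q + 1 - 2 = q - 1 by omega, show q + 1 - 1 = q by omega, Nat.sub_zero] at h2
    have hpos : 0 < q * ((q - 1) * (q + 1)) := Nat.mul_pos (by omega) (Nat.mul_pos (by omega) (by omega))
    nlinarith
  · exact hK

end LikePSL2

end H64
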