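import Mathlib

/-! Orthonormal families for non-alternating symmetric forms in characteristic two. -/

namespace H64

variable {F : Type*} [Field F] [Finite F] [CharP F 2]

theorem exists_good_unit_vector {V : Type*} [AddCommGroup V] [Module F V]
    (B : LinearMap.BilinForm F V) (hS : B.IsSymm) (hB : B.Nondegenerate) (hna : ∃ v : V, B v v ≠ 0) :
    ∃ v : V, B v v = 1 ∧ ((∀ w, B v w = 0 → w = 0) ∨ ∃ w, B v w = 0 ∧ B w w ≠ 0) := by
  obtain ⟨u, hu⟩ := hna
  haveI : PerfectRing F 2 := PerfectField.toPerfectRing (K := F) 2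
  obtain ⟨c, hc⟩ := (frobeniusEquiv F 2).surjective (B u u)⁻¹
  have hc' : c * c = (B u u)⁻¹ := by rw [← hc, frobeniusEquiv_apply, frobenius_def, sq]
  set v := c • u with hv
  have hvv : B v v = 1 := by
    rw [hv, map_smul, map_smul, LinearMap.smul_apply, smul_eq_mul, smul_eq_mul, ← mul_assoc, hc',
      inv_mul_cancel₀ hu]
  clear_value v
  by_cases hgood : (∀ w, B v w = 0 → w = 0) ∨ ∃ w, B v w = 0 ∧ B w w ≠ 0
  · exact ⟨v, hvv, hgood⟩
  push_neg at hgood
  obtain ⟨⟨e, hve, he0⟩, halt⟩ := hgood
  have hee : B e e = 0 := halt e hve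
  -- a partner of `e` orthogonal to `v`
  obtain ⟨z, hz⟩ : ∃ z, B e z ≠ 0 := by
    by_contra hcon
    push_neg at hcon
    exact he0 (hB.1 e hcon)
  set f0 := z - B v z • v with hf0
  have hvf0 : B v f0 = 0 := by rw [hf0, map_sub, map_smul, hvv, smul_eq_mul, mul_one, sub_self]
  have hev : B e v = 0 := by rw [hS.eq]; exact hve
  have hef0 : B e f0 = B e z := by rw [hf0, map_sub, map_smul, hev, smul_zero, sub_zero]
  set f := (B e z)⁻¹ • f0 with hf
  have hvf : B v f = 0 := by rw [hf, map_smul, hvf0, smul_zero]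
  have hef : B e f = 1 := by rw [hf, map_smul, hef0, smul_eq_mul, inv_mul_cancel₀ hz]
  have hff : B f f = 0 := halt f hvf
  have hfv : B f v = 0 := by rw [hS.eq]; exact hvf
  refine ⟨v + e, ?_, Or.inr ⟨v + f, ?_, ?_⟩⟩
  · simp only [map_add, LinearMap.add_apply, hvv, hve, hev, hee, add_zero]
  · simp only [map_add, LinearMap.add_apply, hvv, hvf, hev, hef, add_zero, zero_add]
    exact CharTwo.add_self_eq_zero 1
  · simp only [map_add, LinearMap.add_apply, hvv, hvf, hfv, hff, add_zero, ne_eq, one_ne_zero,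
      not_false_eq_true]

theorem exists_orthonormal_family : ∀ (n : ℕ) {V : Type*} [AddCommGroup V] [Module F V]
    [FiniteDimensional F V] (B : LinearMap.BilinForm F V), Module.finrank F V = n → B.IsSymm →
    B.Nondegenerate → (n = 0 ∨ ∃ v : V, B v v ≠ 0) →
    ∃ b : Fin n → V, ∀ i j, B (b i) (b j) = if i = j then 1 else 0 := by
  intro n
  induction n with
  | zero => intro V _ _ _ B _ _ _ _; exact ⟨Fin.elim0, fun i => i.elim0⟩
  | succ n ih =>
    intro V _ _ _ B hV hS hB hna
    obtain ⟨v, hvv, hgood⟩ := exists_good_unit_vector B hS hB (hna.resolve_left (Nat.succ_ne_zero n))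
    set W : Submodule F V := LinearMap.ker (B v) with hW
    have hfr : Module.finrank F W = n := by
      have h := LinearMap.finrank_range_add_finrank_ker (B v)
      have hr : LinearMap.range (B v) = ⊤ :=
        LinearMap.range_eq_top.2 fun x => ⟨x • v, by rw [map_smul, hvv, smul_eq_mul, mul_one]⟩
      rw [hr, finrank_top, Module.finrank_self, hV, ← hW] at h
      omega
    let C : LinearMap.BilinForm F W := B.restrict W
    have hCS : C.IsSymm := ⟨fun x y => hS.eq x.1 y.1⟩
    have hCn : C.Nondegenerate := by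
      have h1 : ∀ x : W, (∀ y : W, C x y = 0) → x = 0 := by
        intro x hx
        have hxv : B v x = 0 := x.2
        refine Subtype.ext (hB.1 x fun y => ?_)
        have hy : y - B v y • v ∈ W := by
          rw [hW, LinearMap.mem_ker, map_sub, map_smul, hvv, smul_eq_mul, mul_one, sub_self]
        have h : B x (y - B v y • v) = 0 := hx ⟨_, hy⟩
        rwa [map_sub, map_smul, hS.eq (x : V) v, hxv, smul_zero, sub_zero] at h
      exact ⟨h1, fun y hy => h1 y fun x => (hCS.eq y x).trans (hy x)⟩
    have hCna : n = 0 ∨ ∃ w : W, C w w ≠ 0 := by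
      rcases hgood with h | ⟨w, hw, hww⟩
      · left
        have : W = ⊥ := eq_bot_iff.2 fun w hw => h w hw
        rw [← hfr, this, finrank_bot]
      · exact Or.inr ⟨⟨w, hw⟩, hww⟩
    obtain ⟨b, hb⟩ := ih C hfr hCS hCn hCna
    refine ⟨Fin.cons v (fun i => (b i : V)), fun i j => ?_⟩
    have hvb : ∀ j, B v (b j) = 0 := fun j => (b j).2
    refine Fin.cases ?_ (fun i => ?_) i <;> refine Fin.cases ?_ (fun j => ?_) j
    · simpa using hvv
    · simpa [(Fin.succ_ne_zero j).symm] using hvb j
    · simpa [Fin.succ_ne_zero i] using (hS.eq (b i : V) v).trans (hvb i)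
    · simpa [C] using hb i j

end H64
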