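import Cfsg.Agent.H64.SL2Spectrum
import Cfsg.Agent.H64.Unbounded
import Cfsg.Agent.H64.SpecBasics

/-!
A family of finite groups `(Fin k → M) ⋊ (2 × PSL₂(q))`, `q = 3^(2m+1)`, where `M` is the tensor
product of the natural module with its twist by the cube map: all element orders divide one of
`6`, `9`, `q - 1`, `(q + 1)/2`.
-/

set_option autoImplicit false

namespace H64.ReeCube

open Matrix

variable {K : Type*} [Field K] [Fintype K] [CharP K 3]

local notation "M₂" => Matrix (Fin 2) (Fin 2) K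

/-- The twist. -/
noncomputable def tw : M₂ →+* M₂ := (frobenius K 3).mapMatrix

theorem tw_det (A : M₂) : (tw A).det = A.det ^ 3 := by
  rw [tw, ← RingHom.map_det, frobenius_def]

theorem tw_trace (A : M₂) : (tw A).trace = A.trace ^ 3 := by
  simp [tw, Matrix.trace_fin_two, frobenius_def, add_pow_char]

/-- The underlying map of the action. -/
noncomputable def actFun (x : Matrix.SpecialLinearGroup (Fin 2) K × ℤˣ) (v : M₂) : M₂ :=
  ((x.2 : ℤ) : K) • ((x.1 : M₂) * v * (tw (x.1 : M₂))ᵀ)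

theorem actFun_one (v : M₂) : actFun (1 : Matrix.SpecialLinearGroup (Fin 2) K × ℤˣ) v = v := by
  simp [actFun]

theorem actFun_mul (x y : Matrix.SpecialLinearGroup (Fin 2) K × ℤˣ) (v : M₂) :
    actFun (x * y) v = actFun x (actFun y v) := by
  simp only [actFun, Prod.fst_mul, Prod.snd_mul, Matrix.SpecialLinearGroup.coe_mul, map_mul,
    Matrix.transpose_mul, Units.val_mul, Int.cast_mul, Matrix.mul_smul, Matrix.smul_mul, smul_smul,
    Matrix.mul_assoc]

theorem actFun_add (x : Matrix.SpecialLinearGroup (Fin 2) K × ℤˣ) (v w : M₂) :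
    actFun x (v + w) = actFun x v + actFun x w := by
  simp [actFun, Matrix.mul_add, Matrix.add_mul, smul_add]

/-- The module, written multiplicatively. -/
abbrev W (K : Type*) [Field K] := Multiplicative (Matrix (Fin 2) (Fin 2) K)

/-- The action on the module. -/
noncomputable def ρ : Matrix.SpecialLinearGroup (Fin 2) K × ℤˣ →* MulAut (W K) where
  toFun x :=
    { toFun := fun v => Multiplicative.ofAdd (actFun x v.toAdd)
      invFun := fun v => Multiplicative.ofAdd (actFun x⁻¹ v.toAdd)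
      left_inv := fun v => by
        simp only [toAdd_ofAdd]
        rw [← actFun_mul, inv_mul_cancel, actFun_one, ofAdd_toAdd]
      right_inv := fun v => by
        simp only [toAdd_ofAdd]
        rw [← actFun_mul, mul_inv_cancel, actFun_one, ofAdd_toAdd]
      map_mul' := fun v w => by
        simp only [toAdd_mul, actFun_add, ofAdd_add] }
  map_one' := by
    ext v
    simp [actFun_one]
  map_mul' x y := by
    ext v
    simp [actFun_mul]

theorem ρ_apply (x : Matrix.SpecialLinearGroup (Fin 2) K × ℤˣ) (v : W K) :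
    ρ x v = Multiplicative.ofAdd (actFun x v.toAdd) := rfl

/-- The group `2 × PSL₂(q)` as operators on the module. -/
noncomputable abbrev G0 (K : Type*) [Field K] [Fintype K] [CharP K 3] : Subgroup (MulAut (W K)) :=
  (ρ (K := K)).range

/-- Diagonal action on `k` copies of the module. -/
noncomputable def diag (k : ℕ) : G0 K →* MulAut (Fin k → W K) where
  toFun g := MulEquiv.piCongrRight fun _ => (g : MulAut (W K))
  map_one' := by ext f i; simp
  map_mul' g h := by ext f i; simp

/-- The groups of the family. -/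
abbrev X (K : Type*) [Field K] [Fintype K] [CharP K 3] (k : ℕ) :=
  (Fin k → W K) ⋊[diag (K := K) k] G0 K

set_option linter.unusedSectionVars false

theorem diag_apply {k : ℕ} (g : G0 K) (f : Fin k → W K) (i : Fin k) :
    diag k g f i = (g : MulAut (W K)) (f i) := rfl

omit [Fintype K] in
theorem w_cube (v : W K) : v ^ 3 = 1 := by
  apply Multiplicative.toAdd.injective
  rw [toAdd_pow, toAdd_one]
  ext i j
  simp [show (3 : K) = 0 from CharP.cast_eq_zero K 3]

theorem left_cube {k : ℕ} (f : Fin k → W K) : f ^ 3 = 1 := funext fun i => w_cube (f i)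

theorem right_pow {k : ℕ} (z : X K k) (n : ℕ) : (z ^ n).right = z.right ^ n :=
  map_pow SemidirectProduct.rightHom z n

theorem pow_three_of_right_one {k : ℕ} (z : X K k) (h : z.right = 1) : z ^ 3 = 1 := by
  have hz : z = SemidirectProduct.inl z.left := SemidirectProduct.ext (by simp) (by simp [h])
  rw [hz, ← map_pow, left_cube, map_one]

theorem pow_eq_one_of_fpf {k : ℕ} (z : X K k) (n : ℕ) (hn : z.right ^ n = 1)
    (hfix : ∀ v : W K, (z.right : MulAut (W K)) v = v → v = 1) : z ^ n = 1 := by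
  have hr : (z ^ n).right = 1 := by rw [right_pow, hn]
  have hc : z * z ^ n = z ^ n * z := (Commute.self_pow z n).eq
  have hl := congrArg SemidirectProduct.left hc
  rw [SemidirectProduct.mul_left, SemidirectProduct.mul_left, hr, map_one, MulAut.one_apply,
    mul_comm (z ^ n).left, mul_right_inj] at hl
  refine SemidirectProduct.ext ?_ ?_
  · funext i
    exact hfix _ (congrFun hl i)
  · simpa using hr

theorem pow_six_of_inv {k : ℕ} (z : X K k) (h6 : z.right ^ 3 * z.right ^ 3 = 1)
    (h : ∀ v : W K, ((z.right ^ 3 : G0 K) : MulAut (W K)) v = v⁻¹) : z ^ 6 = 1 := by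
  rw [show 6 = 3 + 3 by norm_num, pow_add]
  refine SemidirectProduct.ext ?_ ?_
  · rw [SemidirectProduct.mul_left, right_pow]
    funext i
    rw [Pi.mul_apply, diag_apply, h, mul_inv_cancel]
    rfl
  · rw [SemidirectProduct.mul_right, right_pow, h6]
    rfl

/-! ### The linear algebra -/

theorem sq_eq (A : Matrix.SpecialLinearGroup (Fin 2) K) :
    (A : M₂) * A = (A : M₂).trace • (A : M₂) - 1 := by
  rw [← pow_two]
  exact H64.sl2_sq_eq _ A.2

theorem tw_sq_eq (A : Matrix.SpecialLinearGroup (Fin 2) K) :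
    (tw (A : M₂))ᵀ * (tw (A : M₂))ᵀ = (A : M₂).trace ^ 3 • (tw (A : M₂))ᵀ - 1 := by
  have h := H64.sl2_sq_eq (tw (A : M₂))ᵀ (by rw [Matrix.det_transpose, tw_det, A.2, one_pow])
  rw [Matrix.trace_transpose, tw_trace, pow_two] at h
  exact h

theorem trace_of_fixed (x : Matrix.SpecialLinearGroup (Fin 2) K × ℤˣ) (v : M₂) (hv : v ≠ 0)
    (h : actFun x v = v) : (x.1 : M₂).trace ^ 3 = ((x.2 : ℤ) : K) * (x.1 : M₂).trace := by
  set A : M₂ := (x.1 : M₂)
  set B : M₂ := (tw A)ᵀ with hBdef
  set t := A.trace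
  set e : K := ((x.2 : ℤ) : K) with he
  have hee : e * e = 1 := by
    rw [he]
    rcases Int.units_eq_one_or x.2 with h' | h' <;> simp [h']
  have h1 : A * v * B = e • v := by
    change e • (A * v * B) = v at h
    calc A * v * B = (e * e) • (A * v * B) := by rw [hee, one_smul]
      _ = e • v := by rw [mul_smul, h]
  have hA : A * A = t • A - 1 := sq_eq x.1
  have hB : B * B = t ^ 3 • B - 1 := tw_sq_eq x.1
  have h2 : A * A * v * (B * B) = v := by
    calc A * A * v * (B * B) = A * (A * v * B) * B := by simp only [Matrix.mul_assoc]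
      _ = v := by rw [h1, Matrix.mul_smul, Matrix.smul_mul, h1, smul_smul, hee, one_smul]
  -- expand both squares
  have h3 : A * A * v * (B * B) = (t * e) • (v * B) - v * (B * B) := by
    rw [hA, Matrix.sub_mul, Matrix.one_mul, Matrix.smul_mul, Matrix.sub_mul, Matrix.smul_mul,
      ← Matrix.mul_assoc (A * v) B B, h1, Matrix.smul_mul, smul_smul]
  rw [h3, hB, Matrix.mul_sub, Matrix.mul_one, Matrix.mul_smul, ← sub_add, ← sub_smul] at h2
  have h4 : (t * e - t ^ 3) • (v * B) = 0 := by
    have := sub_eq_zero.2 h2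
    rwa [add_sub_cancel_right] at this
  rcases smul_eq_zero.1 h4 with h5 | h5
  · linear_combination -h5
  · exfalso
    refine hv ?_
    have hu : IsUnit B.det := by
      rw [hBdef, Matrix.det_transpose, tw_det, x.1.2, one_pow]
      exact isUnit_one
    calc v = v * B * B⁻¹ := by rw [Matrix.mul_assoc, Matrix.mul_nonsing_inv _ hu, Matrix.mul_one]
      _ = 0 := by rw [h5, Matrix.zero_mul]

theorem eq_one_or_neg_one_of_sq (A : Matrix.SpecialLinearGroup (Fin 2) K) (h : A ^ 2 = 1) :
    (A : M₂) = 1 ∨ (A : M₂) = -1 := by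
  have h1 : (A : M₂) * A = 1 := by
    rw [← Matrix.SpecialLinearGroup.coe_mul, ← pow_two, h, Matrix.SpecialLinearGroup.coe_one]
  have hA := sq_eq A
  rw [h1] at hA
  set t := (A : M₂).trace
  have h2 : t • (A : M₂) = (2 : K) • 1 := by
    rw [two_smul]; exact (eq_add_of_sub_eq hA.symm)
  have htwo : (2 : K) ≠ 0 := by
    intro e
    have : ((3 : ℕ) : K) = 0 := CharP.cast_eq_zero K 3
    exact one_ne_zero (α := K) (by push_cast at this; linear_combination this - e)
  have ht : t ≠ 0 := fun e => by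
    rw [e, zero_smul] at h2
    exact htwo (by simpa using congrFun (congrFun h2 0) 0 |>.symm)
  have h3 : (A : M₂) = (2 / t) • 1 := by
    rw [div_eq_inv_mul, mul_smul, ← h2, smul_smul, inv_mul_cancel₀ ht, one_smul]
  have h4 : (2 / t) * (2 / t) = 1 := by
    have := congrFun (congrFun h1 0) 0
    rw [h3] at this
    simpa [Matrix.smul_mul, Matrix.mul_smul, smul_smul] using this
  rcases mul_self_eq_one_iff.1 h4 with h5 | h5
  · exact Or.inl (by rw [h3, h5, one_smul])
  · exact Or.inr (by rw [h3, h5, neg_smul, one_smul])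

theorem ρ_scalar (x : Matrix.SpecialLinearGroup (Fin 2) K × ℤˣ)
    (hA : (x.1 : M₂) = 1 ∨ (x.1 : M₂) = -1) (v : W K) :
    ρ x v = Multiplicative.ofAdd (((x.2 : ℤ) : K) • v.toAdd) := by
  rcases hA with h | h <;>
    simp [ρ_apply, actFun, h, map_neg, Matrix.transpose_neg]

theorem ρ_eq_one_iff (x : Matrix.SpecialLinearGroup (Fin 2) K × ℤˣ) :
    ρ x = 1 ↔ ((x.1 : M₂) = 1 ∨ (x.1 : M₂) = -1) ∧ x.2 = 1 := by
  constructor
  · intro h
    have hall : ∀ v : M₂, actFun x v = v := fun v => by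
      have := congrArg (fun f : MulAut (W K) => (f (Multiplicative.ofAdd v)).toAdd) h
      simpa [ρ_apply] using this
    set A : M₂ := (x.1 : M₂) with hAdef
    set e : K := ((x.2 : ℤ) : K) with he
    -- `A` commutes with all matrices
    have h1 : e • (A * (tw A)ᵀ) = 1 := by simpa [actFun, ← hAdef, ← he] using hall 1
    have hB : IsUnit (tw A)ᵀ.det := by
      rw [Matrix.det_transpose, tw_det, hAdef, x.1.2, one_pow]; exact isUnit_one
    have hcomm : ∀ v : M₂, A * v = v * A := by
      intro v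
      have h2 : e • (A * v * (tw A)ᵀ) = v := hall v
      have h3 : v * A * (e • (tw A)ᵀ) = A * v * (e • (tw A)ᵀ) := by
        rw [Matrix.mul_assoc, Matrix.mul_smul, h1, Matrix.mul_one, Matrix.mul_smul, h2]
      have h4 := congrArg (fun w : M₂ => w * ((tw A)ᵀ)⁻¹) h3
      simp only [Matrix.mul_smul, Matrix.smul_mul, Matrix.mul_assoc, Matrix.mul_nonsing_inv _ hB,
        Matrix.mul_one] at h4
      have hne : e ≠ 0 := fun e0 => one_ne_zero (α := K) (by
        have := congrFun (congrFun h1 0) 0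
        simpa [e0] using this.symm)
      exact (smul_right_injective _ hne h4).symm
    have h01 := congrFun (congrFun (hcomm (Matrix.single 0 1 1)) 0) 1
    have h10 := congrFun (congrFun (hcomm (Matrix.single 0 1 1)) 1) 1
    have h10' := congrFun (congrFun (hcomm (Matrix.single 1 0 1)) 0) 0
    simp [Matrix.mul_apply, Fin.sum_univ_two, Matrix.single] at h01 h10 h10'
    have hs : A = A 0 0 • 1 := by
      ext i j
      fin_cases i <;> fin_cases j <;> simp [h01, h10, h10']
    have hdet : A 0 0 * A 0 0 = 1 := by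
      have hd : A.det = 1 := x.1.2
      rw [Matrix.det_fin_two, h10, h10', ← h01] at hd
      linear_combination hd
    have hA : A = 1 ∨ A = -1 := by
      rcases mul_self_eq_one_iff.1 hdet with h5 | h5
      · exact Or.inl (by rw [hs, h5, one_smul])
      · exact Or.inr (by rw [hs, h5, neg_smul, one_smul])
    refine ⟨hA, ?_⟩
    rcases Int.units_eq_one_or x.2 with h' | h'
    · exact h'
    · exfalso
      have := congrArg Multiplicative.toAdd ((ρ_scalar x hA (Multiplicative.ofAdd (1 : M₂))).symm.trans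
        (by rw [h]))
      have h00 := congrFun (congrFun this 0) 0
      simp [h'] at h00
      have h3 : ((3 : ℕ) : K) = 0 := CharP.cast_eq_zero K 3
      exact one_ne_zero (α := K) (by push_cast at h3; linear_combination h3 + h00)
  · rintro ⟨h1, h2⟩
    ext v
    rw [ρ_scalar x h1, h2]
    simp

theorem ρ_pow_eq_one_iff (x : Matrix.SpecialLinearGroup (Fin 2) K × ℤˣ) (n : ℕ) :
    ρ x ^ n = 1 ↔ (((x.1 ^ n : Matrix.SpecialLinearGroup (Fin 2) K) : M₂) = 1 ∨
      ((x.1 ^ n : Matrix.SpecialLinearGroup (Fin 2) K) : M₂) = -1) ∧ x.2 ^ n = 1 := by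
  rw [← map_pow, ρ_eq_one_iff]
  simp

variable {m : ℕ} (hK : Fintype.card K = 3 ^ (2 * m + 1))

include hK

theorem card_mod_four : Fintype.card K % 4 = 3 := by
  rw [hK, pow_succ, pow_mul, Nat.mul_mod, Nat.pow_mod]
  norm_num

theorem cases_trace (e : ℤˣ) (t : K) (h : t ^ 3 = ((e : ℤ) : K) * t) :
    t = 0 ∨ t = 1 ∨ t = -1 := by
  rcases eq_or_ne t 0 with h0 | h0
  · exact Or.inl h0
  have h2 : t * t = ((e : ℤ) : K) := mul_right_cancel₀ h0 (by linear_combination h)
  rcases Int.units_eq_one_or e with he | he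
  · simp [he] at h2
    exact Or.inr (mul_self_eq_one_iff.1 h2)
  · simp [he] at h2
    exact absurd ⟨t, h2.symm⟩ (fun hs => FiniteField.isSquare_neg_one_iff.1 hs (card_mod_four hK))

theorem pow_cases {k : ℕ} (z : X K k) :
    z ^ 6 = 1 ∨ z ^ 9 = 1 ∨ z ^ (Fintype.card K - 1) = 1 ∨ z ^ ((Fintype.card K + 1) / 2) = 1 := by
  obtain ⟨x, hx⟩ := z.right.2
  by_cases hfix : ∀ v : W K, (z.right : MulAut (W K)) v = v → v = 1
  · -- no fixed points
    have key : ∀ n, ρ x ^ n = 1 → z ^ n = 1 := fun n hn =>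
      pow_eq_one_of_fpf z n (Subtype.ext (by rw [Subgroup.coe_pow, ← hx, hn]; rfl)) hfix
    have hq := card_mod_four hK
    have he : ∀ n, Even n → x.2 ^ n = 1 := by
      intro n hn
      obtain ⟨j, rfl⟩ := hn
      rw [← two_mul, pow_mul, Int.units_sq, one_pow]
    rcases H64.sl2_pow_cases (p := 3) (x.1 : M₂) x.1.2 with ⟨-, h⟩ | ⟨-, h⟩ | h | h
    · refine Or.inl (key 6 ((ρ_pow_eq_one_iff x 6).2 ⟨Or.inl ?_, he 6 (by decide)⟩))
      rw [Matrix.SpecialLinearGroup.coe_pow, show 6 = 3 * 2 by norm_num, pow_mul, h, one_pow]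
    · refine Or.inl (key 6 ((ρ_pow_eq_one_iff x 6).2 ⟨Or.inl ?_, he 6 (by decide)⟩))
      rw [Matrix.SpecialLinearGroup.coe_pow, ← neg_neg ((x.1 : M₂)), Even.neg_pow (by decide),
        show 6 = 3 * 2 by norm_num, pow_mul, h, one_pow]
    · refine Or.inr (Or.inr (Or.inl (key _ ((ρ_pow_eq_one_iff x _).2 ⟨Or.inl ?_, he _ ?_⟩))))
      · rw [Matrix.SpecialLinearGroup.coe_pow, h]
      · rw [Nat.even_iff]; omega
    · refine Or.inr (Or.inr (Or.inr (key _ ((ρ_pow_eq_one_iff x _).2 ⟨?_, he _ ?_⟩))))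
      · refine eq_one_or_neg_one_of_sq _ ?_
        rw [← pow_mul, show (Fintype.card K + 1) / 2 * 2 = Fintype.card K + 1 by omega]
        exact Subtype.ext ((Matrix.SpecialLinearGroup.coe_pow _ _).trans
          (h.trans (Matrix.SpecialLinearGroup.coe_one).symm))
      · rw [Nat.even_iff]; omega
  · push Not at hfix
    obtain ⟨v, hv, hv1⟩ := hfix
    rw [← hx, ρ_apply] at hv
    have hv' : actFun x v.toAdd = v.toAdd := congrArg Multiplicative.toAdd hv
    have hv0 : v.toAdd ≠ 0 := fun e => hv1 (Multiplicative.toAdd.injective (by rw [e]; rfl))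
    have ht := cases_trace hK x.2 _ (trace_of_fixed x _ hv0 hv')
    have hsq := sq_eq x.1
    set t := (x.1 : M₂).trace with htdef
    rcases ht with ht | ht
    · -- trace zero
      left
      have h1 : z.right ^ 2 = 1 := by
        refine Subtype.ext ?_
        rw [Subgroup.coe_pow, ← hx, Subgroup.coe_one, ρ_pow_eq_one_iff]
        refine ⟨Or.inr ?_, Int.units_sq _⟩
        rw [Matrix.SpecialLinearGroup.coe_pow, pow_two, hsq, ht, zero_smul, zero_sub]
      rw [show 6 = 2 * 3 by norm_num, pow_mul]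
      exact pow_three_of_right_one _ (by rw [right_pow, h1])
    · -- trace ±1
      have htt : t * t = 1 := by rcases ht with e | e <;> simp [e]
      have h3 : ((x.1 ^ 3 : Matrix.SpecialLinearGroup (Fin 2) K) : M₂) = 1 ∨
          ((x.1 ^ 3 : Matrix.SpecialLinearGroup (Fin 2) K) : M₂) = -1 := by
        have : (x.1 : M₂) ^ 3 = (-t) • (1 : M₂) := by
          rw [pow_succ, pow_two, hsq, Matrix.sub_mul, Matrix.smul_mul, hsq, smul_sub, smul_smul,
            htt, one_smul, Matrix.one_mul, neg_smul]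
          abel
        rw [Matrix.SpecialLinearGroup.coe_pow, this]
        rcases ht with e | e <;> simp [e]
      rcases Int.units_eq_one_or x.2 with he | he
      · right; left
        have h1 : z.right ^ 3 = 1 := by
          refine Subtype.ext ?_
          rw [Subgroup.coe_pow, ← hx, Subgroup.coe_one, ρ_pow_eq_one_iff]
          exact ⟨h3, by rw [he, one_pow]⟩
        rw [show 9 = 3 * 3 by norm_num, pow_mul]
        exact pow_three_of_right_one _ (by rw [right_pow, h1])
      · left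
        have hneg : ∀ w : W K, ((z.right ^ 3 : G0 K) : MulAut (W K)) w = w⁻¹ := by
          intro w
          rw [Subgroup.coe_pow, ← hx, ← map_pow, ρ_scalar _ (by rw [Prod.pow_fst]; exact h3)]
          simp [he, show ((-1 : ℤˣ) ^ 3) = -1 by decide]
        refine pow_six_of_inv z ?_ hneg
        refine Subtype.ext (MulEquiv.ext fun w => ?_)
        rw [Subgroup.coe_mul, MulAut.mul_apply, hneg, hneg, inv_inv]
        rfl

omit hK in
theorem orderOf_inr {k : ℕ} (x : Matrix.SpecialLinearGroup (Fin 2) K × ℤˣ) :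
    orderOf (SemidirectProduct.inr (⟨ρ x, x, rfl⟩ : G0 K) : X K k) = orderOf (ρ x) := by
  rw [orderOf_injective _ SemidirectProduct.inr_injective]
  exact (orderOf_injective (G0 K).subtype Subtype.val_injective _).symm

/-- The matrix `!![1, 1; 0, 1]`. -/
def unip : Matrix.SpecialLinearGroup (Fin 2) K :=
  ⟨!![1, 1; 0, 1], by simp [Matrix.det_fin_two]⟩

omit hK in
theorem unip_pow (n : ℕ) : ((unip ^ n : Matrix.SpecialLinearGroup (Fin 2) K) : M₂) = !![1, (n : K); 0, 1] := by
  induction n with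
  | zero => simp [Matrix.one_fin_two]
  | succ n ih =>
    rw [pow_succ, Matrix.SpecialLinearGroup.coe_mul, ih]
    simp [unip, add_comm]

omit hK in
theorem orderOf_six {k : ℕ} : ∃ z : X K k, orderOf z = 6 := by
  refine ⟨_, (orderOf_inr (unip, (-1 : ℤˣ))).trans ?_⟩
  have key : ∀ n, ρ (unip (K := K), (-1 : ℤˣ)) ^ n = 1 ↔ 3 ∣ n ∧ 2 ∣ n := by
    intro n
    rw [ρ_pow_eq_one_iff, unip_pow, ← CharP.cast_eq_zero_iff K 3 n, ← even_iff_two_dvd]
    refine and_congr ⟨fun h => ?_, fun h => Or.inl (by simp [h, Matrix.one_fin_two])⟩ ?_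
    · rcases h with h | h
      · simpa [Matrix.one_fin_two] using congrFun (congrFun h 0) 1
      · simpa using congrFun (congrFun h 0) 1
    · exact neg_one_pow_eq_one_iff_even (by decide)
  refine Nat.dvd_antisymm (orderOf_dvd_of_pow_eq_one ((key 6).2 (by norm_num))) ?_
  have h := (key _).1 (pow_orderOf_eq_one (ρ (unip (K := K), (-1 : ℤˣ))))
  omega

omit hK in
theorem orderOf_nine {k : ℕ} (hk : 0 < k) : ∃ z : X K k, orderOf z = 9 := by
  haveI : Fact (Nat.Prime 3) := ⟨Nat.prime_three⟩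
  let g : G0 K := ⟨ρ (unip, 1), (unip, 1), rfl⟩
  let z : X K k := ⟨fun _ => Multiplicative.ofAdd !![0, 0; 0, 1], g⟩
  have hg : g ^ 3 = 1 := by
    refine Subtype.ext ?_
    rw [Subgroup.coe_pow, Subgroup.coe_one]
    refine (ρ_pow_eq_one_iff _ 3).2 ⟨Or.inl ?_, one_pow _⟩
    show ((unip ^ 3 : Matrix.SpecialLinearGroup (Fin 2) K) : M₂) = 1
    rw [unip_pow]
    simp [show (3 : K) = 0 from CharP.cast_eq_zero K 3, Matrix.one_fin_two]
  refine ⟨z, orderOf_eq_prime_pow (p := 3) (n := 1) ?_ ?_⟩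
  · intro h
    have h1 : ((z ^ (3 ^ 1)).left ⟨0, hk⟩).toAdd 0 0 = 0 := by rw [h]; rfl
    rw [pow_one, pow_succ, pow_two] at h1
    simp only [SemidirectProduct.mul_left, SemidirectProduct.mul_right, Pi.mul_apply, diag_apply,
      map_mul, Subgroup.coe_mul, MulAut.mul_apply, z, g, ρ_apply, toAdd_mul, toAdd_ofAdd,
      Matrix.add_apply, actFun] at h1
    simp [unip, tw, Matrix.mul_apply, Fin.sum_univ_two, Matrix.cons_val_zero, Matrix.cons_val_one,
      frobenius_def, Matrix.vecMul, dotProduct] at h1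
    have h3 : ((3 : ℕ) : K) = 0 := CharP.cast_eq_zero K 3
    exact one_ne_zero (α := K) (by push_cast at h3; linear_combination (-1 : K) * h1 + 2 * h3)
  · rw [show 3 ^ (1 + 1) = 3 * 3 by norm_num, pow_mul]
    exact pow_three_of_right_one _ (by rw [right_pow]; exact hg)

theorem orderOf_sub_one {k : ℕ} : ∃ z : X K k, orderOf z = Fintype.card K - 1 := by
  obtain ⟨A, hA⟩ := H64.exists_sl2_orderOf_sub_one (F := K)
  refine ⟨_, (orderOf_inr (A, (-1 : ℤˣ))).trans ?_⟩
  have hq := card_mod_four hK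
  refine Nat.dvd_antisymm (orderOf_dvd_of_pow_eq_one ((ρ_pow_eq_one_iff _ _).2 ⟨Or.inl ?_, ?_⟩)) ?_
  · simp only
    rw [← hA, pow_orderOf_eq_one]
    rfl
  · exact (neg_one_pow_eq_one_iff_even (by decide)).2 (by rw [Nat.even_iff]; omega)
  · obtain ⟨h1, h2⟩ := (ρ_pow_eq_one_iff _ _).1 (pow_orderOf_eq_one (ρ (A, (-1 : ℤˣ))))
    set n := orderOf (ρ (A, (-1 : ℤˣ)))
    have h3 : (A ^ n) ^ 2 = 1 := Subtype.ext (by
      rw [Matrix.SpecialLinearGroup.coe_pow]
      rcases h1 with h | h <;> simp only at h <;> simp [h])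
    have h4 : Fintype.card K - 1 ∣ n * 2 := hA ▸ orderOf_dvd_of_pow_eq_one (by rw [pow_mul, h3])
    have h5 : 2 ∣ n := (neg_one_pow_eq_one_iff_even (R := ℤˣ) (by decide)).1 h2 |>.two_dvd
    obtain ⟨c, hc⟩ : 2 ∣ Fintype.card K - 1 := by omega
    rw [hc, mul_comm n] at h4
    rw [hc]
    exact Nat.Coprime.mul_dvd_of_dvd_of_dvd (Nat.coprime_two_left.2 (Nat.odd_iff.2 (by omega))) h5
      (Nat.dvd_of_mul_dvd_mul_left (by norm_num) h4)

theorem orderOf_half {k : ℕ} : ∃ z : X K k, orderOf z = (Fintype.card K + 1) / 2 := by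
  obtain ⟨A, hA⟩ := H64.exists_sl2_orderOf_add_one (p := 3) (F := K)
  refine ⟨_, (orderOf_inr (A, (1 : ℤˣ))).trans ?_⟩
  have hq := card_mod_four hK
  obtain ⟨c, hc⟩ : 2 ∣ Fintype.card K + 1 := by omega
  rw [hc, Nat.mul_div_cancel_left _ (by norm_num)]
  refine Nat.dvd_antisymm (orderOf_dvd_of_pow_eq_one ((ρ_pow_eq_one_iff _ _).2 ⟨?_, one_pow _⟩)) ?_
  · refine eq_one_or_neg_one_of_sq _ ?_
    simp only
    rw [← pow_mul, mul_comm c, ← hc, ← hA, pow_orderOf_eq_one]
  · obtain ⟨h1, -⟩ := (ρ_pow_eq_one_iff _ _).1 (pow_orderOf_eq_one (ρ (A, (1 : ℤˣ))))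
    set n := orderOf (ρ (A, (1 : ℤˣ)))
    have h3 : (A ^ n) ^ 2 = 1 := Subtype.ext (by
      rw [Matrix.SpecialLinearGroup.coe_pow]
      rcases h1 with h | h <;> simp only at h <;> simp [h])
    have h4 : Fintype.card K + 1 ∣ n * 2 := hA ▸ orderOf_dvd_of_pow_eq_one (by rw [pow_mul, h3])
    rw [hc, mul_comm n] at h4
    exact Nat.dvd_of_mul_dvd_mul_left (by norm_num) h4

/-- The spectrum of a member of the family. -/
theorem range_orderOf {k : ℕ} (hk : 0 < k) (d : ℕ) :
    d ∈ Set.range (orderOf : X K k → ℕ) ↔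
      d ∣ 6 ∨ d ∣ 9 ∨ d ∣ Fintype.card K - 1 ∨ d ∣ (Fintype.card K + 1) / 2 := by
  constructor
  · rintro ⟨z, rfl⟩
    simpa only [orderOf_dvd_iff_pow_eq_one] using pow_cases hK z
  · intro h
    have key : ∀ {n : ℕ}, n ≠ 0 → (∃ z : X K k, orderOf z = n) → d ∣ n →
        d ∈ Set.range (orderOf : X K k → ℕ) := by
      rintro n hn ⟨z, rfl⟩ ⟨c, hc⟩
      refine ⟨z ^ c, ?_⟩
      have hc0 : c ≠ 0 := fun e => hn (by rw [hc, e, mul_zero])
      rw [orderOf_pow' _ hc0, hc, Nat.gcd_mul_left_left, Nat.mul_div_cancel _ (Nat.pos_of_ne_zero hc0)]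
    have hq := card_mod_four hK
    rcases h with h | h | h | h
    · exact key (by norm_num) orderOf_six h
    · exact key (by norm_num) (orderOf_nine hk) h
    · exact key (by omega) (orderOf_sub_one hK) h
    · exact key (by omega) (orderOf_half hK) h

omit hK in
theorem card_gt (k : ℕ) : k < Nat.card (X K k) := by
  haveI : Finite (X K k) := Finite.of_equiv _ SemidirectProduct.equivProd.symm
  rw [Nat.card_congr SemidirectProduct.equivProd, Nat.card_prod, Nat.card_fun, Nat.card_fin]
  have h2 : 2 ≤ Nat.card (W K) := Finite.one_lt_card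
  calc k < 2 ^ k := Nat.lt_two_pow_self
    _ ≤ Nat.card (W K) ^ k := Nat.pow_le_pow_left h2 k
    _ ≤ Nat.card (W K) ^ k * Nat.card (G0 K) := Nat.le_mul_of_pos_right _ Nat.card_pos

end H64.ReeCube
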