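import Mathlib

/-! Abstract Shintani descent. -/

namespace H64

variable {X : Type*} [Group X] (σ : MulAut X)

theorem mulAut_pow_succ_apply (n : ℕ) (a : X) : (σ ^ (n + 1)) a = σ ((σ ^ n) a) := by
  rw [pow_succ', MulAut.mul_apply]

theorem mulAut_pow_succ_apply' (n : ℕ) (a : X) : (σ ^ (n + 1)) a = (σ ^ n) (σ a) := by
  rw [pow_succ, MulAut.mul_apply]

theorem mulAut_pow_fix {y : X} (h : σ y = y) (n : ℕ) : (σ ^ n) y = y := by
  induction n with
  | zero => simp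
  | succ n ih => rw [mulAut_pow_succ_apply', h, ih]

theorem twisted_prod_range (a g : X) (ha : g = a * (σ a)⁻¹) (n : ℕ) :
    ((List.range n).map (fun i => (σ ^ i) g)).prod = a * ((σ ^ n) a)⁻¹ := by
  induction n with
  | zero => simp
  | succ n ih =>
    rw [List.range_succ, List.map_append, List.prod_append, ih]
    simp only [List.map_cons, List.map_nil, List.prod_cons, List.prod_nil, mul_one]
    rw [ha, map_mul, map_inv, ← mulAut_pow_succ_apply']
    group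

theorem shintani_x_fixed (e : ℕ) {g a : X} (hg : (σ ^ e) g = g) (ha : g = a * (σ a)⁻¹) :
    σ (((σ ^ e) a)⁻¹ * a) = ((σ ^ e) a)⁻¹ * a := by
  rw [map_mul, map_inv, ← mulAut_pow_succ_apply, mulAut_pow_succ_apply']
  have h1 : (σ ^ e) a * ((σ ^ e) (σ a))⁻¹ = a * (σ a)⁻¹ := by
    rw [← map_inv (σ ^ e), ← map_mul, ← ha, hg]
  have h2 : ((σ ^ e) (σ a))⁻¹ = ((σ ^ e) a)⁻¹ * (a * (σ a)⁻¹) := by rw [← h1]; group
  rw [h2]; group

theorem mem_eqLocus_id_iff (τ : MulAut X) (x : X) :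
    x ∈ (MulEquiv.toMonoidHom τ).eqLocus (MonoidHom.id X) ↔ τ x = x := Iff.rfl

theorem shintani_power (e d : ℕ) {g a : X} (hg : (σ ^ e) g = g) (ha : g = a * (σ a)⁻¹) :
    (((σ ^ d) ^ e) a)⁻¹ * a = (((σ ^ e) a)⁻¹ * a) ^ d := by
  rw [← pow_mul, mul_comm d e, pow_mul]
  set x := ((σ ^ e) a)⁻¹ * a with hx
  have hxe : (σ ^ e) x = x := mulAut_pow_fix σ (shintani_x_fixed σ e hg ha) e
  have h1 : (σ ^ e) a = a * x⁻¹ := by rw [hx]; group
  induction d with
  | zero => simp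
  | succ d ih =>
    have ih' : ((σ ^ e) ^ d) a = a * (x ^ d)⁻¹ := by
      rw [← ih]; group
    rw [mulAut_pow_succ_apply, ih', map_mul, map_inv, map_pow, hxe, h1]
    group

end H64
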