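import Cfsg.Agent.H49.PrimeGraphPSp
import Cfsg.Agent.H49.SpectrumCube
import Cfsg.Agent.H48.Count

/-! The prime graph of `PSp₆(3)`. -/

namespace H64

open Matrix

/-- `Sp₆(3)`. -/
abbrev G63 := Matrix.symplecticGroup (Fin 3) (ZMod 3)

/-- A matrix of order 13. -/
def m13 : Matrix (Fin 3) (Fin 3) (ZMod 3) := !![0, 0, 1; 1, 0, 1; 0, 1, 0]

/-- Its inverse transpose. -/
def m13d : Matrix (Fin 3) (Fin 3) (ZMod 3) := !![2, 0, 1; 1, 0, 0; 0, 1, 0]

/-- A certificate that `m13` and `m13d` have no common eigenvalue. -/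
def m13cert : Matrix (Fin 3) (Fin 3) (ZMod 3) := (m13d * m13d * m13d - m13d - 1) ^ 25

theorem m13_facts : m13 * m13dᵀ = 1 ∧ m13 ^ 13 = 1 ∧ m13 * m13 * m13 - m13 - 1 = 0 ∧
    (m13d * m13d * m13d - m13d - 1) * m13cert = 1 := by
  decide +kernel

theorem m13_commutant (A : Matrix (Fin 3) (Fin 3) (ZMod 3)) (h : m13 * A = A * m13) :
    A = A 0 0 • 1 + A 1 0 • m13 + A 2 0 • (m13 * m13) := by
  have e := fun i j => congrFun (congrFun h i) j
  have e00 := e 0 0; have e01 := e 0 1; have e02 := e 0 2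
  have e10 := e 1 0; have e11 := e 1 1; have e12 := e 1 2
  have e20 := e 2 0; have e21 := e 2 1; have e22 := e 2 2
  simp [m13, Matrix.mul_apply, Fin.sum_univ_three] at e00 e01 e02 e10 e11 e12 e20 e21 e22
  ext i j
  fin_cases i <;> fin_cases j <;> simp [m13, Matrix.mul_apply, Fin.sum_univ_three] <;> grind

theorem m13_square : ∀ a b c : ZMod 3,
    (a • (1 : Matrix (Fin 3) (Fin 3) (ZMod 3)) + b • m13 + c • (m13 * m13)) *
        (a • 1 + b • m13 + c • (m13 * m13)) = 1 ∨
      (a • (1 : Matrix (Fin 3) (Fin 3) (ZMod 3)) + b • m13 + c • (m13 * m13)) *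
        (a • 1 + b • m13 + c • (m13 * m13)) = -1 →
    a • (1 : Matrix (Fin 3) (Fin 3) (ZMod 3)) + b • m13 + c • (m13 * m13) = 1 ∨
      a • (1 : Matrix (Fin 3) (Fin 3) (ZMod 3)) + b • m13 + c • (m13 * m13) = -1 := by
  decide +kernel

theorem m13_no_intertwiner (B : Matrix (Fin 3) (Fin 3) (ZMod 3)) (h : m13 * B = B * m13d) : B = 0 := by
  obtain ⟨-, -, h2, h3⟩ := m13_facts
  have c2 : m13 * m13 * B = B * (m13d * m13d) := by rw [mul_assoc, h, ← mul_assoc, h, mul_assoc]
  have c3 : m13 * m13 * m13 * B = B * (m13d * m13d * m13d) := by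
    rw [mul_assoc, h, ← mul_assoc, c2, mul_assoc]
  have hp : (m13 * m13 * m13 - m13 - 1) * B = B * (m13d * m13d * m13d - m13d - 1) := by
    simp only [sub_mul, mul_sub, c3, h, one_mul, mul_one]
  rw [h2, zero_mul] at hp
  calc B = B * ((m13d * m13d * m13d - m13d - 1) * m13cert) := by rw [h3, mul_one]
    _ = 0 := by rw [← mul_assoc, ← hp, zero_mul]

theorem m13_no_intertwiner' (C : Matrix (Fin 3) (Fin 3) (ZMod 3)) (h : m13d * C = C * m13) : C = 0 := by
  obtain ⟨-, -, h2, h3⟩ := m13_facts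
  have h4 := mul_eq_one_comm.1 h3
  have c2 : m13d * m13d * C = C * (m13 * m13) := by rw [mul_assoc, h, ← mul_assoc, h, mul_assoc]
  have c3 : m13d * m13d * m13d * C = C * (m13 * m13 * m13) := by
    rw [mul_assoc, h, ← mul_assoc, c2, mul_assoc]
  have hp : (m13d * m13d * m13d - m13d - 1) * C = C * (m13 * m13 * m13 - m13 - 1) := by
    simp only [sub_mul, mul_sub, c3, h, one_mul, mul_one]
  rw [h2, mul_zero] at hp
  calc C = (m13cert * (m13d * m13d * m13d - m13d - 1)) * C := by rw [h4, one_mul]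
    _ = 0 := by rw [mul_assoc, hp, mul_zero]

theorem s13_mem : Matrix.fromBlocks m13 0 0 m13d ∈ G63 := by
  rw [SymplecticGroup.mem_iff]
  decide +kernel

/-- An element of order 13. -/
def sp6el13 : G63 := ⟨Matrix.fromBlocks m13 0 0 m13d, s13_mem⟩

theorem orderOf_sp6el13 : orderOf sp6el13 = 13 := by
  haveI : Fact (Nat.Prime 13) := ⟨by norm_num⟩
  refine orderOf_eq_prime (Subtype.ext ?_) (fun h => ?_)
  · rw [SubmonoidClass.coe_pow]
    show (Matrix.fromBlocks m13 0 0 m13d) ^ 13 = 1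
    rw [Matrix.fromBlocks_diagonal_pow, ← Matrix.fromBlocks_one]
    congr 1 <;> decide +kernel
  · have := congrArg (fun g : G63 => (g : Matrix (Fin 3 ⊕ Fin 3) (Fin 3 ⊕ Fin 3) (ZMod 3)) (Sum.inl 0) (Sum.inl 0)) h
    revert this
    show ¬ (Matrix.fromBlocks m13 0 0 m13d (Sum.inl 0) (Sum.inl 0) = (1 : Matrix (Fin 3 ⊕ Fin 3) (Fin 3 ⊕ Fin 3) (ZMod 3)) (Sum.inl 0) (Sum.inl 0))
    decide +kernel

theorem card_g63 : Nat.card G63 = 3 ^ 9 * (8 * (80 * 728)) := by
  rw [H48.card_sp, Fintype.card_fin, ZMod.card]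
  norm_num [Finset.prod_range_succ]

theorem g63_centralizer13 (t : G63) (hc : Commute t sp6el13) (h2 : t * t ∈ Subgroup.center G63) :
    t ∈ Subgroup.center G63 := by
  obtain ⟨M, hM⟩ := t
  set A := M.toBlocks₁₁
  set B := M.toBlocks₁₂
  set C := M.toBlocks₂₁
  set D := M.toBlocks₂₂
  have hMb : M = Matrix.fromBlocks A B C D := (Matrix.fromBlocks_toBlocks M).symm
  have hcm : M * Matrix.fromBlocks m13 0 0 m13d = Matrix.fromBlocks m13 0 0 m13d * M := congrArg Subtype.val hc.eq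
  rw [hMb, Matrix.fromBlocks_multiply, Matrix.fromBlocks_multiply] at hcm
  simp only [Matrix.mul_zero, Matrix.zero_mul, add_zero, zero_add, Matrix.fromBlocks_inj] at hcm
  obtain ⟨hA, hB, hC, hD⟩ := hcm
  have hB0 : B = 0 := m13_no_intertwiner B hB.symm
  have hC0 : C = 0 := m13_no_intertwiner' C hC.symm
  rw [SymplecticGroup.mem_iff, hMb, hB0, hC0, Matrix.J, Matrix.fromBlocks_transpose, Matrix.fromBlocks_multiply,
    Matrix.fromBlocks_multiply] at hM
  simp only [Matrix.mul_zero, Matrix.zero_mul, add_zero, zero_add, Matrix.transpose_zero, Matrix.mul_one,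
    Matrix.fromBlocks_inj, Matrix.mul_neg, Matrix.neg_mul, neg_inj] at hM
  have hAD : A * Dᵀ = 1 := hM.2.1
  have hsq : A * A = 1 ∨ A * A = -1 := by
    rcases H49.eq_one_or_negOne_of_mem_center h2 with h | h
    · left
      have h' : M * M = 1 := congrArg Subtype.val h
      rw [hMb, hB0, hC0, Matrix.fromBlocks_multiply] at h'
      have := congrArg Matrix.toBlocks₁₁ h'
      simpa [← Matrix.fromBlocks_one] using this
    · right
      have h' : M * M = -1 := congrArg Subtype.val h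
      rw [hMb, hB0, hC0, Matrix.fromBlocks_multiply] at h'
      have := congrArg Matrix.toBlocks₁₁ h'
      rw [← Matrix.fromBlocks_one, Matrix.fromBlocks_neg] at this
      simpa using this
  have hA' := m13_commutant A hA.symm
  rw [hA'] at hsq
  rcases m13_square _ _ _ hsq with h | h
  · rw [← hA'] at h
    rw [h, one_mul] at hAD
    rw [Matrix.transpose_eq_one] at hAD
    have ht : (⟨M, by rw [SymplecticGroup.mem_iff, hMb, hB0, hC0, h, hAD, Matrix.fromBlocks_one]; simp⟩ : G63) = 1 :=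
      Subtype.ext (by show M = 1; rw [hMb, hB0, hC0, h, hAD, Matrix.fromBlocks_one])
    rw [Subgroup.mem_center_iff]
    intro g
    refine Subtype.ext ?_
    show g.1 * M = M * g.1
    rw [hMb, hB0, hC0, h, hAD, Matrix.fromBlocks_one, mul_one, one_mul]
  · rw [← hA'] at h
    rw [h, neg_mul, one_mul, neg_eq_iff_eq_neg] at hAD
    have hD' : D = -1 := by rw [← Matrix.transpose_transpose D, hAD, Matrix.transpose_neg, Matrix.transpose_one]
    rw [Subgroup.mem_center_iff]
    intro g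
    refine Subtype.ext ?_
    show g.1 * M = M * g.1
    have : M = -1 := by
      rw [hMb, hB0, hC0, h, hD', ← Matrix.fromBlocks_one, Matrix.fromBlocks_neg, neg_zero]
    rw [this, mul_neg, neg_mul, mul_one, one_mul]

end H64

namespace H64

open Matrix

/-- `PSp₆(3)`. -/
abbrev PG63 := Cfsg.PSp 3 (ZMod 3)

theorem pg63_primes {r : ℕ} (hr : r.Prime) : r ∣ Nat.card PG63 → r = 2 ∨ r = 3 ∨ r = 5 ∨ r = 7 ∨ r = 13 := by
  intro h
  have h' : r ∣ 3 ^ 9 * (8 * (80 * 728)) := card_g63 ▸ h.trans H49.card_psp_dvd_card_sp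
  have e : ∀ q : ℕ, q.Prime → r ∣ q → r = q := fun q hq h => (Nat.prime_dvd_prime_iff_eq hr hq).1 h
  rw [show 3 ^ 9 * (8 * (80 * 728)) = 2 ^ 10 * (3 ^ 9 * (5 * (7 * 13))) by norm_num] at h'
  rcases hr.dvd_mul.1 h' with h | h
  · exact Or.inl (e 2 Nat.prime_two (hr.dvd_of_dvd_pow h))
  rcases hr.dvd_mul.1 h with h | h
  · exact Or.inr (Or.inl (e 3 Nat.prime_three (hr.dvd_of_dvd_pow h)))
  rcases hr.dvd_mul.1 h with h | h
  · exact Or.inr (Or.inr (Or.inl (e 5 (by norm_num) h)))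
  rcases hr.dvd_mul.1 h with h | h
  · exact Or.inr (Or.inr (Or.inr (Or.inl (e 7 (by norm_num) h))))
  · exact Or.inr (Or.inr (Or.inr (Or.inr (e 13 (by norm_num) h))))

theorem eta63 {r η : ℕ} (hr : r.Prime) (hr2 : r ≠ 2) (hr3 : r ≠ 3)
    (h : (Odd (orderOf (3 : ZMod r)) ∧ η = orderOf (3 : ZMod r)) ∨
      (Even (orderOf (3 : ZMod r)) ∧ 2 * η = orderOf (3 : ZMod r))) :
    H49.EtaData (Nat.card (ZMod 3)) r η := by
  haveI : Fact (Nat.Prime 3) := ⟨Nat.prime_three⟩
  refine H49.EtaData.of_card (p := 3) hr hr2 hr3 ?_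
  rwa [Nat.card_zmod, Nat.cast_ofNat]

theorem order_three_mod :
    orderOf (3 : ZMod 5) = 4 ∧ orderOf (3 : ZMod 7) = 6 ∧ orderOf (3 : ZMod 13) = 3 :=
  ⟨orderOf_eq_of_prime_checks' (by norm_num) (by decide) (by decide),
    orderOf_eq_of_prime_checks' (by norm_num) (by decide) (by decide),
    orderOf_eq_of_prime_checks' (by norm_num) (by decide) (by decide)⟩
where
  orderOf_eq_of_prime_checks' {r n : ℕ} {x : ZMod r} (hn : 0 < n) (hx : x ^ n = 1)
      (h : ∀ d ∈ n.divisors, d < n → x ^ d ≠ 1) : orderOf x = n := by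
    refine (orderOf_eq_iff hn).2 ⟨hx, fun d hd hd0 hc => ?_⟩
    exact h (Nat.gcd d n) (Nat.mem_divisors.2 ⟨Nat.gcd_dvd_right _ _, hn.ne'⟩)
      ((Nat.le_of_dvd hd0 (Nat.gcd_dvd_left _ _)).trans_lt hd) (pow_gcd_eq_one.2 ⟨hc, hx⟩)

theorem eta_data63 : H49.EtaData (Nat.card (ZMod 3)) 5 2 ∧ H49.EtaData (Nat.card (ZMod 3)) 7 3 ∧
    H49.EtaData (Nat.card (ZMod 3)) 13 3 := by
  obtain ⟨h5, h7, h13⟩ := order_three_mod
  exact ⟨eta63 (by norm_num) (by norm_num) (by norm_num) (Or.inr ⟨by rw [h5]; decide, by rw [h5]⟩),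
    eta63 (by norm_num) (by norm_num) (by norm_num) (Or.inr ⟨by rw [h7]; decide, by rw [h7]⟩),
    eta63 (by norm_num) (by norm_num) (by norm_num) (Or.inl ⟨by rw [h13]; decide, by rw [h13]⟩)⟩

theorem pg63_no26 : 2 * 13 ∉ Set.range (orderOf : PG63 → ℕ) := by
  haveI : Fact (Nat.Prime 3) := ⟨Nat.prime_three⟩
  haveI : Fact (Nat.Prime 13) := ⟨by norm_num⟩
  rintro ⟨x, hx⟩
  obtain ⟨g, hg, hgo⟩ := H49.exists_lift_odd (by norm_num) (x ^ 2) (by
    rw [orderOf_pow_of_dvd (by norm_num) (hx ▸ dvd_mul_right 2 13), hx]; decide)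
  rw [orderOf_pow_of_dvd (by norm_num) (hx ▸ dvd_mul_right 2 13), hx] at hgo
  norm_num at hgo
  obtain ⟨t, ht⟩ := QuotientGroup.mk_surjective (x ^ 13)
  have ht2 : t * t ∈ Subgroup.center G63 := by
    rw [← QuotientGroup.eq_one_iff, QuotientGroup.mk_mul, ht, ← pow_add,
      show 13 + 13 = orderOf x by omega]
    exact pow_orderOf_eq_one x
  have hcz : (g * t)⁻¹ * (t * g) ∈ Subgroup.center G63 := by
    rw [← QuotientGroup.eq, QuotientGroup.mk_mul, QuotientGroup.mk_mul, ht, hg, ← pow_add, ← pow_add]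
  have hcomm : Commute g t := by
    set c := (g * t)⁻¹ * (t * g) with hc
    have hcg : ∀ y, y * c = c * y := Subgroup.mem_center_iff.1 hcz
    have h1 : t * g * t⁻¹ = g * c := by
      have e : t * g = g * t * c := by rw [hc]; group
      rw [e, mul_assoc g t c, hcg t]; group
    have h2 : c ^ 13 = 1 := by
      have e := conj_pow (i := 13) (a := t) (b := g)
      rw [h1, (show Commute g c from hcg g).mul_pow] at e
      rw [orderOf_dvd_iff_pow_eq_one.1 hgo.dvd, one_mul, mul_one, mul_inv_cancel] at e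
      exact e
    have h3 : c ^ 2 = 1 := by rw [pow_two]; exact H49.sq_eq_one_of_mem_center hcz
    have h4 : c = 1 := by
      have := pow_gcd_eq_one.2 ⟨h2, h3⟩
      simpa using this
    have : t * g = g * t := by
      have h5 : g * t * c = t * g := by rw [hc]; group
      rw [← h5, h4, mul_one]
    exact this.symm
  have hfac : (Nat.card G63).factorization 13 = 1 := by
    rw [card_g63, show 3 ^ 9 * (8 * (80 * 728)) = 13 * (3 ^ 9 * (8 * (80 * 56))) by norm_num,
      Nat.factorization_mul (by norm_num) (by norm_num), Finsupp.add_apply,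
      Nat.Prime.factorization_self (by norm_num), Nat.factorization_eq_zero_of_not_dvd (by norm_num)]
  have hP : ∀ y : G63, orderOf y = 13 → Nat.card (Subgroup.zpowers y) = 13 ^ (Nat.card G63).factorization 13 := by
    intro y hy
    rw [Nat.card_zpowers, hy, hfac, pow_one]
  obtain ⟨h, hh⟩ := MulAction.exists_smul_eq G63 (Sylow.ofCard _ (hP g hgo)) (Sylow.ofCard _ (hP _ orderOf_sp6el13))
  have hmem : sp6el13 ∈ ((h • Sylow.ofCard _ (hP g hgo) : Sylow 13 G63) : Subgroup G63) := by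
    rw [hh]; exact Subgroup.mem_zpowers sp6el13
  rw [Sylow.coe_subgroup_smul, Subgroup.mem_pointwise_smul_iff_inv_smul_mem] at hmem
  have hmem' : h⁻¹ * sp6el13 * h ∈ Subgroup.zpowers g := by simpa [MulAut.smul_def, mul_assoc] using hmem
  obtain ⟨k, hk⟩ := mem_powers_iff_mem_zpowers.2 hmem'
  simp only at hk
  have hc : Commute (h * t * h⁻¹) sp6el13 := by
    rw [show sp6el13 = h * g ^ k * h⁻¹ by rw [hk]; group]
    have := (hcomm.pow_left k).symm.eq
    calc h * t * h⁻¹ * (h * g ^ k * h⁻¹) = h * (t * g ^ k) * h⁻¹ := by group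
      _ = h * (g ^ k * t) * h⁻¹ := by rw [this]
      _ = _ := by group
  have h2' : h * t * h⁻¹ * (h * t * h⁻¹) ∈ Subgroup.center G63 := by
    rw [show h * t * h⁻¹ * (h * t * h⁻¹) = h * (t * t) * h⁻¹ by group]
    exact (inferInstance : (Subgroup.center G63).Normal).conj_mem _ ht2 h
  have h3 := g63_centralizer13 _ hc h2'
  have h4 : t ∈ Subgroup.center G63 := by
    have := (inferInstance : (Subgroup.center G63).Normal).conj_mem _ h3 h⁻¹
    simpa [mul_assoc] using this
  have h5 : x ^ 13 = 1 := by rw [← ht, QuotientGroup.eq_one_iff]; exact h4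
  have := Nat.le_of_dvd (by norm_num) (hx ▸ orderOf_dvd_of_pow_eq_one h5)
  omega

theorem pg63_pairs {r s : ℕ} (hr : r.Prime) (hs : s.Prime) (hrs : r < s) :
    r * s ∈ Set.range (orderOf : PG63 → ℕ) ↔
      (r = 2 ∧ s = 3) ∨ (r = 2 ∧ s = 5) ∨ (r = 2 ∧ s = 7) ∨ (r = 3 ∧ s = 5) := by
  haveI : Fact (Nat.Prime 3) := ⟨Nat.prime_three⟩
  obtain ⟨e5, e7, e13⟩ := eta_data63
  have c35 : 5 * 3 ∈ Set.range (orderOf : PG63 → ℕ) :=
    (H49.psp_adjacent_char_iff e5 (p := 3) (by norm_num) (by norm_num)).2 (by norm_num)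
  have c73 : 7 * 3 ∉ Set.range (orderOf : PG63 → ℕ) := fun h =>
    absurd ((H49.psp_adjacent_char_iff e7 (p := 3) (by norm_num) (by norm_num)).1 h) (by norm_num)
  have c133 : 13 * 3 ∉ Set.range (orderOf : PG63 → ℕ) := fun h =>
    absurd ((H49.psp_adjacent_char_iff e13 (p := 3) (by norm_num) (by norm_num)).1 h) (by norm_num)
  obtain ⟨h5, h7, h13⟩ := order_three_mod
  have hq : ∀ r, ((Nat.card (ZMod 3) : ℕ) : ZMod r) = (3 : ZMod r) := fun r => by rw [Nat.card_zmod, Nat.cast_ofNat]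
  have c57 : 5 * 7 ∉ Set.range (orderOf : PG63 → ℕ) := fun h => by
    rcases (H49.psp_adjacent_odd_iff (p := 3) e5 e7 (by norm_num) (by norm_num) (by norm_num) (by norm_num)
      le_rfl (by norm_num)).1 h with h | ⟨t, -, ht⟩
    · omega
    · rw [hq, hq, h5, h7] at ht; omega
  have c513 : 5 * 13 ∉ Set.range (orderOf : PG63 → ℕ) := fun h => by
    rcases (H49.psp_adjacent_odd_iff (p := 3) e5 e13 (by norm_num) (by norm_num) (by norm_num) (by norm_num)
      le_rfl (by norm_num)).1 h with h | ⟨t, -, ht⟩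
    · omega
    · rw [hq, hq, h5, h13] at ht; omega
  have c713 : 7 * 13 ∉ Set.range (orderOf : PG63 → ℕ) := fun h => by
    rcases (H49.psp_adjacent_odd_iff (p := 3) e7 e13 (by norm_num) (by norm_num) (by norm_num) le_rfl
      le_rfl (by norm_num)).1 h with h | ⟨t, -, ht⟩
    · omega
    · rw [hq, hq, h7, h13] at ht; omega
  constructor
  · intro h
    obtain ⟨x, hx⟩ := h
    have hd : r * s ∣ Nat.card PG63 := hx ▸ orderOf_dvd_natCard x
    have hr' := pg63_primes hr ((dvd_mul_right r s).trans hd)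
    have hs' := pg63_primes hs ((dvd_mul_left s r).trans hd)
    have hmem : r * s ∈ Set.range (orderOf : PG63 → ℕ) := ⟨x, hx⟩
    rcases hr' with rfl | rfl | rfl | rfl | rfl <;> rcases hs' with rfl | rfl | rfl | rfl | rfl <;>
      first
        | omega
        | exact absurd hmem pg63_no26
        | exact absurd hmem c57
        | exact absurd hmem c513
        | exact absurd hmem c713
        | exact absurd (by rwa [mul_comm] at hmem) c73
        | exact absurd (by rwa [mul_comm] at hmem) c133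
  · rintro (⟨rfl, rfl⟩ | ⟨rfl, rfl⟩ | ⟨rfl, rfl⟩ | ⟨rfl, rfl⟩)
    · have := H49.two_mul_mem_of_split (F := ZMod 3) (n := 3) (p := 3) (by norm_num) (d := 1) (k := 2) (b := 1)
        (M := 1) one_pos two_pos rfl (Or.inl (one_dvd _)) odd_one (by norm_num) (Or.inr (by norm_num))
      simpa using this
    · have := H49.two_mul_mem_of_split (F := ZMod 3) (n := 3) (p := 3) (by norm_num) (d := 2) (k := 1) (b := 0)
        (M := 5) two_pos one_pos rfl (Or.inr (by rw [Nat.card_zmod]; norm_num)) (by decide) (by norm_num) (Or.inl rfl)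
      simpa using this
    · obtain ⟨g, hg⟩ := H49.exists_orderOf_sp (F := ZMod 3) (d := 3) (M := 28) (by norm_num)
        (Or.inr (by rw [Nat.card_zmod]; norm_num))
      set m := orderOf (QuotientGroup.mk g : PG63) with hm
      have hz : g ^ m ∈ Subgroup.center G63 := by
        rw [← QuotientGroup.eq_one_iff, QuotientGroup.mk_pow, hm, pow_orderOf_eq_one]
      have h2 : g ^ (m * 2) = 1 := by rw [pow_mul, pow_two, H49.sq_eq_one_of_mem_center hz]
      have h28 := orderOf_dvd_of_pow_eq_one h2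
      rw [hg] at h28
      have h14 : 2 * 7 ∣ m := Nat.dvd_of_mul_dvd_mul_right (by norm_num) (show 14 * 2 ∣ m * 2 from h28)
      exact ⟨_, orderOf_pow_orderOf_div (orderOf_pos _).ne' h14⟩
    · rw [mul_comm]; exact c35

theorem pg63_prime_mem {r : ℕ} (hr : r = 2 ∨ r = 3 ∨ r = 5 ∨ r = 7 ∨ r = 13) : r ∣ Nat.card PG63 := by
  haveI : Fact (Nat.Prime 3) := ⟨Nat.prime_three⟩
  have h : ∀ a b : ℕ, a.Prime → b.Prime → a < b →
      ((a = 2 ∧ b = 3) ∨ (a = 2 ∧ b = 5) ∨ (a = 2 ∧ b = 7) ∨ (a = 3 ∧ b = 5)) → a * b ∣ Nat.card PG63 :=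
    fun a b ha hb hab hc => by
      obtain ⟨x, hx⟩ := (pg63_pairs ha hb hab).2 hc
      exact hx ▸ orderOf_dvd_natCard x
  rcases hr with rfl | rfl | rfl | rfl | rfl
  · exact (dvd_mul_right 2 3).trans (h 2 3 Nat.prime_two Nat.prime_three (by norm_num) (by simp))
  · exact (dvd_mul_left 3 2).trans (h 2 3 Nat.prime_two Nat.prime_three (by norm_num) (by simp))
  · exact (dvd_mul_left 5 2).trans (h 2 5 Nat.prime_two (by norm_num) (by norm_num) (by simp))
  · exact (dvd_mul_left 7 2).trans (h 2 7 Nat.prime_two (by norm_num) (by norm_num) (by simp))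
  · have := H49.orderOf_mk_of_odd (F := ZMod 3) (n := 3) (by norm_num) (g := sp6el13) (by
      rw [orderOf_sp6el13]; decide)
    rw [orderOf_sp6el13] at this
    exact this ▸ orderOf_dvd_natCard _

/-- The map of symplectic groups induced by a field isomorphism. -/
def spMap {F K : Type*} [Field F] [Field K] (n : ℕ) (ψ : F ≃+* K) :
    Matrix.symplecticGroup (Fin n) F →* Matrix.symplecticGroup (Fin n) K :=
  MonoidHom.mk' (fun g => ⟨(g : Matrix (Fin n ⊕ Fin n) (Fin n ⊕ Fin n) F).map ψ, by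
      rw [SymplecticGroup.mem_iff]
      have h := congrArg (fun M : Matrix (Fin n ⊕ Fin n) (Fin n ⊕ Fin n) F => M.map ψ.toRingHom)
        (SymplecticGroup.mem_iff.1 g.2)
      simp only [Matrix.map_mul, Matrix.transpose_map, Matrix.map_J] at h
      exact h⟩)
    (fun g h => Subtype.ext (Matrix.map_mul (f := ψ.toRingHom)))

/-- Isomorphic fields give isomorphic symplectic groups. -/
def spCongr {F K : Type*} [Field F] [Field K] (n : ℕ) (ψ : F ≃+* K) :
    Matrix.symplecticGroup (Fin n) F ≃* Matrix.symplecticGroup (Fin n) K where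
  toFun := spMap n ψ
  invFun := spMap n ψ.symm
  left_inv g := Subtype.ext (Matrix.ext fun i j => ψ.symm_apply_apply _)
  right_inv g := Subtype.ext (Matrix.ext fun i j => ψ.apply_symm_apply _)
  map_mul' := map_mul _

end H64
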