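import Mathlib

/-!
An upper bound for the element orders of 8-dimensional symplectic groups in characteristic two.
-/

set_option autoImplicit false

namespace H64

open Polynomial

/-- The maximal element orders of `Sp₈(q)`, `q` even. -/
def sp8List (q : ℕ) : List ℕ :=
  [q ^ 4 + 1, q ^ 4 - 1, (q ^ 3 + 1) * (q - 1), (q ^ 3 - 1) * (q + 1), 2 * (q ^ 3 + 1), 2 * (q ^ 3 - 1),
    2 * ((q ^ 2 + 1) * (q + 1)), 2 * ((q ^ 2 + 1) * (q - 1)), 4 * (q ^ 2 + 1), 4 * (q ^ 2 - 1),
    8 * (q + 1), 8 * (q - 1)]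

section Roots

variable {L : Type*} [Field L]

theorem reverse_prod_X_sub_C (s : Multiset L) (h0 : (0 : L) ∉ s) :
    ∃ c : L, c ≠ 0 ∧ (s.map fun a => X - C a).prod.reverse = C c * ((s.map fun a => a⁻¹).map fun a => X - C a).prod := by
  induction s using Multiset.induction_on with
  | empty => exact ⟨1, one_ne_zero, by rw [Multiset.map_zero, Multiset.map_zero, Multiset.map_zero, Multiset.prod_zero, ← C_1, reverse_C, ← C_mul, mul_one]⟩
  | cons a s ih =>
    obtain ⟨ha, hs⟩ : (0 : L) ≠ a ∧ (0 : L) ∉ s := by simpa using h0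
    obtain ⟨c, hc, e⟩ := ih hs
    refine ⟨-a * c, mul_ne_zero (neg_ne_zero.2 (Ne.symm ha)) hc, ?_⟩
    have e1 : (X - C a).reverse = C (-a) * (X - C a⁻¹) := by
      rw [reverse, natDegree_X_sub_C, reflect_sub, reflect_C, pow_one, ← pow_one (X : L[X]),
        reflect_monomial, revAt_le le_rfl, Nat.sub_self, pow_zero, pow_one, mul_sub, ← C_mul, neg_mul,
        mul_inv_cancel₀ (Ne.symm ha), C_neg, C_neg, C_1]
      ring
    simp only [Multiset.map_cons, Multiset.prod_cons, reverse_mul_of_domain, e, e1, C_mul]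
    ring

theorem roots_reverse_of_splits {P : L[X]} (hP : P.Splits) (h0 : P.eval 0 ≠ 0) :
    P.reverse.roots = P.roots.map fun a => a⁻¹ := by
  have hz : (0 : L) ∉ P.roots := fun h => h0 (isRoot_of_mem_roots h)
  obtain ⟨c, hc, e⟩ := reverse_prod_X_sub_C P.roots hz
  have hne : P ≠ 0 := fun h => h0 (by rw [h, eval_zero])
  conv_lhs => rw [hP.eq_prod_roots, reverse_mul_of_domain, reverse_C, e, ← mul_assoc, ← C_mul]
  rw [roots_C_mul _ (mul_ne_zero (leadingCoeff_ne_zero.2 hne) hc), roots_multiset_prod_X_sub_C]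

end Roots

section Orbits

variable {L : Type*} [Field L] [DecidableEq L]

/-- Properties of the multiset of roots different from `1`. -/
structure RootData (q : ℕ) (M : Multiset L) : Prop where
  zero : (0 : L) ∉ M
  one : (1 : L) ∉ M
  frob : ∀ x, M.count (x ^ q) = M.count x
  inv : ∀ x, M.count x⁻¹ = M.count x
  inj : Function.Injective fun x : L => x ^ q
  two : (2 : L) = 0

open scoped Classical in
/-- The orbit of `x` under Frobenius and inversion. -/
noncomputable def orbitOf (q : ℕ) (M : Multiset L) (x : L) : Finset L :=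
  M.toFinset.filter fun y => ∃ i : ℕ, y = x ^ q ^ i ∨ y = (x ^ q ^ i)⁻¹

variable {q : ℕ} {M : Multiset L}

theorem mem_orbitOf {x y : L} :
    y ∈ orbitOf q M x ↔ y ∈ M.toFinset ∧ ∃ i : ℕ, y = x ^ q ^ i ∨ y = (x ^ q ^ i)⁻¹ := by
  classical
  rw [orbitOf, Finset.mem_filter]

variable (h : RootData q M)
include h

theorem RootData.pow_inj (i : ℕ) {a b : L} (e : a ^ q ^ i = b ^ q ^ i) : a = b := by
  induction i generalizing a b with
  | zero => simpa using e
  | succ i ih =>
    rw [pow_succ, pow_mul, pow_mul] at e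
    exact ih (h.inj e)

theorem RootData.count_pow (x : L) (i : ℕ) : M.count (x ^ q ^ i) = M.count x := by
  induction i with
  | zero => simp
  | succ i ih => rw [pow_succ, pow_mul, h.frob, ih]

theorem RootData.mem_pow {x : L} (hx : x ∈ M) (i : ℕ) : x ^ q ^ i ∈ M := by
  rw [← Multiset.count_pos, h.count_pow, Multiset.count_pos]; exact hx

theorem RootData.mem_inv {x : L} (hx : x ∈ M) : x⁻¹ ∈ M := by
  rw [← Multiset.count_pos, h.inv, Multiset.count_pos]; exact hx

theorem RootData.ne_zero {x : L} (hx : x ∈ M) : x ≠ 0 := fun e => h.zero (e ▸ hx)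

theorem RootData.inv_ne {x : L} (hx : x ∈ M) : x⁻¹ ≠ x := by
  intro e
  have h2 : x * x = 1 := by nth_rewrite 1 [← e]; exact inv_mul_cancel₀ (h.ne_zero hx)
  have h3 : (x - 1) * (x - 1) = 0 := by linear_combination h2 + (1 - x) * h.two
  exact h.one (sub_eq_zero.1 (mul_self_eq_zero.1 h3) ▸ hx)

theorem RootData.exists_period {x : L} (hx : x ∈ M) : ∃ d, 0 < d ∧ x ^ q ^ d = x := by
  obtain ⟨i, j, hij, e⟩ := Finite.exists_ne_map_eq_of_infinite fun i : ℕ =>
    (⟨x ^ q ^ i, Multiset.mem_toFinset.2 (h.mem_pow hx i)⟩ : M.toFinset)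
  wlog hlt : i < j generalizing i j
  · exact this j i hij.symm e.symm (by omega)
  refine ⟨j - i, by omega, h.pow_inj i ?_⟩
  rw [← pow_mul, ← pow_add, Nat.sub_add_cancel hlt.le]
  exact (congrArg Subtype.val e).symm

theorem RootData.even_card : Even (Multiset.card M) := by
  have e : ((Multiset.card M : ℕ) : ZMod 2) = 0 := by
    rw [← Multiset.toFinset_sum_count_eq M, Nat.cast_sum]
    refine Finset.sum_involution (fun a _ => a⁻¹) (fun a _ => ?_) (fun a ha _ => ?_)
      (fun a ha => ?_) (fun a _ => inv_inv a)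
    · rw [h.inv, CharTwo.add_self_eq_zero]
    · exact h.inv_ne (Multiset.mem_toFinset.1 ha)
    · exact Multiset.mem_toFinset.2 (h.mem_inv (Multiset.mem_toFinset.1 ha))
  exact even_iff_two_dvd.2 ((ZMod.natCast_eq_zero_iff _ 2).1 e)

/-- The orbit of a root has size at least `2a`, where the root is killed by `q^a + 1` or `q^a - 1`. -/
theorem RootData.orbit_data {x : L} (hx : x ∈ M) :
    ∃ a, 0 < a ∧ (x ^ (q ^ a + 1) = 1 ∨ x ^ (q ^ a - 1) = 1) ∧ 2 * a ≤ (orbitOf q M x).card := by
  classical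
  have hx0 := h.ne_zero hx
  have hd := h.exists_period hx
  set d := Nat.find hd with hddef
  obtain ⟨hd0, hdx⟩ : 0 < d ∧ x ^ q ^ d = x := Nat.find_spec hd
  have hmin : ∀ i, 0 < i → i < d → x ^ q ^ i ≠ x := fun i h0 h1 e => Nat.find_min hd h1 ⟨h0, e⟩
  have hdist : ∀ i < d, ∀ j < d, x ^ q ^ i = x ^ q ^ j → i = j := by
    suffices ∀ i j, i < j → j < d → x ^ q ^ i ≠ x ^ q ^ j by
      intro i hi j hj e
      rcases lt_trichotomy i j with l | l | l
      · exact absurd e (this i j l hj)
      · exact l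
      · exact absurd e.symm (this j i l hi)
    intro i j hij hj e
    refine hmin (j - i) (by omega) (by omega) (h.pow_inj i ?_)
    rw [← pow_mul, ← pow_add, Nat.sub_add_cancel hij.le, e]
  have hmemi : ∀ i, x ^ q ^ i ∈ orbitOf q M x := fun i =>
    mem_orbitOf.2 ⟨Multiset.mem_toFinset.2 (h.mem_pow hx i), i, Or.inl rfl⟩
  have hmemj : ∀ i, (x ^ q ^ i)⁻¹ ∈ orbitOf q M x := fun i =>
    mem_orbitOf.2 ⟨Multiset.mem_toFinset.2 (h.mem_inv (h.mem_pow hx i)), i, Or.inr rfl⟩
  by_cases hinv : ∃ i, i < d ∧ x ^ q ^ i = x⁻¹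
  · obtain ⟨i, hi, e⟩ := hinv
    have hi0 : 0 < i := by
      rcases Nat.eq_zero_or_pos i with rfl | l
      · rw [pow_zero, pow_one] at e
        exact absurd e.symm (h.inv_ne hx)
      · exact l
    have h2i : x ^ q ^ (i + i) = x := by rw [pow_add, pow_mul, e, inv_pow, e, inv_inv]
    have hdi : d = 2 * i := by
      have hle : d ≤ i + i := Nat.find_min' hd ⟨by omega, h2i⟩
      by_contra hne
      refine hmin (i + i - d) (by omega) (by omega) ?_
      have : x ^ q ^ (d + (i + i - d)) = x := by rw [Nat.add_sub_cancel' hle, h2i]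
      rwa [pow_add, pow_mul, hdx] at this
    refine ⟨i, hi0, Or.inl (by rw [pow_succ, e, inv_mul_cancel₀ hx0]), ?_⟩
    calc 2 * i = (Finset.range d).card := by rw [Finset.card_range, hdi]
      _ ≤ _ := Finset.card_le_card_of_injOn (fun i => x ^ q ^ i) (fun i _ => hmemi i)
          fun i hi j hj e => hdist i (Finset.mem_range.1 hi) j (Finset.mem_range.1 hj) e
  · push Not at hinv
    refine ⟨d, hd0, Or.inr ?_, ?_⟩
    · have hq1 : 1 ≤ q ^ d := by
        rcases Nat.eq_zero_or_pos (q ^ d) with e | e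
        · exfalso
          rw [e, pow_zero] at hdx
          exact h.one (hdx ▸ hx)
        · exact e
      refine mul_right_cancel₀ hx0 ?_
      rw [← pow_succ, Nat.sub_add_cancel hq1, hdx, one_mul]
    · have hmix : ∀ i < d, ∀ j < d, x ^ q ^ i ≠ (x ^ q ^ j)⁻¹ := by
        intro i hi j hj e
        rcases le_or_gt j i with l | l
        · refine hinv (i - j) (by omega) (h.pow_inj j ?_)
          rw [← pow_mul, ← pow_add, Nat.sub_add_cancel l, inv_pow, e]
        · refine hinv (i + d - j) (by omega) (h.pow_inj j ?_)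
          rw [← pow_mul, ← pow_add, Nat.sub_add_cancel (by omega), inv_pow, add_comm, pow_add, pow_mul,
            hdx, e]
      calc 2 * d = (Finset.range d ×ˢ (Finset.univ : Finset Bool)).card := by
            rw [Finset.card_product, Finset.card_range, Finset.card_univ, Fintype.card_bool]; ring
        _ ≤ _ := Finset.card_le_card_of_injOn (fun p => if p.2 then (x ^ q ^ p.1)⁻¹ else x ^ q ^ p.1)
            (fun p _ => by dsimp only; split_ifs; exacts [hmemj _, hmemi _]) (by
              rintro ⟨i, b⟩ hi ⟨j, b'⟩ hj e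
              simp only [Finset.coe_product, Set.mem_prod, Finset.coe_range, Set.mem_Iio] at hi hj
              cases b <;> cases b' <;> simp only [Bool.false_eq_true, if_false, if_true] at e
              · rw [hdist i hi.1 j hj.1 e]
              · exact absurd e (hmix i hi.1 j hj.1)
              · exact absurd e.symm (hmix j hj.1 i hi.1)
              · rw [hdist i hi.1 j hj.1 (inv_injective e)])

theorem RootData.mem_orbit {x : L} (hx : x ∈ M) : x ∈ orbitOf q M x :=
  mem_orbitOf.2 ⟨Multiset.mem_toFinset.2 hx, 0, Or.inl (by simp)⟩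

theorem RootData.count_orbit {x y : L} (hy : y ∈ orbitOf q M x) : M.count y = M.count x := by
  obtain ⟨-, i, rfl | rfl⟩ := mem_orbitOf.1 hy
  · exact h.count_pow x i
  · rw [h.inv, h.count_pow]

theorem RootData.pow_eq_one_orbit {x y : L} {m : ℕ} (hm : x ^ m = 1) (hy : y ∈ orbitOf q M x) :
    y ^ m = 1 := by
  obtain ⟨-, i, rfl | rfl⟩ := mem_orbitOf.1 hy
  · rw [pow_right_comm, hm, one_pow]
  · rw [inv_pow, pow_right_comm, hm, one_pow, inv_one]

theorem RootData.orbit_symm {x y : L} (hx : x ∈ M) (hy : y ∈ orbitOf q M x) :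
    x ∈ orbitOf q M y := by
  obtain ⟨d, hd0, hd⟩ := h.exists_period hx
  have hk : ∀ k, x ^ q ^ (d * k) = x := fun k => by
    induction k with
    | zero => simp
    | succ k ih => rw [Nat.mul_succ, pow_add, pow_mul, ih, hd]
  obtain ⟨-, i, e⟩ := mem_orbitOf.1 hy
  have hji : i + (d * i - i) = d * i := Nat.add_sub_cancel' (Nat.le_mul_of_pos_left i hd0)
  refine mem_orbitOf.2 ⟨Multiset.mem_toFinset.2 hx, d * i - i, ?_⟩
  rcases e with rfl | rfl
  · left; rw [← pow_mul, ← pow_add, hji, hk]
  · right; rw [inv_pow, inv_inv, ← pow_mul, ← pow_add, hji, hk]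

theorem RootData.orbit_trans {x y z : L} (hy : y ∈ orbitOf q M x) (hz : z ∈ orbitOf q M y) :
    z ∈ orbitOf q M x := by
  obtain ⟨-, i, e⟩ := mem_orbitOf.1 hy
  obtain ⟨hzM, j, e'⟩ := mem_orbitOf.1 hz
  refine mem_orbitOf.2 ⟨hzM, i + j, ?_⟩
  rcases e with rfl | rfl <;> rcases e' with rfl | rfl
  · left; rw [pow_add, pow_mul]
  · right; rw [pow_add, pow_mul]
  · right; rw [inv_pow, pow_add, pow_mul]
  · left; rw [inv_pow, inv_inv, pow_add, pow_mul]

theorem RootData.orbit_disjoint {x y : L} (hy : y ∈ M) (hne : y ∉ orbitOf q M x) :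
    Disjoint (orbitOf q M x) (orbitOf q M y) :=
  Finset.disjoint_left.2 fun _ hzx hzy => hne (h.orbit_trans hzx (h.orbit_symm hy hzy))

omit h in
theorem sum_count_le (S : Finset L) : ∑ y ∈ S, M.count y ≤ Multiset.card M := by
  calc ∑ y ∈ S, M.count y ≤ ∑ y ∈ S ∪ M.toFinset, M.count y :=
        Finset.sum_le_sum_of_subset Finset.subset_union_left
    _ = Multiset.card M := Multiset.sum_count_eq_card fun a ha =>
        Finset.mem_union_right _ (Multiset.mem_toFinset.2 ha)

/-- The weight `a e` of every orbit, with the weights of disjoint orbits adding up. -/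
theorem RootData.exists_weights : ∃ a : L → ℕ, ∀ x ∈ M,
    (0 < a x ∧ (x ^ (q ^ a x + 1) = 1 ∨ x ^ (q ^ a x - 1) = 1) ∧
      2 * (a x * M.count x) ≤ Multiset.card M) ∧
    ∀ y ∈ M, y ∉ orbitOf q M x →
      2 * (a x * M.count x + a y * M.count y) ≤ Multiset.card M ∧
      ∀ z ∈ M, z ∉ orbitOf q M x → z ∉ orbitOf q M y →
        2 * (a x * M.count x + a y * M.count y + a z * M.count z) ≤ Multiset.card M := by
  classical
  choose a ha using fun x : {x // x ∈ M} => h.orbit_data x.2
  refine ⟨fun x => if hx : x ∈ M then a ⟨x, hx⟩ else 0, fun x hx => ?_⟩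
  have hw : ∀ y, y ∈ M → 2 * ((if hx : y ∈ M then a ⟨y, hx⟩ else 0) * M.count y) ≤
      ∑ z ∈ orbitOf q M y, M.count z := fun y hy => by
    rw [dif_pos hy, Finset.sum_congr rfl fun z hz => h.count_orbit hz, Finset.sum_const, smul_eq_mul,
      ← mul_assoc]
    exact Nat.mul_le_mul_right _ (ha ⟨y, hy⟩).2.2
  refine ⟨⟨?_, ?_, (hw x hx).trans (sum_count_le _)⟩, fun y hy hxy => ⟨?_, fun z hz hxz hyz => ?_⟩⟩
  · dsimp only; rw [dif_pos hx]; exact (ha ⟨x, hx⟩).1
  · dsimp only; rw [dif_pos hx]; exact (ha ⟨x, hx⟩).2.1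
  · refine le_trans ?_ (sum_count_le (orbitOf q M x ∪ orbitOf q M y))
    rw [Finset.sum_union (h.orbit_disjoint hy hxy), mul_add]
    exact add_le_add (hw x hx) (hw y hy)
  · refine le_trans ?_ (sum_count_le (orbitOf q M x ∪ orbitOf q M y ∪ orbitOf q M z))
    rw [Finset.sum_union (Finset.disjoint_union_left.2 ⟨h.orbit_disjoint hz hxz, h.orbit_disjoint hz hyz⟩),
      Finset.sum_union (h.orbit_disjoint hy hxy), mul_add, mul_add]
    exact add_le_add (add_le_add (hw x hx) (hw y hy)) (hw z hz)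

end Orbits

section Cases

variable {L : Type*} [Field L] [DecidableEq L] {q : ℕ} {M : Multiset L}

theorem prod_le_four {a e : ℕ} (ha : 0 < a) (he : 0 < e) (h : a * e ≤ 4) : a ≤ 4 ∧ e ≤ 4 :=
  ⟨(Nat.le_mul_of_pos_right a he).trans h, (Nat.le_mul_of_pos_left e ha).trans h⟩

theorem dvd_facts (q : ℕ) :
    q + 1 ∣ q ^ 3 + 1 ∧ q - 1 ∣ q ^ 2 - 1 ∧ q + 1 ∣ q ^ 2 - 1 ∧ q - 1 ∣ q ^ 3 - 1 ∧
      q ^ 2 - 1 ∣ q ^ 4 - 1 ∧ q ^ 2 + 1 ∣ q ^ 4 - 1 ∧ q - 1 ∣ q ^ 4 - 1 ∧ q + 1 ∣ q ^ 4 - 1 ∧
      q ^ 2 - 1 ∣ (q ^ 3 + 1) * (q - 1) ∧ q ^ 2 - 1 ∣ (q ^ 3 - 1) * (q + 1) := by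
  have hsq : q ^ 2 - 1 = (q + 1) * (q - 1) := by
    simpa using Nat.sq_sub_sq q 1
  have h4 : q ^ 4 - 1 = (q ^ 2 + 1) * (q ^ 2 - 1) := by
    have := Nat.sq_sub_sq (q ^ 2) 1
    simpa [← pow_mul] using this
  have h3 : q + 1 ∣ q ^ 3 + 1 := by
    simpa using (show Odd 3 by decide).nat_add_dvd_pow_add_pow q 1
  have h3' : q - 1 ∣ q ^ 3 - 1 := by simpa using Nat.sub_dvd_pow_sub_pow q 1 3
  have d24 : q ^ 2 - 1 ∣ q ^ 4 - 1 := h4 ▸ dvd_mul_left _ _
  refine ⟨h3, hsq ▸ dvd_mul_left _ _, hsq ▸ dvd_mul_right _ _, h3', d24, h4 ▸ dvd_mul_right _ _,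
    (hsq ▸ dvd_mul_left _ _ : q - 1 ∣ q ^ 2 - 1).trans d24,
    (hsq ▸ dvd_mul_right _ _ : q + 1 ∣ q ^ 2 - 1).trans d24, ?_, ?_⟩
  · rw [hsq]; exact Nat.mul_dvd_mul_right h3 _
  · rw [hsq, mul_comm (q + 1)]; exact Nat.mul_dvd_mul_right h3' _

/-- The root multiset allows an element of the list as an exponent. -/
theorem RootData.exists_exponent (h : RootData q M) {r : ℕ} (hr : Multiset.card M + r = 8) :
    ∃ k m, 2 ^ k * m ∈ sp8List q ∧ r ≤ 2 ^ k ∧ (∀ x ∈ M, M.count x ≤ 2 ^ k ∧ x ^ m = 1) := by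
  obtain ⟨a, ha⟩ := h.exists_weights
  obtain ⟨w, hw⟩ : ∃ w, Multiset.card M = 2 * w := by
    obtain ⟨w, hw⟩ := h.even_card; exact ⟨w, by omega⟩
  obtain ⟨d3, d21, d22, d31, d24, d24', d41, d42, d23, d23'⟩ := dvd_facts q
  have pw : ∀ {x : L} {k m : ℕ}, x ^ k = 1 → k ∣ m → x ^ m = 1 := fun e hd => by
    obtain ⟨c, rfl⟩ := hd; rw [pow_mul, e, one_pow]
  -- facts on single roots
  have h1 : ∀ x ∈ M, 0 < a x ∧ 0 < M.count x ∧ a x * M.count x ≤ w := fun x hx =>
    ⟨(ha x hx).1.1, Multiset.count_pos.2 hx, by have := (ha x hx).1.2.2; omega⟩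
  have hcnt : ∀ x ∈ M, M.count x ≤ w := fun x hx =>
    (Nat.le_mul_of_pos_left _ (h1 x hx).1).trans (h1 x hx).2.2
  have hal : ∀ x ∈ M, a x ≤ w := fun x hx =>
    (Nat.le_mul_of_pos_right _ (h1 x hx).2.1).trans (h1 x hx).2.2
  have hsign : ∀ x ∈ M, x ^ (q ^ a x + 1) = 1 ∨ x ^ (q ^ a x - 1) = 1 := fun x hx => (ha x hx).1.2.1
  have one_sq : ∀ x ∈ M, a x = 1 → x ^ (q ^ 2 - 1) = 1 := fun x hx e => by
    rcases hsign x hx with s | s <;> rw [e, pow_one] at s
    exacts [pw s d22, pw s d21]
  have two_four : ∀ x ∈ M, a x ≤ 2 → x ^ (q ^ 4 - 1) = 1 := fun x hx e => by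
    have := (h1 x hx).1
    rcases (by omega : a x = 1 ∨ a x = 2) with e | e
    · exact pw (one_sq x hx e) d24
    · rcases hsign x hx with s | s <;> rw [e] at s
      exacts [pw s d24', pw s d24]
  have two : ∀ x ∈ M, ∀ y ∈ M, y ∉ orbitOf q M x →
      a x * M.count x + a y * M.count y ≤ w := fun x hx y hy hn => by
    have := ((ha x hx).2 y hy hn).1; omega
  have three : ∀ x ∈ M, ∀ y ∈ M, y ∉ orbitOf q M x → ∀ z ∈ M, z ∉ orbitOf q M x → z ∉ orbitOf q M y →
      a x * M.count x + a y * M.count y + a z * M.count z ≤ w := fun x hx y hy hn z hz h2 h3 => by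
    have := ((ha x hx).2 y hy hn).2 z hz h2 h3; omega
  -- everything in a full orbit
  have full : ∀ x ∈ M, a x * M.count x = w → ∀ y ∈ M, y ∈ orbitOf q M x := fun x hx e y hy => by
    by_contra hn
    have := two x hx y hy hn
    have := Nat.mul_pos (h1 y hy).1 (h1 y hy).2.1
    omega
  have fullm : ∀ x ∈ M, a x * M.count x = w → ∀ m, x ^ m = 1 →
      ∀ y ∈ M, M.count y = M.count x ∧ y ^ m = 1 := fun x hx e m hm y hy =>
    ⟨h.count_orbit (full x hx e y hy), h.pow_eq_one_orbit hm (full x hx e y hy)⟩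
  -- all orbits of degree one
  have small : (∀ x ∈ M, a x ≤ 1) → r ≤ 4 →
      ∃ k m, 2 ^ k * m ∈ sp8List q ∧ r ≤ 2 ^ k ∧ (∀ x ∈ M, M.count x ≤ 2 ^ k ∧ x ^ m = 1) := fun hall hr4 =>
    ⟨2, q ^ 2 - 1, by simp [sp8List], by norm_num; omega, fun x hx =>
      ⟨by norm_num; have := hcnt x hx; omega, one_sq x hx (by have := hall x hx; have := (h1 x hx).1; omega)⟩⟩
  rcases (by omega : w ≤ 1 ∨ w = 2 ∨ w = 3 ∨ w = 4) with hw1 | hw2 | hw3 | hw4
  · -- at most one orbit
    by_cases hne : ∃ x, x ∈ M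
    · obtain ⟨x, hx⟩ := hne
      have e : a x * M.count x = w := by
        have := (h1 x hx).2.2; have := Nat.mul_pos (h1 x hx).1 (h1 x hx).2.1; omega
      have e1 : a x = 1 := by have := hal x hx; have := (h1 x hx).1; omega
      have e2 : ∀ y ∈ M, M.count y ≤ 2 ^ 3 := fun y hy => by norm_num; have := hcnt y hy; omega
      rcases hsign x hx with s | s <;> rw [e1, pow_one] at s
      · exact ⟨3, q + 1, by simp [sp8List], by norm_num; omega,
          fun y hy => ⟨e2 y hy, (fullm x hx e _ s y hy).2⟩⟩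
      · exact ⟨3, q - 1, by simp [sp8List], by norm_num; omega,
          fun y hy => ⟨e2 y hy, (fullm x hx e _ s y hy).2⟩⟩
    · exact ⟨3, q + 1, by simp [sp8List], by norm_num; omega, fun y hy => absurd ⟨y, hy⟩ hne⟩
  · -- weight two
    by_cases h2 : ∃ x ∈ M, a x = 2
    · obtain ⟨x, hx, e⟩ := h2
      have e1 : M.count x = 1 := by
        have := (h1 x hx).2.2; have := (h1 x hx).2.1; rw [e] at *; omega
      have ef : a x * M.count x = w := by rw [e, e1]; omega
      have e2 : ∀ y ∈ M, M.count y ≤ 2 ^ 2 := fun y hy => by norm_num; have := hcnt y hy; omega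
      rcases hsign x hx with s | s <;> rw [e] at s
      · exact ⟨2, q ^ 2 + 1, by simp [sp8List], by norm_num; omega,
          fun y hy => ⟨e2 y hy, (fullm x hx ef _ s y hy).2⟩⟩
      · exact ⟨2, q ^ 2 - 1, by simp [sp8List], by norm_num; omega,
          fun y hy => ⟨e2 y hy, (fullm x hx ef _ s y hy).2⟩⟩
    · push Not at h2
      exact small (fun x hx => by have := hal x hx; have := h2 x hx; omega) (by omega)
  · -- weight three
    by_cases h3 : ∃ x ∈ M, a x = 3
    · obtain ⟨x, hx, e⟩ := h3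
      have e1 : M.count x = 1 := by
        have := (h1 x hx).2.2; have := (h1 x hx).2.1; rw [e] at *; omega
      have ef : a x * M.count x = w := by rw [e, e1]; omega
      have e2 : ∀ y ∈ M, M.count y ≤ 2 ^ 1 := fun y hy => by
        rw [(fullm x hx ef 0 (pow_zero x) y hy).1, e1]; norm_num
      rcases hsign x hx with s | s <;> rw [e] at s
      · exact ⟨1, q ^ 3 + 1, by simp [sp8List], by norm_num; omega,
          fun y hy => ⟨e2 y hy, (fullm x hx ef _ s y hy).2⟩⟩
      · exact ⟨1, q ^ 3 - 1, by simp [sp8List], by norm_num; omega,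
          fun y hy => ⟨e2 y hy, (fullm x hx ef _ s y hy).2⟩⟩
    push Not at h3
    by_cases h2 : ∃ x ∈ M, a x = 2
    · obtain ⟨x, hx, e⟩ := h2
      have e1 : M.count x = 1 := by
        have := (h1 x hx).2.2; have := (h1 x hx).2.1; rw [e] at *; omega
      have hout : ∀ y ∈ M, y ∉ orbitOf q M x → a y = 1 ∧ M.count y = 1 := fun y hy hn => by
        have := two x hx y hy hn
        rw [e, e1] at this
        have := Nat.le_mul_of_pos_right (a y) (h1 y hy).2.1
        have := Nat.le_mul_of_pos_left (M.count y) (h1 y hy).1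
        have := (h1 y hy).1; have := (h1 y hy).2.1
        omega
      have e2 : ∀ y ∈ M, M.count y ≤ 2 ^ 1 := fun y hy => by
        by_cases hn : y ∈ orbitOf q M x
        · rw [h.count_orbit hn, e1]; norm_num
        · rw [(hout y hy hn).2]; norm_num
      rcases hsign x hx with s | s <;> rw [e] at s
      · by_cases hy : ∃ y ∈ M, y ∉ orbitOf q M x
        · obtain ⟨y, hy, hn⟩ := hy
          have hall : ∀ m, x ^ m = 1 → y ^ m = 1 → ∀ z ∈ M, z ^ m = 1 := fun m hm hm' z hz => by
            by_cases hz1 : z ∈ orbitOf q M x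
            · exact h.pow_eq_one_orbit hm hz1
            by_cases hz2 : z ∈ orbitOf q M y
            · exact h.pow_eq_one_orbit hm' hz2
            have := three x hx y hy hn z hz hz1 hz2
            rw [e, e1, (hout y hy hn).1, (hout y hy hn).2] at this
            have := Nat.mul_pos (h1 z hz).1 (h1 z hz).2.1
            omega
          rcases hsign y hy with t | t <;> rw [(hout y hy hn).1, pow_one] at t
          · exact ⟨1, (q ^ 2 + 1) * (q + 1), by simp [sp8List], by norm_num; omega, fun z hz => ⟨e2 z hz,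
              hall _ (pw s (dvd_mul_right _ _)) (pw t (dvd_mul_left _ _)) z hz⟩⟩
          · exact ⟨1, (q ^ 2 + 1) * (q - 1), by simp [sp8List], by norm_num; omega, fun z hz => ⟨e2 z hz,
              hall _ (pw s (dvd_mul_right _ _)) (pw t (dvd_mul_left _ _)) z hz⟩⟩
        · push Not at hy
          exact ⟨1, (q ^ 2 + 1) * (q + 1), by simp [sp8List], by norm_num; omega, fun z hz => ⟨e2 z hz,
            h.pow_eq_one_orbit (pw s (dvd_mul_right _ _)) (hy z hz)⟩⟩
      · refine ⟨2, q ^ 2 - 1, by simp [sp8List], by norm_num; omega, fun z hz => ⟨?_, ?_⟩⟩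
        · have := e2 z hz; norm_num at this ⊢; omega
        · by_cases hn : z ∈ orbitOf q M x
          · exact h.pow_eq_one_orbit s hn
          · exact one_sq z hz (hout z hz hn).1
    · push Not at h2
      exact small (fun x hx => by have := hal x hx; have := h3 x hx; have := h2 x hx; omega) (by omega)
  · -- weight four
    by_cases h4 : ∃ x ∈ M, a x = 4
    · obtain ⟨x, hx, e⟩ := h4
      have e1 : M.count x = 1 := by
        have := (h1 x hx).2.2; have := (h1 x hx).2.1; rw [e] at *; omega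
      have ef : a x * M.count x = w := by rw [e, e1]; omega
      have e2 : ∀ y ∈ M, M.count y ≤ 2 ^ 0 := fun y hy => by
        rw [(fullm x hx ef 0 (pow_zero x) y hy).1, e1]; norm_num
      rcases hsign x hx with s | s <;> rw [e] at s
      · exact ⟨0, q ^ 4 + 1, by simp [sp8List], by norm_num; omega,
          fun y hy => ⟨e2 y hy, (fullm x hx ef _ s y hy).2⟩⟩
      · exact ⟨0, q ^ 4 - 1, by simp [sp8List], by norm_num; omega,
          fun y hy => ⟨e2 y hy, (fullm x hx ef _ s y hy).2⟩⟩
    push Not at h4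
    by_cases h3 : ∃ x ∈ M, a x = 3
    · obtain ⟨x, hx, e⟩ := h3
      have e1 : M.count x = 1 := by
        have := (h1 x hx).2.2; have := (h1 x hx).2.1; rw [e] at *; omega
      have hout : ∀ y ∈ M, y ∉ orbitOf q M x → a y = 1 ∧ M.count y = 1 := fun y hy hn => by
        have := two x hx y hy hn
        rw [e, e1] at this
        have := Nat.le_mul_of_pos_right (a y) (h1 y hy).2.1
        have := Nat.le_mul_of_pos_left (M.count y) (h1 y hy).1
        have := (h1 y hy).1; have := (h1 y hy).2.1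
        omega
      have e2 : ∀ y ∈ M, M.count y ≤ 2 ^ 0 := fun y hy => by
        by_cases hn : y ∈ orbitOf q M x
        · rw [h.count_orbit hn, e1]; norm_num
        · rw [(hout y hy hn).2]; norm_num
      rcases hsign x hx with s | s <;> rw [e] at s
      · refine ⟨0, (q ^ 3 + 1) * (q - 1), by simp [sp8List], by norm_num; omega, fun z hz => ⟨e2 z hz, ?_⟩⟩
        by_cases hn : z ∈ orbitOf q M x
        · exact h.pow_eq_one_orbit (pw s (dvd_mul_right _ _)) hn
        · exact pw (one_sq z hz (hout z hz hn).1) d23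
      · refine ⟨0, (q ^ 3 - 1) * (q + 1), by simp [sp8List], by norm_num; omega, fun z hz => ⟨e2 z hz, ?_⟩⟩
        by_cases hn : z ∈ orbitOf q M x
        · exact h.pow_eq_one_orbit (pw s (dvd_mul_right _ _)) hn
        · exact pw (one_sq z hz (hout z hz hn).1) d23'
    push Not at h3
    have ha2 : ∀ x ∈ M, a x ≤ 2 := fun x hx => by
      have := hal x hx; have := h4 x hx; have := h3 x hx; omega
    by_cases hsf : ∀ x ∈ M, M.count x ≤ 1
    · exact ⟨0, q ^ 4 - 1, by simp [sp8List], by norm_num; omega,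
        fun y hy => ⟨by simpa using hsf y hy, two_four y hy (ha2 y hy)⟩⟩
    push Not at hsf
    obtain ⟨y, hy, hy2⟩ := hsf
    by_cases h2 : ∃ x ∈ M, a x = 2
    · obtain ⟨x, hx, e⟩ := h2
      have hxcases : M.count x = 1 ∨ M.count x = 2 := by
        have := (h1 x hx).2.2; have := (h1 x hx).2.1; rw [e] at *; omega
      rcases hxcases with e1 | e1
      · have hn : y ∉ orbitOf q M x := fun hin => by rw [h.count_orbit hin, e1] at hy2; omega
        have hey : a y = 1 ∧ M.count y = 2 := by
          have hxy := two x hx y hy hn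
          rw [e, e1] at hxy
          rcases (by have := ha2 y hy; have := (h1 y hy).1; omega : a y = 1 ∨ a y = 2) with l | l <;>
            rw [l] at hxy ⊢ <;> omega
        have hor : ∀ z ∈ M, z ∈ orbitOf q M x ∨ z ∈ orbitOf q M y := fun z hz => by
          by_contra hcon
          push Not at hcon
          have := three x hx y hy hn z hz hcon.1 hcon.2
          rw [e, e1, hey.1, hey.2] at this
          have := Nat.mul_pos (h1 z hz).1 (h1 z hz).2.1
          omega
        have e2 : ∀ z ∈ M, M.count z ≤ 2 ^ 1 := fun z hz => by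
          rcases hor z hz with l | l <;> rw [h.count_orbit l] <;> omega
        have hall : ∀ m, x ^ m = 1 → y ^ m = 1 → ∀ z ∈ M, z ^ m = 1 := fun m hm hm' z hz =>
          (hor z hz).elim (h.pow_eq_one_orbit hm) (h.pow_eq_one_orbit hm')
        rcases hsign x hx with s | s <;> rw [e] at s
        · rcases hsign y hy with t | t <;> rw [hey.1, pow_one] at t
          · exact ⟨1, (q ^ 2 + 1) * (q + 1), by simp [sp8List], by norm_num; omega, fun z hz => ⟨e2 z hz,
              hall _ (pw s (dvd_mul_right _ _)) (pw t (dvd_mul_left _ _)) z hz⟩⟩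
          · exact ⟨1, (q ^ 2 + 1) * (q - 1), by simp [sp8List], by norm_num; omega, fun z hz => ⟨e2 z hz,
              hall _ (pw s (dvd_mul_right _ _)) (pw t (dvd_mul_left _ _)) z hz⟩⟩
        · exact ⟨2, q ^ 2 - 1, by simp [sp8List], by norm_num; omega, fun z hz =>
            ⟨by have := e2 z hz; norm_num at this ⊢; omega, hall _ s (one_sq y hy hey.1) z hz⟩⟩
      · have ef : a x * M.count x = w := by rw [e, e1]; omega
        have e2 : ∀ z ∈ M, M.count z ≤ 2 ^ 1 := fun z hz => by
          rw [(fullm x hx ef 0 (pow_zero x) z hz).1, e1]; norm_num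
        rcases hsign x hx with s | s <;> rw [e] at s
        · exact ⟨1, (q ^ 2 + 1) * (q + 1), by simp [sp8List], by norm_num; omega,
            fun z hz => ⟨e2 z hz, (fullm x hx ef _ (pw s (dvd_mul_right _ _)) z hz).2⟩⟩
        · exact ⟨2, q ^ 2 - 1, by simp [sp8List], by norm_num; omega,
            fun z hz => ⟨by have := e2 z hz; norm_num at this ⊢; omega, (fullm x hx ef _ s z hz).2⟩⟩
    · push Not at h2
      exact small (fun x hx => by have := ha2 x hx; have := h2 x hx; omega) (by omega)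

end Cases

theorem zero_notMem_sp8List {q : ℕ} (hq : 1 < q) : 0 ∉ sp8List q := by
  have h3 : 1 < q ^ 3 := Nat.one_lt_pow (by norm_num) hq
  have h4 : 1 < q ^ 4 := Nat.one_lt_pow (by norm_num) hq
  have h2 : 1 < q ^ 2 := Nat.one_lt_pow (by norm_num) hq
  simp [sp8List]
  omega

section Main

variable {F : Type*} [Field F] {V : Type*} [AddCommGroup V] [Module F V] [FiniteDimensional F V]

/-- If the fixed space is not a line, one may lower the exponent of `X - 1` in the characteristic polynomial. -/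
theorem aeval_lower (f : Module.End F V) (R : F[X]) (hR : (X - 1) ^ f.charpoly.rootMultiplicity 1 * R = f.charpoly)
    (hr : 1 ≤ f.charpoly.rootMultiplicity 1) (hk : Module.finrank F (LinearMap.ker (f - 1)) ≠ 1) :
    aeval f ((X - 1) ^ (f.charpoly.rootMultiplicity 1 - 1) * R) = 0 := by
  set r := f.charpoly.rootMultiplicity 1 with hrdef
  set N : Module.End F V := f - 1 with hN
  have hker : ∀ k, Module.finrank F (LinearMap.ker (N ^ k)) ≤ r := by
    intro k
    have h1 : LinearMap.ker (N ^ k) = f.genEigenspace (1 : F) k := by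
      rw [Module.End.genEigenspace_nat, one_smul]
    rw [h1]
    exact LinearMap.finrank_genEigenspace_le f 1 k
  have hpos : 1 ≤ Module.finrank F (LinearMap.ker N) := by
    refine Nat.one_le_iff_ne_zero.2 fun e => ?_
    have hinj := LinearMap.ker_eq_bot.1 (Submodule.finrank_eq_zero.1 e)
    have h0 : f.charpoly.IsRoot 1 := (rootMultiplicity_pos'.1 (by omega : 0 < r)).2
    have h1 : f.HasEigenvalue 1 := (Module.End.hasEigenvalue_iff_isRoot_charpoly f 1).2 h0
    obtain ⟨v, hv⟩ := h1.exists_hasEigenvector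
    refine hv.2 (hinj ?_)
    rw [map_zero, hN, LinearMap.sub_apply, hv.apply_eq_smul, one_smul, Module.End.one_apply, sub_self]
  have hstab : LinearMap.ker (N ^ (r - 1)) = LinearMap.ker (N ^ r) := by
    by_contra hne
    have hlt : ∀ i < r, LinearMap.ker (N ^ i) < LinearMap.ker (N ^ (i + 1)) := by
      intro i hi
      refine lt_of_le_of_ne (fun v hv => ?_) fun e => hne ?_
      · rw [LinearMap.mem_ker] at hv ⊢
        rw [pow_succ', Module.End.mul_apply, hv, map_zero]
      · have h1 := Module.End.ker_pow_constant e (r - 1 - i)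
        have h2 := Module.End.ker_pow_constant e (r - i)
        rw [Nat.add_sub_cancel' (by omega)] at h1 h2
        exact h1.symm.trans h2
    have hgrow : ∀ i, i < r → i + 2 ≤ Module.finrank F (LinearMap.ker (N ^ (i + 1))) := by
      intro i
      induction i with
      | zero =>
        intro _
        rw [zero_add, pow_one]
        omega
      | succ i ih =>
        intro hi
        have := Submodule.finrank_lt_finrank_of_lt (hlt (i + 1) hi)
        have := ih (by omega)
        omega
    have := hgrow (r - 1) (by omega)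
    rw [Nat.sub_add_cancel hr] at this
    have := hker r
    omega
  have hCH : aeval f ((X - 1) ^ r * R) = 0 := by rw [hR]; exact LinearMap.aeval_self_charpoly f
  refine LinearMap.ext fun v => ?_
  rw [map_mul, map_pow, map_sub, aeval_X, map_one, Module.End.mul_apply, LinearMap.zero_apply]
  rw [map_mul, map_pow, map_sub, aeval_X, map_one] at hCH
  have : aeval f R v ∈ LinearMap.ker (N ^ r) := by
    rw [LinearMap.mem_ker, ← Module.End.mul_apply, hCH, LinearMap.zero_apply]
  rwa [← hstab, LinearMap.mem_ker] at this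

theorem geom_sum_eq_pow (k m : ℕ) [CharP F 2] :
    (∑ i ∈ Finset.range (2 ^ k * m), (X : F[X]) ^ i) =
      (X - 1) ^ (2 ^ k - 1) * (∑ i ∈ Finset.range m, (X : F[X]) ^ i) ^ 2 ^ k := by
  haveI : Fact (Nat.Prime 2) := ⟨Nat.prime_two⟩
  refine mul_right_cancel₀ (X_sub_C_ne_zero (1 : F)) ?_
  rw [C_1, geom_sum_mul, mul_comm (2 ^ k) m, pow_mul]
  calc ((X : F[X]) ^ m) ^ 2 ^ k - 1 = (X ^ m - 1) ^ 2 ^ k := by rw [sub_pow_char_pow, one_pow]
    _ = ((∑ i ∈ Finset.range m, X ^ i) * (X - 1)) ^ 2 ^ k := by rw [geom_sum_mul]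
    _ = _ := by
      obtain ⟨c, hc⟩ : ∃ c, 2 ^ k = c + 1 := ⟨2 ^ k - 1, (Nat.sub_add_cancel Nat.one_le_two_pow).symm⟩
      rw [mul_pow, hc, Nat.add_sub_cancel]
      ring

/-- Element orders of 8-dimensional symplectic isometries. -/
theorem sp8_bound [Finite F] [CharP F 2] (hV : Module.finrank F V = 8) (f : Module.End F V)
    (hrev : f.charpoly.reverse = f.charpoly) :
    ∃ N ∈ sp8List (Nat.card F), f ^ N = 1 ∧
      (Module.finrank F (LinearMap.ker (f - 1)) ≠ 1 → ∑ i ∈ Finset.range N, f ^ i = 0) := by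
  classical
  haveI : Fact (Nat.Prime 2) := ⟨Nat.prime_two⟩
  letI := Fintype.ofFinite F
  set p := f.charpoly with hp
  set r := p.rootMultiplicity 1 with hr
  set R : F[X] := p /ₘ (X - C 1) ^ r with hRdef
  have hpm : p.Monic := LinearMap.charpoly_monic f
  have hR : (X - 1) ^ r * R = p := by
    have := pow_mul_divByMonic_rootMultiplicity_eq p (1 : F)
    rwa [C_1] at this
  have hdeg : R.natDegree + r = 8 := by
    have h1 := congrArg natDegree hR
    have hR0 : R ≠ 0 := fun e => hpm.ne_zero (by rw [← hR, e, mul_zero])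
    rw [← C_1, natDegree_mul (pow_ne_zero _ (X_sub_C_ne_zero _)) hR0, natDegree_pow, natDegree_X_sub_C,
      mul_one, hp, LinearMap.charpoly_natDegree, hV] at h1
    omega
  have hR1 : R.eval 1 ≠ 0 := eval_divByMonic_pow_rootMultiplicity_ne_zero 1 hpm.ne_zero
  have hp0 : p.eval 0 ≠ 0 := by
    rw [← coeff_zero_eq_eval_zero, ← hrev, coeff_zero_reverse, hpm.leadingCoeff]
    exact one_ne_zero
  have hR0 : R.eval 0 ≠ 0 := fun e => hp0 (by rw [← hR, eval_mul, e, mul_zero])
  have hRrev : R.reverse = R := by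
    have h1' : ∀ s : ℕ, ((X - 1 : F[X]) ^ s).reverse = (X - 1) ^ s := by
      have e : (X - 1 : F[X]).reverse = X - 1 := by
        rw [← C_1, reverse, natDegree_X_sub_C, reflect_sub, reflect_C, ← pow_one (X : F[X]), reflect_monomial,
          revAt_le le_rfl, Nat.sub_self, pow_zero, C_1, one_mul, pow_one]
        rw [sub_eq_add_neg, sub_eq_add_neg, CharTwo.neg_eq, CharTwo.neg_eq, add_comm]
      intro s
      induction s with
      | zero => rw [pow_zero, ← C_1, reverse_C]
      | succ s ih => rw [pow_succ, reverse_mul_of_domain, ih, e]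
    have h1 := h1' r
    have h2 : (X - 1) ^ r * R.reverse = (X - 1) ^ r * R := by
      rw [← h1, ← reverse_mul_of_domain, hR, hrev, h1, hR]
    exact mul_left_cancel₀ (pow_ne_zero _ (by rw [← C_1]; exact X_sub_C_ne_zero _)) h2
  -- the roots
  set L := AlgebraicClosure F
  set RL : L[X] := R.map (algebraMap F L) with hRL
  have hspl : RL.Splits := IsAlgClosed.splits RL
  set M := RL.roots
  set q := Nat.card F with hq
  obtain ⟨n, -, hn⟩ := FiniteField.card F 2
  have hq2 : q = 2 ^ (n : ℕ) := by rw [hq, Nat.card_eq_fintype_card, hn]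
  haveI : CharP L 2 := charP_of_injective_algebraMap (algebraMap F L).injective 2
  let φ : L →+* L := iterateFrobenius L 2 n
  have hφ : ∀ x : L, φ x = x ^ q := fun x => by rw [hq2]; exact iterateFrobenius_def _ _ x
  have hinj : Function.Injective fun x : L => x ^ q := fun a b e => φ.injective (by rw [hφ, hφ]; exact e)
  have hz : (0 : L) ∉ M := fun e => hR0 (by
    have := (isRoot_of_mem_roots e).eq_zero
    rw [hRL, ← map_zero (algebraMap F L), eval_map, eval₂_at_apply] at this
    exact (algebraMap F L).injective (by simpa using this))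
  have h1 : (1 : L) ∉ M := fun e => hR1 (by
    have := (isRoot_of_mem_roots e).eq_zero
    rw [hRL, ← map_one (algebraMap F L), eval_map, eval₂_at_apply] at this
    exact (algebraMap F L).injective (by simpa using this))
  have hRLr : RL.reverse = RL := by
    rw [hRL, reverse, natDegree_map, reflect_map, ← reverse, hRrev]
  have data : RootData q M := by
    refine ⟨hz, h1, fun x => ?_, fun x => ?_, hinj, CharTwo.two_eq_zero⟩
    · rw [count_roots, count_roots, ← hφ]
      have e : RL.map φ = RL := by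
        rw [hRL, map_map]
        congr 1
        refine RingHom.ext fun a => ?_
        rw [RingHom.comp_apply, hφ, ← map_pow, hq, Nat.card_eq_fintype_card, FiniteField.pow_card]
      conv_lhs => rw [← e]
      exact (eq_rootMultiplicity_map φ.injective x).symm
    · have e := roots_reverse_of_splits hspl (fun e => hz ((mem_roots (by
        intro e'; exact hR0 (by rw [(Polynomial.map_eq_zero (algebraMap F L)).1 e', eval_zero]))).2 e))
      rw [hRLr] at e
      conv_lhs => rw [show M = M.map fun a => a⁻¹ from e]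
      exact Multiset.count_map_eq_count' _ _ inv_injective x
  have hcard : Multiset.card M + r = 8 := by
    rw [← hdeg, ← natDegree_map (algebraMap F L), hspl.natDegree_eq_card_roots]
  obtain ⟨k, m, hN, hrk, hroots⟩ := data.exists_exponent hcard
  -- divisibility
  set G : F[X] := ∑ i ∈ Finset.range m, X ^ i with hG
  have hdiv : R ∣ G ^ 2 ^ k := by
    have hmon : R.Monic := Monic.of_mul_monic_left (by rw [← C_1]; exact (monic_X_sub_C 1).pow r) (hR.symm ▸ hpm)
    rw [← Polynomial.map_dvd_map (algebraMap F L) (algebraMap F L).injective hmon, ← hRL,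
      hspl.eq_prod_roots_of_monic (hmon.map _)]
    refine (Multiset.prod_dvd_prod_of_le (Multiset.map_le_map (t := ((G ^ 2 ^ k).map (algebraMap F L)).roots) ?_)).trans
      (prod_multiset_X_sub_C_dvd _)
    · refine Multiset.le_iff_count.2 fun x => ?_
      by_cases hx : x ∈ M
      · obtain ⟨hc, hm⟩ := hroots x hx
        rw [Polynomial.map_pow, roots_pow, Multiset.count_nsmul]
        refine hc.trans (Nat.le_mul_of_pos_right _ (Multiset.count_pos.2 ?_))
        have hx1 : x - 1 ≠ 0 := sub_ne_zero.2 fun e => h1 (e ▸ hx)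
        have hm0 : m ≠ 0 := by
          rintro rfl
          rw [mul_zero] at hN
          exact zero_notMem_sp8List (by rw [hq, Nat.card_eq_fintype_card]; exact Fintype.one_lt_card) hN
        rw [mem_roots]
        · rw [IsRoot, hG, Polynomial.map_sum, eval_finset_sum]
          simp only [Polynomial.map_pow, map_X, eval_pow, eval_X]
          exact (mul_eq_zero.1 (by rw [geom_sum_mul, hm, sub_self])).resolve_right hx1
        · refine Polynomial.map_ne_zero fun e => ?_
          have := congrArg (fun P => coeff P 0) e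
          rw [hG] at this
          simp [finset_sum_coeff, coeff_X_pow, Finset.sum_ite_eq', Nat.pos_of_ne_zero hm0] at this
      · rw [Multiset.count_eq_zero_of_notMem hx]; exact Nat.zero_le _
  have hΦ := geom_sum_eq_pow (F := F) k m
  rw [← hG] at hΦ
  have hfull : p ∣ (X : F[X]) ^ (2 ^ k * m) - 1 := by
    rw [← geom_sum_mul, hΦ, ← hR, mul_right_comm, ← pow_succ, Nat.sub_add_cancel Nat.one_le_two_pow]
    exact mul_dvd_mul (pow_dvd_pow _ hrk) hdiv
  refine ⟨2 ^ k * m, hN, ?_, fun hker => ?_⟩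
  · obtain ⟨c, hc⟩ := hfull
    have := congrArg (aeval f) hc
    rw [map_mul, hp, LinearMap.aeval_self_charpoly, zero_mul, map_sub, map_pow, aeval_X, map_one] at this
    exact sub_eq_zero.1 this
  · have hlow : ∃ s, s ≤ 2 ^ k - 1 ∧ aeval f ((X - 1) ^ s * R) = 0 := by
      rcases Nat.eq_zero_or_pos r with h | h
      · exact ⟨0, Nat.zero_le _, by rw [← h, hR, hp, LinearMap.aeval_self_charpoly]⟩
      · exact ⟨r - 1, by omega, aeval_lower f R hR h hker⟩
    obtain ⟨s, hs, hs0⟩ := hlow
    obtain ⟨c, hc⟩ : (X - 1) ^ s * R ∣ (X - 1) ^ (2 ^ k - 1) * G ^ 2 ^ k :=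
      mul_dvd_mul (pow_dvd_pow _ hs) hdiv
    have := congrArg (aeval f) (hΦ.trans hc)
    rw [map_mul, hs0, zero_mul, map_sum] at this
    simpa using this

end Main

end H64
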