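import Cfsg.Agent.H64.ThetaPieces

/-!
Unipotent pieces in dimensions 2, 4 and 6 in characteristic two.
-/

set_option autoImplicit false

namespace H64

open H43
open H48.QuadEven (theta theta_add theta_sq exists_theta_neg)

variable {F : Type*} [Field F] [Fintype F] [DecidableEq F] [CharP F 2]

theorem theta_sq_arg (x : F) : theta (x * x) = theta x := by
  have h : theta (x * x + x) = 1 := if_pos ⟨x, rfl⟩
  rw [theta_add] at h
  calc theta (x * x) = theta (x * x) * (theta x * theta x) := by rw [theta_sq, mul_one]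
    _ = theta x := by rw [← mul_assoc, h, one_mul]

theorem theta_cases (x : F) : theta x = 1 ∨ theta x = -1 := by
  unfold theta; split_ifs <;> simp

theorem sum_theta_mul (c : F) :
    ∑ x : F, theta (x * c) = if c = 0 then (Fintype.card F : ℤ) else 0 := by
  classical
  have h := sum_theta_linear (F := F) ((LinearMap.mul F F).flip c)
  simp only [LinearMap.flip_apply, LinearMap.mul_apply'] at h
  rw [h]
  by_cases hc : c = 0
  · rw [if_pos hc, if_pos (by rw [hc]; simp)]
  · rw [if_neg hc, if_neg fun e => hc (by simpa using DFunLike.congr_fun e 1)]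

/-- The key sum in two variables. -/
theorem sum_theta_pair (c : F) :
    ∑ x : F, ∑ y : F, theta (c * (x + y) + x * y) = (Fintype.card F : ℤ) * theta c := by
  have e : ∀ x : F, ∑ y : F, theta (c * (x + y) + x * y) = theta (c * x) * ∑ y : F, theta (y * (c + x)) := by
    intro x
    rw [Finset.mul_sum]
    refine Finset.sum_congr rfl fun y _ => ?_
    rw [← theta_add]; congr 1; ring
  simp only [e, sum_theta_mul, mul_ite, mul_zero]
  rw [Finset.sum_eq_single c]
  · rw [if_pos (CharTwo.add_self_eq_zero c), theta_sq_arg, mul_comm]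
  · intro x _ hx
    rw [if_neg]
    intro h
    exact hx (by rw [eq_neg_of_add_eq_zero_right h, CharTwo.neg_eq])
  · simp

theorem uni_one {n o : ℕ} {ε : ℤ} (hn : 0 < n) (h : Tor F n ε o) : Uni F n ε 1 1 := by
  obtain ⟨ι, i1, i2, Q, g, h1, h2, h3, -⟩ := h
  refine ⟨ι, i1, i2, Q, 1, h1, h2, h3, orderOf_one, dickson_one, ?_⟩
  haveI : Nonempty ι := Fintype.card_pos_iff.1 (by omega)
  refine ⟨fun _ => 1, ?_⟩
  rw [orderOf_one, Finset.sum_range_one, pow_zero, orth_one_apply]
  exact fun e => one_ne_zero (congrFun e (Classical.arbitrary ι))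

theorem uni_two {o : ℕ} {ε : ℤ} (h : Tor F 1 ε o) : Uni F 1 ε 2 (Multiplicative.ofAdd 1) := by
  obtain ⟨ι, i1, i2, Q, g, h1, h2, h3, -⟩ := h
  haveI : Nonempty ι := Fintype.card_pos_iff.1 (by omega)
  obtain ⟨v, hv⟩ : ∃ v, Q v ≠ 0 := by
    by_contra hcon
    push Not at hcon
    have h0 : (fun _ : ι => (1 : F)) = 0 := h1.1 _ fun y => by
      rw [polB_apply, QuadraticMap.polar, hcon, hcon, hcon, sub_zero, sub_zero]
    exact one_ne_zero (congrFun h0 (Classical.arbitrary ι))
  have hv0 : v ≠ 0 := fun e => hv (by rw [e, map_zero])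
  haveI : Fact (Nat.Prime 2) := ⟨Nat.prime_two⟩
  obtain ⟨w, hw⟩ := exists_polB_ne_zero h1 hv0
  have hne : (refl Q v : orthGroup Q) ≠ 1 := fun e => by
    have := dickson_refl h1 hv
    rw [e, dickson_one] at this
    exact absurd this (by decide)
  have ho : orderOf (refl Q v : orthGroup Q) = 2 := orderOf_eq_prime (by rw [pow_two, refl_sq]) hne
  refine ⟨ι, i1, i2, Q, refl Q v, h1, h2, h3, ho, dickson_refl h1 hv, w, ?_⟩
  rw [ho, Finset.sum_range_succ, Finset.sum_range_one, pow_zero, pow_one, orth_one_apply, refl_apply]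
  intro e
  have h2w : w + w = 0 := by rw [← two_smul F, CharTwo.two_eq_zero, zero_smul]
  have hk : ((Q v)⁻¹ * polB Q w v) • v = 0 := by
    calc ((Q v)⁻¹ * polB Q w v) • v = (w + w) - (w + (w - ((Q v)⁻¹ * polB Q w v) • v)) := by abel
      _ = 0 := by rw [e, h2w, sub_zero]
  rw [polB_comm] at hk
  exact (smul_ne_zero (mul_ne_zero (inv_ne_zero hv) hw) hv0) hk

/-! ### Dimension four -/

/-- A coordinate. -/
abbrev coordMap {n : ℕ} (i : Fin n) : (Fin n → F) →ₗ[F] F := LinearMap.proj i

/-- A circulant form of dimension four. -/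
noncomputable def circFour (β : F) : QuadraticForm F (Fin 4 → F) :=
  β • QuadraticMap.linMulLin (coordMap 0 + coordMap 2) (coordMap 1 + coordMap 3) +
    QuadraticMap.proj 0 2 + QuadraticMap.proj 1 3

omit [Fintype F] [DecidableEq F] [CharP F 2] in
theorem circFour_apply (β : F) (x : Fin 4 → F) :
    circFour β x = β * ((x 0 + x 2) * (x 1 + x 3)) + x 0 * x 2 + x 1 * x 3 := by
  simp [circFour, coordMap]
  ring

omit [Fintype F] [DecidableEq F] [CharP F 2] in
theorem circFour_polB (β : F) (x y : Fin 4 → F) :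
    polB (circFour β) x y = β * ((x 0 + x 2) * (y 1 + y 3) + (y 0 + y 2) * (x 1 + x 3)) +
      (x 0 * y 2 + y 0 * x 2) + (x 1 * y 3 + y 1 * x 3) := by
  rw [polB_apply, QuadraticMap.polar, circFour_apply, circFour_apply, circFour_apply]
  simp only [Pi.add_apply]
  ring

theorem circFour_nondeg (β : F) : (polB (circFour β)).Nondegenerate := nondeg_left _ fun u h => by
  have e0 := h (Pi.single 0 1)
  have e1 := h (Pi.single 1 1)
  have e2 := h (Pi.single 2 1)
  have e3 := h (Pi.single 3 1)
  simp [circFour_polB] at e0 e1 e2 e3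
  funext i
  fin_cases i <;> simp <;> grind

/-- The cyclic shift. -/
def shiftFour : (Fin 4 → F) →ₗ[F] (Fin 4 → F) where
  toFun x := ![x 1, x 2, x 3, x 0]
  map_add' x y := by ext i; fin_cases i <;> simp
  map_smul' c x := by ext i; fin_cases i <;> simp

theorem circFour_gsum (β : F) : gsum (circFour β) = theta β * (Fintype.card F : ℤ) ^ 2 := by
  let e : ((F × F) × (F × F)) ≃ (Fin 4 → F) :=
    { toFun := fun p => ![p.1.1, p.2.1, p.1.2, p.2.2]
      invFun := fun x => ((x 0, x 2), (x 1, x 3))
      left_inv := fun p => by simp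
      right_inv := fun x => by ext i; fin_cases i <;> simp }
  rw [gsum, ← e.sum_comp, Fintype.sum_prod_type, Finset.sum_comm]
  have step : ∀ y : F × F, ∑ x : F × F, theta (circFour β (e (x, y))) =
      (Fintype.card F : ℤ) * (theta (β * (y.1 + y.2)) * theta (y.1 * y.2)) := by
    intro y
    rw [← mul_assoc, ← sum_theta_pair (β * (y.1 + y.2)), Finset.sum_mul, Fintype.sum_prod_type]
    refine Finset.sum_congr rfl fun a _ => ?_
    rw [Finset.sum_mul]
    refine Finset.sum_congr rfl fun b _ => ?_
    rw [← theta_add, circFour_apply]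
    congr 1
    simp [e]
    ring
  rw [Finset.sum_congr rfl fun y _ => step y, ← Finset.mul_sum, Fintype.sum_prod_type]
  simp only [← theta_add]
  rw [sum_theta_pair]
  ring

omit [Fintype F] [DecidableEq F] in
theorem circFour_shift (β : F) (x : Fin 4 → F) : circFour β (shiftFour x) = circFour β x := by
  rw [circFour_apply, circFour_apply]
  simp [shiftFour]
  ring

theorem uni_four (β : F) : Uni F 2 (theta β) 4 (Multiplicative.ofAdd 1) := by
  haveI : Fact (Nat.Prime 2) := ⟨Nat.prime_two⟩
  let g := ofIsometry (circFour_nondeg β) shiftFour (circFour_shift β)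
  have hg : ∀ x, g.1 x = ![x 1, x 2, x 3, x 0] := fun x => rfl
  have hg2 : ∀ x, (g ^ 2).1 x = ![x 2, x 3, x 0, x 1] := fun x => by
    rw [pow_two, orth_mul_apply, hg, hg]; rfl
  have ho : orderOf g = 4 := by
    refine orderOf_eq_prime_pow (p := 2) (n := 1) (fun e => ?_) (orth_ext fun x => ?_)
    · rw [pow_one] at e
      have := hg2 (Pi.single 0 1)
      rw [e, orth_one_apply] at this
      simpa using congrFun this 0
    · rw [show 2 ^ (1 + 1) = 2 + 2 from rfl, pow_add, orth_mul_apply, hg2, hg2, orth_one_apply]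
      ext i; fin_cases i <;> simp
  refine ⟨Fin 4, inferInstance, inferInstance, circFour β, g, circFour_nondeg β, rfl, circFour_gsum β, ho,
    ?_, Pi.single 0 1, ?_⟩
  · have hker : LinearMap.ker (resMap g) = F ∙ (fun _ : Fin 4 => (1 : F)) := by
      ext x
      rw [Submodule.mem_span_singleton, LinearMap.mem_ker, resMap_apply, hg, sub_eq_zero]
      constructor
      · intro h
        refine ⟨x 0, funext fun i => ?_⟩
        have a0 := congrFun h 0
        have a1 := congrFun h 1
        have a2 := congrFun h 2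
        simp at a0 a1 a2
        fin_cases i <;> simp <;> grind
      · rintro ⟨c, rfl⟩
        ext i; fin_cases i <;> simp
    have hk1 : Module.finrank F (LinearMap.ker (resMap g)) = 1 := by
      rw [hker]
      exact finrank_span_singleton fun e => one_ne_zero (congrFun e 0)
    have h4 := LinearMap.finrank_range_add_finrank_ker (resMap g)
    rw [hk1, Module.finrank_pi, Fintype.card_fin] at h4
    rw [dickson, resid, show Module.finrank F (LinearMap.range (resMap g)) = 3 by omega]
    rfl
  · rw [ho]
    have hg3 : ∀ x, (g ^ 3).1 x = ![x 3, x 0, x 1, x 2] := fun x => by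
      rw [pow_succ, orth_mul_apply, hg2, hg]; rfl
    simp only [Finset.sum_range_succ, Finset.sum_range_zero, zero_add, pow_zero, pow_one, orth_one_apply,
      hg, hg2, hg3]
    intro e
    simpa [Matrix.vecHead] using congrFun e 0

/-! ### Dimension six -/

/-- The sum of the coordinates. -/
def sumSix (x : Fin 6 → F) : F := x 0 + x 1 + x 2 + x 3 + x 4 + x 5

/-- A form of dimension six invariant under an element of order eight. -/
noncomputable def circSix (s : F) : QuadraticForm F (Fin 6 → F) :=
  QuadraticMap.proj 0 3 + QuadraticMap.proj 1 4 + QuadraticMap.proj 2 5 +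
    s • (QuadraticMap.proj 0 1 + QuadraticMap.proj 1 2 + QuadraticMap.proj 3 4 + QuadraticMap.proj 4 5 +
      QuadraticMap.linMulLin (coordMap 2 + coordMap 3)
        (coordMap 0 + coordMap 1 + coordMap 2 + coordMap 3 + coordMap 4 +
          coordMap 5))

omit [Fintype F] [DecidableEq F] [CharP F 2] in
theorem circSix_apply (s : F) (x : Fin 6 → F) :
    circSix s x = x 0 * x 3 + x 1 * x 4 + x 2 * x 5 +
      s * (x 0 * x 1 + x 1 * x 2 + x 3 * x 4 + x 4 * x 5 + (x 2 + x 3) * sumSix x) := by
  simp [circSix, sumSix, coordMap]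
  ring

omit [Fintype F] [DecidableEq F] [CharP F 2] in
theorem circSix_polB (s : F) (x y : Fin 6 → F) :
    polB (circSix s) x y = (x 0 * y 3 + y 0 * x 3) + (x 1 * y 4 + y 1 * x 4) + (x 2 * y 5 + y 2 * x 5) +
      s * ((x 0 * y 1 + y 0 * x 1) + (x 1 * y 2 + y 1 * x 2) + (x 3 * y 4 + y 3 * x 4) +
        (x 4 * y 5 + y 4 * x 5) + ((x 2 + x 3) * sumSix y + (y 2 + y 3) * sumSix x)) := by
  rw [polB_apply, QuadraticMap.polar, circSix_apply, circSix_apply, circSix_apply]
  simp only [sumSix, Pi.add_apply]
  ring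

theorem circSix_nondeg (s : F) : (polB (circSix s)).Nondegenerate := nondeg_left _ fun u h => by
  have e0 := h (Pi.single 0 1)
  have e1 := h (Pi.single 1 1)
  have e2 := h (Pi.single 2 1)
  have e3 := h (Pi.single 3 1)
  have e4 := h (Pi.single 4 1)
  have e5 := h (Pi.single 5 1)
  simp [circSix_polB, sumSix] at e0 e1 e2 e3 e4 e5
  have two : (2 : F) = 0 := CharTwo.two_eq_zero
  funext i
  fin_cases i <;> simp <;> grind

/-- The element of order eight. -/
def shiftSix : (Fin 6 → F) →ₗ[F] (Fin 6 → F) where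
  toFun x := ![x 1 + x 0, x 2 + x 0, x 1 + x 2 + x 3 + x 4 + x 5, x 4 + x 0, x 5 + x 0, x 0]
  map_add' x y := by ext i; fin_cases i <;> simp <;> ring
  map_smul' c x := by ext i; fin_cases i <;> simp <;> ring

theorem circSix_shift (s : F) (x : Fin 6 → F) : circSix s (shiftSix x) = circSix s x := by
  rw [circSix_apply, circSix_apply]
  simp [shiftSix, sumSix]
  have two : (2 : F) = 0 := CharTwo.two_eq_zero
  grind

theorem circSix_gsum (s : F) :
    gsum (circSix s) = (if s = 0 then 1 else theta s) * (Fintype.card F : ℤ) ^ 3 := by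
  let e : ((F × F) × (F × F)) × (F × F) ≃ (Fin 6 → F) :=
    { toFun := fun p => ![p.2.1, p.1.2.1, p.1.1.1, p.1.1.2, p.1.2.2, p.2.2]
      invFun := fun x => (((x 2, x 3), (x 1, x 4)), (x 0, x 5))
      left_inv := fun p => by simp
      right_inv := fun x => by ext i; fin_cases i <;> simp }
  have two : (2 : F) = 0 := CharTwo.two_eq_zero
  let R : F → F → F → F → F := fun c d b f => b * f + s * (c * c + d * d + (c * f + b * d))
  have inner : ∀ c d b f : F, ∑ z : F × F, theta (circSix s (e (((c, d), (b, f)), z))) =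
      (if (1 + s) * d + s * b + s * c = 0 ∧ (1 + s) * c + s * f + s * d = 0 then
        (Fintype.card F : ℤ) ^ 2 * theta (R c d b f) else 0) := by
    intro c d b f
    have h1 : ∀ a k : F, circSix s (e (((c, d), (b, f)), (a, k))) =
        R c d b f + (a * ((1 + s) * d + s * b + s * c) + k * ((1 + s) * c + s * f + s * d)) := by
      intro a k
      rw [circSix_apply]
      simp [e, R, sumSix]
      grind
    rw [Fintype.sum_prod_type]
    simp only [h1, theta_add, ← Finset.mul_sum, ← Finset.sum_mul, sum_theta_mul]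
    split_ifs with p q r <;> simp_all <;> ring
  rw [gsum, ← e.sum_comp, Fintype.sum_prod_type, Fintype.sum_prod_type, Fintype.sum_prod_type]
  have hin : ∀ c d : F, ∑ y : F × F, ∑ z : F × F, theta (circSix s (e (((c, d), y), z))) =
      ∑ b : F, ∑ f : F, (if (1 + s) * d + s * b + s * c = 0 ∧ (1 + s) * c + s * f + s * d = 0 then
        (Fintype.card F : ℤ) ^ 2 * theta (R c d b f) else 0) := by
    intro c d
    rw [Fintype.sum_prod_type]
    simp only [inner]
  simp only [hin]
  by_cases hs : s = 0
  · subst hs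
    have h2 : ∀ c d : F, (∑ b : F, ∑ f : F, (if (1 + 0) * d + 0 * b + 0 * c = 0 ∧
        (1 + 0) * c + 0 * f + 0 * d = 0 then (Fintype.card F : ℤ) ^ 2 * theta (R c d b f) else 0)) =
        if c = 0 then (if d = 0 then (Fintype.card F : ℤ) ^ 3 else 0) else 0 := by
      intro c d
      have hsum : ∑ b : F, ∑ f : F, theta (b * f) = (Fintype.card F : ℤ) := by
        have := sum_theta_pair (0 : F)
        simpa [theta_zero] using this
      simp only [add_zero, one_mul, zero_mul, R]
      by_cases hd : d = 0
      · by_cases hc : c = 0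
        · simp only [hd, hc, and_self, if_true, ← Finset.mul_sum, hsum]
          ring
        · simp [hd, hc]
      · simp [hd]
    simp only [h2]
    simp [Finset.sum_ite_eq']
  · have h2 : ∀ c d : F, (∑ b : F, ∑ f : F, (if (1 + s) * d + s * b + s * c = 0 ∧
        (1 + s) * c + s * f + s * d = 0 then (Fintype.card F : ℤ) ^ 2 * theta (R c d b f) else 0)) =
        (Fintype.card F : ℤ) ^ 2 * theta (((c * c + d * d) * s + c * d) / (s * s)) := by
      intro c d
      rw [Finset.sum_eq_single (((1 + s) * d + s * c) / s), Finset.sum_eq_single (((1 + s) * c + s * d) / s)]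
      · rw [if_pos ⟨by field_simp; grind, by field_simp; grind⟩]
        congr 2
        simp only [R]
        field_simp
        grind
      · intro f _ hf
        rw [if_neg]
        rintro ⟨-, h⟩
        exact hf (by field_simp; grind)
      · simp
      · intro b _ hb
        refine Finset.sum_eq_zero fun f _ => ?_
        rw [if_neg]
        rintro ⟨h, -⟩
        exact hb (by field_simp; grind)
      · simp
    simp only [h2, ← Finset.mul_sum]
    obtain ⟨r, hr⟩ := isSquare_of_two_eq_zero two s
    let m : F ≃ F := Equiv.mulLeft₀ s hs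
    have h3 : ∑ c : F, ∑ d : F, theta (((c * c + d * d) * s + c * d) / (s * s)) =
        ∑ y : F, ∑ z : F, theta (r * (y + z) + y * z) := by
      symm
      refine Fintype.sum_equiv m _ _ fun y => Fintype.sum_equiv m _ _ fun z => ?_
      have harg : ((m y * m y + m z * m z) * s + m y * m z) / (s * s) = (r * y) * (r * y) + (r * z) * (r * z) + y * z := by
        simp only [m, Equiv.mulLeft₀_apply]
        field_simp
        grind
      conv_rhs => rw [harg, theta_add, theta_add, theta_sq_arg, theta_sq_arg]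
      rw [← theta_add, ← theta_add, mul_add]
    have hth : theta r = theta s := by rw [hr, theta_sq_arg]
    rw [h3, sum_theta_pair, hth, if_neg hs]
    ring

theorem tor_eight (s : F) : Tor F 3 (if s = 0 then 1 else theta s) 8 := by
  haveI : Fact (Nat.Prime 2) := ⟨Nat.prime_two⟩
  have two : (2 : F) = 0 := CharTwo.two_eq_zero
  let g := ofIsometry (circSix_nondeg s) shiftSix (circSix_shift s)
  have hg : ∀ x, g.1 x = ![x 1 + x 0, x 2 + x 0, x 1 + x 2 + x 3 + x 4 + x 5, x 4 + x 0, x 5 + x 0, x 0] :=
    fun x => rfl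
  have hg2 : ∀ x, (g ^ 2).1 x = ![x 2 + x 1, sumSix x + x 1, x 3 + x 1, x 5 + x 1, x 1, x 0 + x 1] := fun x => by
    rw [pow_two, orth_mul_apply, hg, hg]
    ext i; fin_cases i <;> simp [sumSix] <;> grind
  have hg4 : ∀ x, (g ^ 4).1 x = ![x 3 + sumSix x, x 4 + sumSix x, x 5 + sumSix x, x 0 + sumSix x,
      x 1 + sumSix x, x 2 + sumSix x] := fun x => by
    rw [show (4 : ℕ) = 2 + 2 from rfl, pow_add, orth_mul_apply, hg2, hg2]
    ext i; fin_cases i <;> simp [sumSix] <;> grind
  have ho : orderOf g = 8 := by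
    refine orderOf_eq_prime_pow (p := 2) (n := 2) (fun e => ?_) (orth_ext fun x => ?_)
    · have := hg4 (Pi.single 0 1)
      rw [show (4 : ℕ) = 2 ^ 2 from rfl, e, orth_one_apply] at this
      simpa [sumSix] using congrFun this 1
    · rw [show 2 ^ (2 + 1) = 4 + 4 from rfl, pow_add, orth_mul_apply, hg4, hg4, orth_one_apply]
      ext i; fin_cases i <;> simp [sumSix] <;> grind
  exact ⟨Fin 6, inferInstance, inferInstance, circSix s, g, circSix_nondeg s, rfl, circSix_gsum s, ho⟩

theorem exists_uni_four {ε : ℤ} (hε : ε = 1 ∨ ε = -1) : Uni F 2 ε 4 (Multiplicative.ofAdd 1) := by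
  rcases hε with rfl | rfl
  · simpa [theta_zero] using uni_four (0 : F)
  · obtain ⟨x, hx⟩ := exists_theta_neg (F := F)
    simpa [hx] using uni_four x

theorem exists_tor_eight {ε : ℤ} (hε : ε = 1 ∨ ε = -1) : Tor F 3 ε 8 := by
  rcases hε with rfl | rfl
  · simpa using tor_eight (0 : F)
  · obtain ⟨x, hx⟩ := exists_theta_neg (F := F)
    have h0 : x ≠ 0 := fun e => by rw [e, theta_zero] at hx; omega
    simpa [hx, h0] using tor_eight x

end H64
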