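import Cfsg.Agent.H64.Sp8Bound
import Cfsg.Agent.H64.UniPieces
import Cfsg.Agent.H48.SemisimpleClasses
import Cfsg.Agent.H49.SpBlock

/-!
The spectrum of `Sp₈(q)` and of `GO⁻₈(q)`, `q` even.
-/

set_option autoImplicit false

namespace H64

open H43
open H48.QuadEven (theta theta_add theta_sq exists_theta_neg)

variable {F : Type*} [Field F] [Fintype F] [DecidableEq F]

/-- Divisors of members of the list. -/
def Adm (q o : ℕ) : Prop := ∃ N ∈ sp8List q, o ∣ N

omit [Fintype F] [DecidableEq F] in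
theorem coprime_of_two {a b : ℕ} (ha : Odd a) (h : Nat.gcd a b ∣ 2) : Nat.Coprime a b := by
  rcases (Nat.dvd_prime Nat.prime_two).1 h with e | e
  · exact e
  · exfalso
    have : 2 ∣ a := e ▸ Nat.gcd_dvd_left a b
    exact (Nat.not_even_iff_odd.2 ha) (even_iff_two_dvd.2 this)

theorem coprime_facts {q : ℕ} (hq : Even q) (h1 : 1 ≤ q) :
    Nat.Coprime (q ^ 2 + 1) (q ^ 2 - 1) ∧ Nat.Coprime (q ^ 3 + 1) (q - 1) ∧
      Nat.Coprime (q ^ 3 - 1) (q + 1) ∧ Nat.Coprime (q ^ 2 + 1) (q + 1) ∧ Nat.Coprime (q ^ 2 + 1) (q - 1) := by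
  obtain ⟨r, rfl⟩ : ∃ r, q = r + 1 := ⟨q - 1, by omega⟩
  have hodd : ∀ k, 0 < k → Odd ((r + 1) ^ k + 1) := fun k hk => ((Nat.even_pow.2 ⟨hq, hk.ne'⟩).add_one)
  have hodd' : Odd (r + 1 + 1) := hq.add_one
  refine ⟨?_, ?_, ?_, ?_, ?_⟩
  · refine coprime_of_two (hodd 2 (by norm_num)) ?_
    have a := Nat.gcd_dvd_left ((r + 1) ^ 2 + 1) ((r + 1) ^ 2 - 1)
    have b := Nat.gcd_dvd_right ((r + 1) ^ 2 + 1) ((r + 1) ^ 2 - 1)
    have := Nat.dvd_sub a b
    have e : (r + 1) ^ 2 + 1 - ((r + 1) ^ 2 - 1) = 2 := by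
      have : 1 ≤ (r + 1) ^ 2 := Nat.one_le_pow _ _ (by omega)
      omega
    rwa [e] at this
  · refine coprime_of_two (hodd 3 (by norm_num)) ?_
    have a := Nat.gcd_dvd_left ((r + 1) ^ 3 + 1) (r + 1 - 1)
    have b := Nat.gcd_dvd_right ((r + 1) ^ 3 + 1) (r + 1 - 1)
    rw [Nat.add_sub_cancel] at a b ⊢
    have e : (r + 1) ^ 3 + 1 = r * (r * r + 3 * r + 3) + 2 := by ring
    rw [e] at a b ⊢
    exact (Nat.dvd_add_right (b.mul_right _)).1 a
  · rw [Nat.coprime_comm]
    refine coprime_of_two hodd' ?_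
    have a := Nat.gcd_dvd_left (r + 1 + 1) ((r + 1) ^ 3 - 1)
    have b := Nat.gcd_dvd_right (r + 1 + 1) ((r + 1) ^ 3 - 1)
    have c : (r + 1) ^ 3 - 1 + 2 = (r + 1 + 1) * (r * r + r + 1) := by
      have : 1 ≤ (r + 1) ^ 3 := Nat.one_le_pow _ _ (by omega)
      rw [show (r + 1) ^ 3 - 1 + 2 = (r + 1) ^ 3 + 1 by omega]
      ring
    exact (Nat.dvd_add_right b).1 (c ▸ a.mul_right _)
  · refine coprime_of_two (hodd 2 (by norm_num)) ?_
    have a := Nat.gcd_dvd_left ((r + 1) ^ 2 + 1) (r + 1 + 1)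
    have b := Nat.gcd_dvd_right ((r + 1) ^ 2 + 1) (r + 1 + 1)
    have e : (r + 1) ^ 2 + 1 = (r + 1 + 1) * r + 2 := by ring
    rw [e] at a b ⊢
    exact (Nat.dvd_add_right (b.mul_right _)).1 a
  · refine coprime_of_two (hodd 2 (by norm_num)) ?_
    have a := Nat.gcd_dvd_left ((r + 1) ^ 2 + 1) (r + 1 - 1)
    have b := Nat.gcd_dvd_right ((r + 1) ^ 2 + 1) (r + 1 - 1)
    rw [Nat.add_sub_cancel] at a b ⊢
    have e : (r + 1) ^ 2 + 1 = r * (r + 2) + 2 := by ring
    rw [e] at a b ⊢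
    exact (Nat.dvd_add_right (b.mul_right _)).1 a

variable [CharP F 2]

theorem even_card_field : Even (Fintype.card F) := by
  haveI : Fact (Nat.Prime 2) := ⟨Nat.prime_two⟩
  obtain ⟨n, -, hn⟩ := FiniteField.card F 2
  rw [hn]
  exact Nat.even_pow.2 ⟨even_two, n.pos.ne'⟩

/-- An odd torus part times a unipotent part with trivial Dickson invariant, in dimension eight. -/
theorem tor_uni_eight {n m o k : ℕ} {ε δ : ℤ} (ht : Tor F n ε o) (ho : Odd o)
    (hu : Uni F m δ (2 ^ k) 1) (h4 : n + m = 4) (hs : ε * δ = -1) : Uni F 4 (-1) (o * 2 ^ k) 1 := by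
  obtain ⟨ι, i1, i2, Q, g, h1, h2, h3, rfl⟩ := ht
  obtain ⟨κ, j1, j2, R, u, k1, k2, k3, k4, k5, k6⟩ := hu
  have hnd := H44.sumForm_nondeg h1 k1
  have hcard : Fintype.card (ι ⊕ κ) = 8 := by rw [Fintype.card_sum, h2, k2]; omega
  have hcl := closure_reflSet hnd
    (H44.reflGenerates_of_card (F := F) (V := ι ⊕ κ → F) (Or.inr (by rw [Module.finrank_pi, hcard]; norm_num)))
  have hD := H44.dickson_mul_of_closure hnd hcl
  let D : orthGroup (H44.sumForm Q R) →* Multiplicative (ZMod 2) := MonoidHom.mk' dickson hD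
  have hcop : Nat.Coprime (orderOf g) (2 ^ k) := Nat.Coprime.pow_right _ (Nat.coprime_two_right.2 ho)
  have hl : Nat.lcm (orderOf g) (orderOf u) = orderOf g * 2 ^ k := by rw [k4, hcop.lcm_eq_mul]
  refine ⟨ι ⊕ κ, inferInstance, inferInstance, H44.sumForm Q R, H44.sumOrth g u, hnd, hcard, ?_, ?_, ?_,
    doub_right g k6 ho (by rw [hl, k4])⟩
  · rw [gsum_sumForm, h3, k3, ← h4, pow_add]
    linear_combination (Fintype.card F : ℤ) ^ n * (Fintype.card F : ℤ) ^ m * hs
  · rw [orderOf_sumOrth, hl]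
  · have hsplit : H44.sumOrth g u = H44.sumOrth g (1 : orthGroup R) * H44.sumOrth (1 : orthGroup Q) u := by
      rw [← H44.sumOrth_mul, mul_one, one_mul]
    have hg : D (H44.sumOrth g (1 : orthGroup R)) = 1 := by
      have h : D (H44.sumOrth g (1 : orthGroup R)) ^ orderOf g = 1 := by
        rw [← map_pow, sumOrth_pow, pow_orderOf_eq_one, one_pow, H44.sumOrth_one, map_one]
      rcases H44.mulTwo_cases (D (H44.sumOrth g (1 : orthGroup R))) with e | e
      · exact e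
      · obtain ⟨c, hc⟩ := ho
        rw [hc, pow_succ, pow_mul, pow_two, H44.mulTwo_mul_self, one_pow, one_mul] at h
        exact h
    show D (H44.sumOrth g u) = 1
    rw [hsplit, map_mul, hg, one_mul]
    show dickson (H44.sumOrth (1 : orthGroup Q) u) = 1
    rw [H44.sumOrth_dickson, dickson_one, k5, one_mul]

theorem tor_split_one : Tor F 1 1 (Fintype.card F - 1) := by simpa using tor_split (F := F) one_pos

theorem tor_nonsplit_one : Tor F 1 (-1) (Fintype.card F + 1) := by simpa using tor_nonsplit (F := F) one_pos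

theorem swap_pair {ε : ℤ} {o : ℕ} (h : Tor F 1 ε o) : Uni F 2 ε 2 1 := by
  have := (uni_two tor_split_one).add (uni_two h) dvd_rfl
  rwa [one_mul, show (Multiplicative.ofAdd (1 : ZMod 2) * Multiplicative.ofAdd 1) = 1 from by decide] at this

theorem four_two {ε : ℤ} (hε : ε = 1 ∨ ε = -1) : Uni F 3 ε 4 1 := by
  have := (exists_uni_four (F := F) hε).add (uni_two (tor_split_one (F := F))) (by norm_num : 2 ∣ 4)
  rwa [mul_one, show (Multiplicative.ofAdd (1 : ZMod 2) * Multiplicative.ofAdd 1) = 1 from by decide] at this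

/-- Elements for the semisimple members of the list. -/
theorem tor_semisimple :
    Tor F 4 (-1) (Fintype.card F ^ 4 + 1) ∧ Tor F 4 (-1) (Fintype.card F ^ 4 - 1) ∧
    Tor F 4 (-1) ((Fintype.card F ^ 3 + 1) * (Fintype.card F - 1)) ∧
    Tor F 4 (-1) ((Fintype.card F ^ 3 - 1) * (Fintype.card F + 1)) := by
  obtain ⟨c1, c2, c3, -, -⟩ := coprime_facts (even_card_field (F := F)) Fintype.card_pos
  refine ⟨tor_nonsplit (by norm_num), ?_, ?_, ?_⟩
  · have := (tor_nonsplit (F := F) two_pos).add (tor_split (F := F) two_pos)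
    rwa [c1.lcm_eq_mul, show (Fintype.card F ^ 2 + 1) * (Fintype.card F ^ 2 - 1) = Fintype.card F ^ 4 - 1 by
      rw [← Nat.sq_sub_sq, ← pow_mul, one_pow], mul_one] at this
  · have := (tor_nonsplit (F := F) three_pos).add (tor_split_one (F := F))
    rwa [c2.lcm_eq_mul, mul_one] at this
  · have := (tor_split (F := F) three_pos).add (tor_nonsplit_one (F := F))
    rwa [c3.lcm_eq_mul, one_mul] at this

/-- Elements of the rotation group whose order doubles, for the remaining members of the list. -/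
theorem uni_doubling :
    Uni F 4 (-1) (Fintype.card F ^ 3 + 1) 1 ∧ Uni F 4 (-1) (Fintype.card F ^ 3 - 1) 1 ∧
    Uni F 4 (-1) ((Fintype.card F ^ 2 + 1) * (Fintype.card F + 1)) 1 ∧
    Uni F 4 (-1) ((Fintype.card F ^ 2 + 1) * (Fintype.card F - 1)) 1 ∧
    Uni F 4 (-1) (2 * (Fintype.card F ^ 2 + 1)) 1 ∧ Uni F 4 (-1) (2 * (Fintype.card F ^ 2 - 1)) 1 ∧
    Uni F 4 (-1) (4 * (Fintype.card F + 1)) 1 ∧ Uni F 4 (-1) (4 * (Fintype.card F - 1)) 1 := by
  obtain ⟨-, -, -, c4, c5⟩ := coprime_facts (even_card_field (F := F)) Fintype.card_pos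
  have he := even_card_field (F := F)
  set q := Fintype.card F
  have hp : ∀ k, 0 < k → Odd (q ^ k + 1) := fun k hk => (Nat.even_pow.2 ⟨he, hk.ne'⟩).add_one
  have hm : ∀ k, 0 < k → Odd (q ^ k - 1) := fun k hk =>
    Nat.Even.sub_odd (Nat.one_le_pow _ _ Fintype.card_pos) (Nat.even_pow.2 ⟨he, hk.ne'⟩) odd_one
  have hp1 : Odd (q + 1) := he.add_one
  have hm1 : Odd (q - 1) := by simpa using hm 1 one_pos
  have p1 : Uni F 1 1 (2 ^ 0) 1 := uni_one one_pos (tor_split_one (F := F))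
  have m1 : Uni F 1 (-1) (2 ^ 0) 1 := uni_one one_pos (tor_nonsplit_one (F := F))
  have p2 : Uni F 2 1 (2 ^ 1) 1 := swap_pair (tor_split_one (F := F))
  have m2 : Uni F 2 (-1) (2 ^ 1) 1 := swap_pair (tor_nonsplit_one (F := F))
  have p3 : Uni F 3 1 (2 ^ 2) 1 := four_two (Or.inl rfl)
  have m3 : Uni F 3 (-1) (2 ^ 2) 1 := four_two (Or.inr rfl)
  refine ⟨?_, ?_, ?_, ?_, ?_, ?_, ?_, ?_⟩
  · simpa using tor_uni_eight (tor_nonsplit (F := F) three_pos) (hp 3 three_pos) p1 rfl rfl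
  · simpa using tor_uni_eight (tor_split (F := F) three_pos) (hm 3 three_pos) m1 rfl rfl
  · have := (tor_nonsplit (F := F) two_pos).add (tor_nonsplit_one (F := F))
    rw [c4.lcm_eq_mul] at this
    simpa using tor_uni_eight this ((hp 2 two_pos).mul hp1) m1 rfl rfl
  · have := (tor_nonsplit (F := F) two_pos).add (tor_split_one (F := F))
    rw [c5.lcm_eq_mul] at this
    simpa using tor_uni_eight this ((hp 2 two_pos).mul hm1) p1 rfl rfl
  · simpa [mul_comm] using tor_uni_eight (tor_nonsplit (F := F) two_pos) (hp 2 two_pos) p2 rfl rfl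
  · simpa [mul_comm] using tor_uni_eight (tor_split (F := F) two_pos) (hm 2 two_pos) m2 rfl rfl
  · simpa [mul_comm] using tor_uni_eight (tor_nonsplit_one (F := F)) hp1 p3 rfl rfl
  · simpa [mul_comm] using tor_uni_eight (tor_split_one (F := F)) hm1 m3 rfl rfl

/-- Every member of the list is an element order in dimension eight, minus type. -/
theorem tor_list {N : ℕ} (hN : N ∈ sp8List (Fintype.card F)) : Tor F 4 (-1) N := by
  obtain ⟨s1, s2, s3, s4⟩ := tor_semisimple (F := F)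
  obtain ⟨-, -, -, c4, c5⟩ := coprime_facts (even_card_field (F := F)) Fintype.card_pos
  have he := even_card_field (F := F)
  set q := Fintype.card F
  have hp : ∀ k, 0 < k → Odd (q ^ k + 1) := fun k hk => (Nat.even_pow.2 ⟨he, hk.ne'⟩).add_one
  have hm : ∀ k, 0 < k → Odd (q ^ k - 1) := fun k hk =>
    Nat.Even.sub_odd (Nat.one_le_pow _ _ Fintype.card_pos) (Nat.even_pow.2 ⟨he, hk.ne'⟩) odd_one
  have key : ∀ {n m o k : ℕ} {ε δ : ℤ}, Tor F n ε o → Tor F m δ (2 ^ k) → Odd o → n + m = 4 → ε * δ = -1 →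
      Tor F 4 (-1) (2 ^ k * o) := fun h h' ho e es => by
    have := h.add h'
    rwa [e, es, (Nat.Coprime.pow_right _ (Nat.coprime_two_right.2 ho)).lcm_eq_mul, mul_comm] at this
  have p2 : Tor F 1 1 (2 ^ 1) := (uni_two (tor_split_one (F := F))).tor
  have m2 : Tor F 1 (-1) (2 ^ 1) := (uni_two (tor_nonsplit_one (F := F))).tor
  have p4 : Tor F 2 1 (2 ^ 2) := (exists_uni_four (Or.inl rfl)).tor
  have m4 : Tor F 2 (-1) (2 ^ 2) := (exists_uni_four (Or.inr rfl)).tor
  have p8 : Tor F 3 1 (2 ^ 3) := exists_tor_eight (Or.inl rfl)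
  have m8 : Tor F 3 (-1) (2 ^ 3) := exists_tor_eight (Or.inr rfl)
  have hp1 : Odd (q + 1) := he.add_one
  have hm1 : Odd (q - 1) := by simpa using hm 1 one_pos
  simp only [sp8List, List.mem_cons, List.not_mem_nil, or_false] at hN
  rcases hN with rfl | rfl | rfl | rfl | rfl | rfl | rfl | rfl | rfl | rfl | rfl | rfl
  · exact s1
  · exact s2
  · exact s3
  · exact s4
  · exact key (tor_nonsplit three_pos) p2 (hp 3 three_pos) rfl rfl
  · exact key (tor_split three_pos) m2 (hm 3 three_pos) rfl rfl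
  · have := (tor_nonsplit (F := F) two_pos).add (tor_nonsplit_one (F := F))
    rw [c4.lcm_eq_mul] at this
    exact key this m2 ((hp 2 two_pos).mul hp1) rfl rfl
  · have := (tor_nonsplit (F := F) two_pos).add (tor_split_one (F := F))
    rw [c5.lcm_eq_mul] at this
    exact key this p2 ((hp 2 two_pos).mul hm1) rfl rfl
  · exact key (tor_nonsplit two_pos) p4 (hp 2 two_pos) rfl rfl
  · exact key (tor_split two_pos) m4 (hm 2 two_pos) rfl rfl
  · exact key tor_nonsplit_one p8 hp1 rfl rfl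
  · exact key tor_split_one m8 hm1 rfl rfl

/-! ### Identification of the form -/

theorem gsum_plusForm (m : ℕ) : gsum (H44.plusForm m F) = (Fintype.card F : ℤ) ^ m := by
  classical
  rw [gsum, ← (Equiv.sumArrowEquivProdArrow (Fin m) (Fin m) F).symm.sum_comp, Fintype.sum_prod_type]
  have e : ∀ x : Fin m → F,
      ∑ y : Fin m → F, theta (H44.plusForm m F ((Equiv.sumArrowEquivProdArrow (Fin m) (Fin m) F).symm (x, y))) =
        if x = 0 then (Fintype.card (Fin m → F) : ℤ) else 0 := by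
    intro x
    have h1 := sum_theta_linear (∑ i, x i • (LinearMap.proj i : (Fin m → F) →ₗ[F] F))
    simp only [LinearMap.sum_apply, LinearMap.smul_apply, LinearMap.proj_apply, smul_eq_mul] at h1
    simp only [H44.plusForm_apply, Cfsg.quadFormPlus, Equiv.sumArrowEquivProdArrow_symm_apply_inl,
      Equiv.sumArrowEquivProdArrow_symm_apply_inr]
    rw [h1]
    by_cases hx : x = 0
    · rw [if_pos hx, if_pos (by rw [hx]; simp)]
    · rw [if_neg hx, if_neg fun e => hx (funext fun i => ?_)]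
      simpa [Pi.single_apply] using DFunLike.congr_fun e (Pi.single i 1)
  rw [Finset.sum_congr rfl fun x _ => e x, Finset.sum_ite_eq' Finset.univ (0 : Fin m → F)]
  simp

theorem exists_minus_iso {ι : Type} [Fintype ι] [DecidableEq ι] {Q : QuadraticForm F (ι → F)}
    (hQ : (polB Q).Nondegenerate) (hc : Fintype.card ι = 2 * 4)
    (hs : gsum Q = -1 * (Fintype.card F : ℤ) ^ 4) (a b : F)
    (han : ∀ z₁ z₂ : F, z₁ ^ 2 + a * z₁ * z₂ + b * z₂ ^ 2 = 0 → z₁ = 0 ∧ z₂ = 0) :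
    ∃ φ : (ι → F) ≃ₗ[F] ((Fin 3 ⊕ Fin 3) ⊕ Fin 2 → F), ∀ v, H44.minusForm 3 a b (φ v) = Q v := by
  rcases H44.equiv_plus_or_minus (m := 4) (by rw [Module.finrank_pi, hc]) Q
      (H44.polarSep_of_nondegenerate hQ) with ⟨φ, hφ⟩ | ⟨-, ζ, φ, hζ, hφ⟩
  · exfalso
    have := gsum_congr (R := H44.plusForm 4 F) φ fun v => by rw [H44.plusForm_apply, hφ]
    rw [hs, gsum_plusForm] at this
    have : (0 : ℤ) < (Fintype.card F : ℤ) ^ 4 := by positivity
    omega
  · obtain ⟨ψ, hψ⟩ := H44.minus_equiv_normal hζ 3 a b han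
    refine ⟨φ.trans ψ.symm, fun v => ?_⟩
    rw [H44.minusForm_apply, hψ, LinearEquiv.trans_apply, LinearEquiv.apply_symm_apply, hφ]

theorem minusForm_nondeg (a b : F)
    (han : ∀ z₁ z₂ : F, z₁ ^ 2 + a * z₁ * z₂ + b * z₂ ^ 2 = 0 → z₁ = 0 ∧ z₂ = 0) :
    (polB (H44.minusForm 3 a b)).Nondegenerate := by
  obtain ⟨ι, i1, i2, Q, g, h1, h2, h3, -⟩ := (tor_semisimple (F := F)).1
  obtain ⟨φ, hφ⟩ := exists_minus_iso h1 h2 h3 a b han
  refine nondeg_left _ fun u hu => ?_
  refine φ.symm.map_eq_zero_iff.1 (h1.1 _ fun y => ?_)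
  have := hu (φ y)
  rw [polB_apply, QuadraticMap.polar] at this ⊢
  rw [← hφ, ← hφ, ← hφ, map_add, LinearEquiv.apply_symm_apply]
  exact this

/-! ### Symplectic matrices -/

theorem polB_isSymplForm {V : Type*} [AddCommGroup V] [Module F V] {Q : QuadraticForm F V}
    (hQ : (polB Q).Nondegenerate) : H48.SS.IsSymplForm (polB Q) :=
  ⟨fun x => by rw [polB_self, CharTwo.two_eq_zero, zero_mul], fun x hx => hQ.1 x hx⟩

omit [Fintype F] [DecidableEq F] [CharP F 2] in
theorem orth_pow_coe {V : Type*} [AddCommGroup V] [Module F V] {Q : QuadraticForm F V} (g : orthGroup Q)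
    (i : ℕ) : ((g.1 : V →ₗ[F] V)) ^ i = ((g ^ i).1 : V →ₗ[F] V) := by
  induction i with
  | zero => rfl
  | succ i ih => rw [pow_succ', pow_succ', ih]; rfl

/-- The isometry group embeds into the symplectic group. -/
theorem exists_sp_hom {V : Type*} [AddCommGroup V] [Module F V] [FiniteDimensional F V]
    {Q : QuadraticForm F V} (hQ : (polB Q).Nondegenerate) {m : ℕ} (hV : Module.finrank F V = m + m) :
    ∃ Ψ : orthGroup Q →* Matrix.symplecticGroup (Fin m) F, Function.Injective Ψ ∧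
      ∀ g, ((Ψ g : Matrix.symplecticGroup (Fin m) F) : Matrix (Fin m ⊕ Fin m) (Fin m ⊕ Fin m) F).charpoly =
        LinearMap.charpoly (g.1 : V →ₗ[F] V) := by
  classical
  obtain ⟨r, b, hb⟩ := H48.SS.exists_hyp_basis (polB_isSymplForm hQ)
  obtain rfl : r = m := by
    have e := Module.finrank_eq_card_basis b
    rw [hV, Fintype.card_sum, Fintype.card_fin] at e
    omega
  have hJ : LinearMap.toMatrix₂ b b (polB Q) = Matrix.J (Fin r) F := by
    ext i j
    rw [LinearMap.toMatrix₂_apply]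
    exact hb i j
  have hmem : ∀ g : orthGroup Q, LinearMap.toMatrix b b (g.1 : V →ₗ[F] V) ∈ Matrix.symplecticGroup (Fin r) F := by
    intro g
    rw [SymplecticGroup.mem_iff', ← hJ, ← LinearMap.toMatrix₂_compl₁₂ b b b b]
    congr 1
    exact LinearMap.ext₂ fun x y => orth_polB_map g x y
  let Ψ : orthGroup Q →* Matrix.symplecticGroup (Fin r) F :=
    MonoidHom.mk' (fun g => ⟨LinearMap.toMatrix b b (g.1 : V →ₗ[F] V), hmem g⟩) fun g h => Subtype.ext (by
      show LinearMap.toMatrix b b ((g * h).1 : V →ₗ[F] V) =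
        LinearMap.toMatrix b b (g.1 : V →ₗ[F] V) * LinearMap.toMatrix b b (h.1 : V →ₗ[F] V)
      rw [← LinearMap.toMatrix_comp b b b]
      rfl)
  refine ⟨Ψ, fun g h e => ?_, fun g => LinearMap.charpoly_toMatrix _ b⟩
  have := (LinearMap.toMatrix b b).injective (congrArg Subtype.val e)
  exact orth_ext fun x => DFunLike.congr_fun this x

theorem sp_order_adm (A : Matrix.symplecticGroup (Fin 4) F) : Adm (Fintype.card F) (orderOf A) := by
  obtain ⟨N, hN, h1, -⟩ := sp8_bound (F := F) (V := Fin 4 ⊕ Fin 4 → F)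
    (by rw [Module.finrank_pi, Fintype.card_sum, Fintype.card_fin])
    (Matrix.toLinAlgEquiv' (A : Matrix (Fin 4 ⊕ Fin 4) (Fin 4 ⊕ Fin 4) F)) (by
      rw [show (Matrix.toLinAlgEquiv' (A : Matrix (Fin 4 ⊕ Fin 4) (Fin 4 ⊕ Fin 4) F) :
        Module.End F (Fin 4 ⊕ Fin 4 → F)) = Matrix.toLin' (A : Matrix (Fin 4 ⊕ Fin 4) (Fin 4 ⊕ Fin 4) F) from rfl,
        Matrix.charpoly_toLin']
      exact H48.SS.charpoly_inv_sp A)
  rw [Nat.card_eq_fintype_card] at hN
  refine ⟨N, hN, orderOf_dvd_of_pow_eq_one (Subtype.ext ?_)⟩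
  rw [← map_pow] at h1
  rw [SubmonoidClass.coe_pow, OneMemClass.coe_one]
  exact Matrix.toLinAlgEquiv'.injective (h1.trans (map_one _).symm)

variable (a b : F) (han : ∀ z₁ z₂ : F, z₁ ^ 2 + a * z₁ * z₂ + b * z₂ ^ 2 = 0 → z₁ = 0 ∧ z₂ = 0)
include han

theorem go_exists_order {o : ℕ} (ho : Adm (Fintype.card F) o) :
    ∃ g : orthGroup (H44.minusForm 3 a b), orderOf g = o := by
  obtain ⟨N, hN, hd⟩ := ho
  have h0 : 0 < N := Nat.pos_of_ne_zero fun e => zero_notMem_sp8List Fintype.one_lt_card (e ▸ hN)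
  obtain ⟨ι, i1, i2, Q, g, h1, h2, h3, h4⟩ := tor_pow (tor_list hN) h0 hd
  obtain ⟨φ, hφ⟩ := exists_minus_iso h1 h2 h3 a b han
  exact ⟨orthConj φ hφ g, (MulEquiv.orderOf_eq _ _).trans h4⟩

theorem range_orth : Set.range (orderOf : orthGroup (H44.minusForm 3 a b) → ℕ) = {o | Adm (Fintype.card F) o} := by
  obtain ⟨Ψ, hΨ, -⟩ := exists_sp_hom (minusForm_nondeg a b han) (m := 4) (by simp [Module.finrank_pi])
  ext o
  constructor
  · rintro ⟨g, rfl⟩
    rw [Set.mem_ofPred_eq, ← orderOf_injective Ψ hΨ g]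
    exact sp_order_adm _
  · exact go_exists_order a b han

theorem range_sp :
    Set.range (orderOf : Matrix.symplecticGroup (Fin 4) F → ℕ) = {o | Adm (Fintype.card F) o} := by
  obtain ⟨Ψ, hΨ, -⟩ := exists_sp_hom (minusForm_nondeg a b han) (m := 4) (by simp [Module.finrank_pi])
  ext o
  constructor
  · rintro ⟨A, rfl⟩
    exact sp_order_adm A
  · intro ho
    obtain ⟨g, hg⟩ := go_exists_order a b han ho
    exact ⟨Ψ g, (orderOf_injective Ψ hΨ g).trans hg⟩

omit han in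
/-- In characteristic two `PSp₈` is `Sp₈`. -/
theorem range_psp : Set.range (orderOf : Cfsg.PSp 4 F → ℕ) =
    Set.range (orderOf : Matrix.symplecticGroup (Fin 4) F → ℕ) := by
  have hbot : Subgroup.center (Matrix.symplecticGroup (Fin 4) F) = ⊥ := by
    rw [Subgroup.eq_bot_iff_forall]
    intro g hg
    rcases H49.eq_one_or_negOne_of_mem_center hg with h | h
    · exact h
    · rw [h]
      refine Subtype.ext ?_
      show -(1 : Matrix (Fin 4 ⊕ Fin 4) (Fin 4 ⊕ Fin 4) F) = 1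
      ext i j
      rw [Matrix.neg_apply, CharTwo.neg_eq]
  have hinj : Function.Injective (QuotientGroup.mk' (Subgroup.center (Matrix.symplecticGroup (Fin 4) F))) := by
    rw [← MonoidHom.ker_eq_bot_iff, QuotientGroup.ker_mk', hbot]
  ext o
  constructor
  · rintro ⟨x, rfl⟩
    obtain ⟨g, rfl⟩ := QuotientGroup.mk'_surjective _ x
    exact ⟨g, (orderOf_injective _ hinj g).symm⟩
  · rintro ⟨g, rfl⟩
    exact ⟨_, orderOf_injective _ hinj g⟩

theorem range_isometry : Set.range (orderOf : ↥(Cfsg.isometryGroup F (Cfsg.quadFormMinus 3 F a b)) → ℕ) =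
    {o | Adm (Fintype.card F) o} := by
  have e : (⇑(H44.minusForm 3 a b) : ((Fin 3 ⊕ Fin 3) ⊕ Fin 2 → F) → F) = Cfsg.quadFormMinus 3 F a b :=
    funext fun v => H44.minusForm_apply 3 a b v
  rw [← range_orth a b han, ← e]
  ext o
  constructor
  · rintro ⟨g, rfl⟩
    exact ⟨toOrth _ g, MulEquiv.orderOf_eq _ _⟩
  · rintro ⟨g, rfl⟩
    exact ⟨(toOrth _).symm g, MulEquiv.orderOf_eq _ _⟩

end H64
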