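import Cfsg.Agent.H64.Sz8Three
import Cfsg.Agent.H64.FpfSemidirect

/-! Groups `2^m : (Sz(8) : 3)`. -/

namespace H64

open Matrix

/-- The semilinear action of `Sz(8) : 3` on the tensor product of the natural module and its twist. -/
noncomputable def tensAct (x : T8) (X : Matrix (Fin 4) (Fin 4) K8) : Matrix (Fin 4) (Fin 4) K8 :=
  H57.szMat x.left * X.map (K8.galHom x.right) * ((H57.szMat x.left).map K8.frob)ᵀ

theorem frob_comm (b : Multiplicative (ZMod 3)) (a : K8) : K8.galHom b (K8.frob a) = K8.frob (K8.galHom b a) := by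
  rw [show K8.frob a = a * a from rfl, map_mul]; rfl

theorem tensAct_one (X : Matrix (Fin 4) (Fin 4) K8) : tensAct 1 X = X := by
  have h1 : (K8.galHom 1 : K8 → K8) = id := by rw [map_one]; rfl
  simp only [tensAct, SemidirectProduct.one_left, SemidirectProduct.one_right, map_one, h1, Matrix.map_id,
    one_mul]
  rw [Matrix.map_one _ (map_zero K8.frob) (map_one K8.frob), Matrix.transpose_one, mul_one]
  rfl

theorem tensAct_mul (x y : T8) (X : Matrix (Fin 4) (Fin 4) K8) :
    tensAct (x * y) X = tensAct x (tensAct y X) := by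
  set σ := K8.galHom x.right with hσ
  have hA : H57.szMat (sz8Act x.right y.left) = (H57.szMat y.left).map σ := rfl
  have hmap : ∀ (τ : K8 ≃+* K8) (A B : Matrix (Fin 4) (Fin 4) K8), (A * B).map τ = A.map τ * B.map τ :=
    fun τ A B => Matrix.map_mul
  simp only [tensAct, SemidirectProduct.mul_left, SemidirectProduct.mul_right, map_mul, hA, hmap, ← hσ]
  have hX : X.map (σ * K8.galHom y.right : K8 ≃+* K8) = (X.map (K8.galHom y.right)).map σ := rfl
  have hT : ((H57.szMat y.left).map K8.frob)ᵀ.map σ = (((H57.szMat y.left).map σ).map K8.frob)ᵀ := by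
    ext i j
    exact frob_comm _ _
  rw [hX, hT, Matrix.transpose_mul]
  simp only [mul_assoc]

theorem tensAct_add (x : T8) (X Y : Matrix (Fin 4) (Fin 4) K8) :
    tensAct x (X + Y) = tensAct x X + tensAct x Y := by
  have : (X + Y).map (K8.galHom x.right) = X.map (K8.galHom x.right) + Y.map (K8.galHom x.right) :=
    Matrix.map_add _ (map_add _) X Y
  simp only [tensAct, this, mul_add, add_mul]

/-- The action on `k` copies. -/
noncomputable def tensHom (k : ℕ) : T8 →* MulAut (Multiplicative (Fin k → Matrix (Fin 4) (Fin 4) K8)) :=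
  mulAutHom (fun x w i => tensAct x (w i)) (fun w => funext fun i => tensAct_one _)
    (fun x y w => funext fun i => tensAct_mul x y _) (fun x v w => funext fun i => tensAct_add x _ _)

/-- The group. -/
abbrev Sz8Cover (k : ℕ) := Multiplicative (Fin k → Matrix (Fin 4) (Fin 4) K8) ⋊[tensHom k] T8

/-- `((g^{(2)})ᵀ)⁻¹` for the element of order 13. -/
def s8dual13 : Matrix (Fin 4) (Fin 4) K8 := !![0, 0, 0, 1; 0, 0, 1, 0; 0, 1, 0, ⟨5⟩; 1, 0, ⟨5⟩, ⟨3⟩]

/-- A certificate that `s8mat13` and `s8dual13` have no common eigenvalue. -/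
def s8cert13 : Matrix (Fin 4) (Fin 4) K8 :=
  !![⟨1⟩, ⟨3⟩, ⟨2⟩, ⟨5⟩; ⟨3⟩, 0, ⟨2⟩, ⟨2⟩; ⟨2⟩, ⟨2⟩, ⟨1⟩, ⟨4⟩; ⟨5⟩, ⟨2⟩, ⟨4⟩, ⟨4⟩]

/-- The minimal polynomial of `s8mat13`. -/
def s8poly13 (A : Matrix (Fin 4) (Fin 4) K8) : Matrix (Fin 4) (Fin 4) K8 :=
  A * A * A * A + (⟨7⟩ : K8) • (A * A * A) + (⟨5⟩ : K8) • (A * A) + (⟨7⟩ : K8) • A + 1

theorem s8cert : (s8mat13.map K8.frob)ᵀ * s8dual13 = 1 ∧ s8poly13 s8mat13 = 0 ∧
    s8poly13 s8dual13 * s8cert13 = 1 := by
  decide +kernel

theorem tensAct_inl13 {X : Matrix (Fin 4) (Fin 4) K8}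
    (h : tensAct (SemidirectProduct.inl s8el13) X = X) : X = 0 := by
  obtain ⟨h1, h2, h3⟩ := s8cert
  have hσ : X.map (K8.galHom 1) = X := by rw [map_one]; rfl
  simp only [tensAct, SemidirectProduct.left_inl, SemidirectProduct.right_inl, hσ, s8mat13_eq] at h
  have hc : s8mat13 * X = X * s8dual13 := by
    calc s8mat13 * X = s8mat13 * X * ((s8mat13.map K8.frob)ᵀ * s8dual13) := by rw [h1, mul_one]
      _ = _ := by rw [← mul_assoc, h]
  set A := s8mat13
  set B := s8dual13
  have hp : s8poly13 A * X = X * s8poly13 B := by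
    have c2 : A * A * X = X * (B * B) := by rw [mul_assoc, hc, ← mul_assoc, hc, mul_assoc]
    have c3 : A * A * A * X = X * (B * B * B) := by rw [mul_assoc, hc, ← mul_assoc, c2, mul_assoc]
    have c4 : A * A * A * A * X = X * (B * B * B * B) := by rw [mul_assoc, hc, ← mul_assoc, c3, mul_assoc]
    simp only [s8poly13, add_mul, mul_add, smul_mul_assoc, mul_smul_comm, c2, c3, c4, hc, one_mul, mul_one]
  rw [h2, zero_mul] at hp
  calc X = X * (s8poly13 B * s8cert13) := by rw [h3, mul_one]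
    _ = 0 := by rw [← mul_assoc, ← hp, zero_mul]

theorem t8_fpf13 (x : T8) (hx : orderOf x = 13) {X : Matrix (Fin 4) (Fin 4) K8} (h : tensAct x X = X) :
    X = 0 := by
  haveI : Fact (Nat.Prime 13) := ⟨by norm_num⟩
  set s : T8 := SemidirectProduct.inl s8el13
  have hs : orderOf s = 13 := by
    rw [orderOf_injective _ SemidirectProduct.inl_injective, orderOf_s8el13]
  obtain ⟨g, k, hk⟩ := sylow_conj 13 (hs ▸ orderOf_dvd_natCard s) (by rw [card_t8]; norm_num) hs hx
  have hpow : ∀ n : ℕ, tensAct (x ^ n) X = X := by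
    intro n
    induction n with
    | zero => rw [pow_zero, tensAct_one]
    | succ n ih => rw [pow_succ', tensAct_mul, ih, h]
  have h0 : tensAct g X = 0 := by
    refine tensAct_inl13 ?_
    rw [show SemidirectProduct.inl s8el13 = s from rfl, hk, tensAct_mul, ← tensAct_mul g⁻¹ g, inv_mul_cancel,
      tensAct_one, tensAct_mul, hpow]
  have := congrArg (tensAct g⁻¹) h0
  rw [← tensAct_mul, inv_mul_cancel, tensAct_one] at this
  rw [this]
  simp [tensAct]

theorem sz8Cover_exponent {k : ℕ} (v : Multiplicative (Fin k → Matrix (Fin 4) (Fin 4) K8)) : v ^ 2 = 1 := by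
  refine Multiplicative.toAdd.injective ?_
  rw [toAdd_pow, toAdd_one, two_nsmul]
  funext i
  exact Matrix.ext fun a b => (by decide +kernel : ∀ u : K8, u + u = 0) _

theorem sz8Cover_no26 {k : ℕ} (z : Sz8Cover k) : orderOf z ≠ 2 * 13 := by
  intro hz
  have hd : orderOf z ∣ orderOf z.right * 2 := by
    refine orderOf_dvd_of_pow_eq_one ?_
    rw [pow_mul]
    exact semidirect_pow_of_right_eq_one (tensHom k) _ 2 sz8Cover_exponent
      ((map_pow (SemidirectProduct.rightHom (φ := tensHom k)) z _).trans (pow_orderOf_eq_one _))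
  have hu : orderOf z.right ∣ orderOf z := orderOf_map_dvd (SemidirectProduct.rightHom (φ := tensHom k)) z
  rw [hz] at hd hu
  have h13 : 13 ∣ orderOf z.right :=
    (show Nat.Coprime 13 2 by norm_num).dvd_of_dvd_mul_right ((dvd_mul_left 13 2).trans hd)
  obtain ⟨c, hc⟩ := h13
  rw [hc, mul_comm 2] at hu
  rcases (Nat.dvd_prime Nat.prime_two).1 (Nat.dvd_of_mul_dvd_mul_left (by norm_num) hu) with rfl | rfl
  · have h1 : orderOf z.right = 13 := by omega
    have := semidirect_orderOf_of_fpf (tensHom k) z fun w hw => Multiplicative.toAdd.injective (funext fun i =>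
      t8_fpf13 z.right h1
        (congrArg (fun v : Multiplicative (Fin k → Matrix (Fin 4) (Fin 4) K8) => v.toAdd i) hw))
    omega
  · have h1 : orderOf z.right = 2 * 13 := by omega
    rcases t8_pairs z.right Nat.prime_two (by norm_num) (by norm_num) h1 with ⟨-, h⟩ | ⟨h, -⟩ <;> omega

theorem sz8Cover_two_mul {k : ℕ} (hk : 0 < k) {g : S8} {p : ℕ} (hp : p.Prime) (hp2 : p ≠ 2) (hg : orderOf g = p)
    {X : Matrix (Fin 4) (Fin 4) K8} (hX : X ≠ 0)
    (hfix : H57.szMat g * X * ((H57.szMat g).map K8.frob)ᵀ = X) : ∃ z : Sz8Cover k, orderOf z = 2 * p := by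
  set v : Multiplicative (Fin k → Matrix (Fin 4) (Fin 4) K8) := Multiplicative.ofAdd fun _ => X with hv
  have hf : tensHom k (SemidirectProduct.inl g) v = v := by
    refine Multiplicative.toAdd.injective (funext fun i => ?_)
    show tensAct (SemidirectProduct.inl g) X = X
    have hσ : X.map (K8.galHom 1) = X := by rw [map_one]; rfl
    simpa only [tensAct, SemidirectProduct.left_inl, SemidirectProduct.right_inl, hσ] using hfix
  have hv2 : orderOf v = 2 := by
    haveI : Fact (Nat.Prime 2) := ⟨Nat.prime_two⟩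
    exact orderOf_eq_prime (sz8Cover_exponent v) fun h0 => hX
      (congrArg (fun w : Multiplicative (Fin k → Matrix (Fin 4) (Fin 4) K8) => w.toAdd ⟨0, hk⟩) h0)
  have hc : Commute (SemidirectProduct.inl v : Sz8Cover k) (SemidirectProduct.inr (SemidirectProduct.inl g)) := by
    refine SemidirectProduct.ext ?_ ?_
    · simp only [SemidirectProduct.mul_left, SemidirectProduct.left_inl, SemidirectProduct.left_inr,
        SemidirectProduct.right_inl, SemidirectProduct.right_inr, map_one, mul_one, one_mul, hf]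
    · simp
  refine ⟨_, (hc.orderOf_mul_eq_mul_orderOf_of_coprime ?_).trans ?_⟩ <;>
    rw [orderOf_injective _ SemidirectProduct.inl_injective, orderOf_injective _ SemidirectProduct.inr_injective,
      orderOf_injective _ SemidirectProduct.inl_injective, hv2, hg]
  exact (Nat.coprime_primes Nat.prime_two hp).2 (Ne.symm hp2)

theorem sz8Cover_pairs (k : ℕ) (hk : 0 < k) {r s : ℕ} (hr : r.Prime) (hs : s.Prime) (hrs : r < s) :
    (∃ z : Sz8Cover k, orderOf z = r * s) ↔
      (r = 2 ∧ s = 3) ∨ (r = 2 ∧ s = 5) ∨ (r = 2 ∧ s = 7) ∨ (r = 3 ∧ s = 5) := by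
  constructor
  · rintro ⟨z, hz⟩
    haveI : Finite (Sz8Cover k) := Finite.of_equiv _ SemidirectProduct.equivProd.symm
    have hd : orderOf z ∣ orderOf z.right * 2 := by
      refine orderOf_dvd_of_pow_eq_one ?_
      rw [pow_mul]
      exact semidirect_pow_of_right_eq_one (tensHom k) _ 2 sz8Cover_exponent
        ((map_pow (SemidirectProduct.rightHom (φ := tensHom k)) z _).trans (pow_orderOf_eq_one _))
    rw [hz] at hd
    by_cases hr2 : r = 2
    · subst hr2
      have hs2 : Nat.Coprime s 2 := (Nat.coprime_primes hs Nat.prime_two).2 (by omega)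
      have hsd : s ∣ orderOf z.right := hs2.dvd_of_dvd_mul_right ((dvd_mul_left s 2).trans hd)
      have hsc : s ∣ 87360 := card_t8 ▸ hsd.trans (orderOf_dvd_natCard z.right)
      have hs' : s = 3 ∨ s = 5 ∨ s = 7 ∨ s = 13 := by
        rw [show 87360 = 2 ^ 6 * (3 * (5 * (7 * 13))) by norm_num] at hsc
        have e : ∀ q : ℕ, q.Prime → s ∣ q → s = q := fun q hq h => (Nat.prime_dvd_prime_iff_eq hs hq).1 h
        rcases hs.dvd_mul.1 hsc with h | h
        · exact absurd (e 2 Nat.prime_two (hs.dvd_of_dvd_pow h)) (by omega)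
        rcases hs.dvd_mul.1 h with h | h
        · exact Or.inl (e 3 Nat.prime_three h)
        rcases hs.dvd_mul.1 h with h | h
        · exact Or.inr (Or.inl (e 5 (by norm_num) h))
        rcases hs.dvd_mul.1 h with h | h
        · exact Or.inr (Or.inr (Or.inl (e 7 (by norm_num) h)))
        · exact Or.inr (Or.inr (Or.inr (e 13 (by norm_num) h)))
      rcases hs' with rfl | rfl | rfl | rfl
      · exact Or.inl ⟨rfl, rfl⟩
      · exact Or.inr (Or.inl ⟨rfl, rfl⟩)
      · exact Or.inr (Or.inr (Or.inl ⟨rfl, rfl⟩))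
      · exact absurd hz (sz8Cover_no26 z)
    · have hc : Nat.Coprime (r * s) 2 := Nat.Coprime.mul_left ((Nat.coprime_primes hr Nat.prime_two).2 hr2)
        ((Nat.coprime_primes hs Nat.prime_two).2 (by have := hr.two_le; omega))
      have h : orderOf (z.right ^ (orderOf z.right / (r * s))) = r * s :=
        orderOf_pow_orderOf_div (orderOf_pos _).ne' (hc.dvd_of_dvd_mul_right hd)
      rcases t8_pairs _ hr hs hrs h with ⟨h, -⟩ | h
      · exact absurd h hr2
      · exact Or.inr (Or.inr (Or.inr h))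
  · obtain ⟨⟨x, hx⟩, ⟨y, hy⟩⟩ := t8_witness
    rintro (⟨rfl, rfl⟩ | ⟨rfl, rfl⟩ | ⟨rfl, rfl⟩ | ⟨rfl, rfl⟩)
    · exact ⟨SemidirectProduct.inr x, by rw [orderOf_injective _ SemidirectProduct.inr_injective, hx]⟩
    · exact sz8Cover_two_mul hk (by norm_num) (by norm_num) orderOf_s8el5
        (X := !![0, 0, 0, 1; 0, 0, 1, 0; 0, 1, 0, 0; 1, 0, 0, 0]) (by decide +kernel)
        (by rw [s8mat5_eq]; decide +kernel)
    · exact sz8Cover_two_mul hk (by norm_num) (by norm_num) orderOf_s8el7
        (X := !![0, 1, 0, 0; 0, 0, 0, 0; 0, 0, 0, 0; 0, 0, 0, 0]) (by decide +kernel)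
        (by rw [s8mat7_eq]; decide +kernel)
    · exact ⟨SemidirectProduct.inr y, by rw [orderOf_injective _ SemidirectProduct.inr_injective, hy]⟩

theorem card_sz8Cover (k : ℕ) : Nat.card (Sz8Cover k) = 2 ^ (48 * k) * 87360 := by
  rw [SemidirectProduct.card, card_t8, Nat.card_congr (Multiplicative.toAdd (α := Fin k → Matrix (Fin 4) (Fin 4) K8)),
    Nat.card_fun, Nat.card_fin, show Nat.card (Matrix (Fin 4) (Fin 4) K8) = 2 ^ 48 from ?_, ← pow_mul]
  show Nat.card (Fin 4 → Fin 4 → K8) = _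
  rw [Nat.card_fun, Nat.card_fun, Nat.card_fin, Nat.card_eq_fintype_card, K8.card_eq]
  norm_num

end H64
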