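import Cfsg.Agent.H57.SzTorusOrder
import Cfsg.Agent.H57.SzAut
import Cfsg.Agent.H64.K8
import Cfsg.Agent.H64.CubicOrders

/-! `Sz(8) : 3` and its prime pairs. -/

namespace H64

open Matrix

/-- `Sz(8)`. -/
abbrev S8 := Cfsg.Sz K8 1

/-- The field automorphisms acting. -/
noncomputable def sz8Act : Multiplicative (ZMod 3) →* MulAut S8 where
  toFun b := H57.fieldAut le_rfl K8.card_eq (K8.galHom b)
  map_one' := by
    rw [map_one]
    refine MulEquiv.ext fun g => H57.szMat_inj (Matrix.ext fun i j => rfl)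
  map_mul' b c := by rw [map_mul, H57.fieldAut_mul]

/-- `Sz(8) : 3`. -/
abbrev T8 := S8 ⋊[sz8Act] Multiplicative (ZMod 3)

instance : Finite T8 := Finite.of_equiv _ SemidirectProduct.equivProd.symm

theorem card_s8 : Nat.card S8 = 29120 := by rw [H57.card_sz le_rfl K8.card_eq]; norm_num

theorem card_t8 : Nat.card T8 = 87360 := by
  rw [SemidirectProduct.card, card_s8, Nat.card_congr (Multiplicative.toAdd (α := ZMod 3)), Nat.card_zmod]

theorem s8_orderOf (g : S8) : ∃ n ∈ ([4, 5, 7, 13] : List ℕ), orderOf g ∣ n := by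
  classical
  by_cases hg : g = 1
  · exact ⟨4, by simp, by rw [hg, orderOf_one]; exact one_dvd _⟩
  have hconj : ∀ (s : S8), orderOf (s⁻¹ * g * s) = orderOf g := fun s => by
    rw [show s⁻¹ * g * s = MulAut.conj s⁻¹ g by simp [MulAut.conj_apply], MulEquiv.orderOf_eq]
  rcases H57.sz_trichotomy le_rfl K8.card_eq hg with ⟨s, hs⟩ | ⟨s, hs⟩ | ⟨A, hA, hgA⟩
  · refine ⟨4, by simp, hconj s ▸ orderOf_dvd_of_pow_eq_one ?_⟩
    obtain ⟨a, b, hab⟩ := hs
    rw [hab]
    exact H57.tEl_pow' K8.card_eq a b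
  · refine ⟨7, by simp, hconj s ▸ ?_⟩
    have h := Subgroup.orderOf_dvd_natCard _ hs
    rw [H57.card_dSub K8.card_eq] at h
    simpa [K8.card_eq] using h
  · obtain ⟨Ap, Am, -, -, hp, hm, hcl, -⟩ := H57.tor_summary le_rfl K8.card_eq
    have h := Subgroup.orderOf_dvd_natCard _ hgA
    obtain ⟨x, hx | hx⟩ := hcl A hA
    · rw [← hx, H57.card_conj, hp] at h
      exact ⟨13, by simp, h.trans (by norm_num)⟩
    · rw [← hx, H57.card_conj, hm] at h
      exact ⟨5, by simp, h.trans (by norm_num)⟩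

theorem sylow_conj {G : Type*} [Group G] [Finite G] (p : ℕ) [Fact p.Prime] (h1 : p ∣ Nat.card G)
    (h2 : ¬ p ^ 2 ∣ Nat.card G) {s t : G} (hs : orderOf s = p) (ht : orderOf t = p) :
    ∃ (h : G) (k : ℕ), s = h * t ^ k * h⁻¹ := by
  have hfac : (Nat.card G).factorization p = 1 := by
    have hne : Nat.card G ≠ 0 := Nat.card_pos.ne'
    have a := (Nat.Prime.dvd_iff_one_le_factorization (Fact.out : p.Prime) hne).1 h1
    have b : ¬ 2 ≤ (Nat.card G).factorization p := fun h =>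
      h2 ((Nat.Prime.pow_dvd_iff_le_factorization (Fact.out : p.Prime) hne).2 h)
    omega
  have hP : ∀ x : G, orderOf x = p → Nat.card (Subgroup.zpowers x) = p ^ (Nat.card G).factorization p := by
    intro x hx
    rw [Nat.card_zpowers, hx, hfac, pow_one]
  obtain ⟨h, hh⟩ := MulAction.exists_smul_eq G (Sylow.ofCard _ (hP t ht)) (Sylow.ofCard _ (hP s hs))
  have hmem : s ∈ ((h • Sylow.ofCard _ (hP t ht) : Sylow p G) : Subgroup G) := by
    rw [hh]; exact Subgroup.mem_zpowers s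
  rw [Sylow.coe_subgroup_smul, Subgroup.mem_pointwise_smul_iff_inv_smul_mem] at hmem
  have hmem' : h⁻¹ * s * h ∈ Subgroup.zpowers t := by simpa [MulAut.smul_def, mul_assoc] using hmem
  obtain ⟨k, hk⟩ := mem_powers_iff_mem_zpowers.2 hmem'
  refine ⟨h, k, ?_⟩
  simp only at hk
  rw [hk]
  group

/-- An element of order 13. -/
def s8el13 : S8 := H57.tEl K8.card_eq 0 ⟨3⟩ * H57.wEl K8.card_eq

/-- An element of order 5 with entries in `GF(2)`. -/
def s8el5 : S8 := H57.tEl K8.card_eq 0 1 * H57.wEl K8.card_eq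

/-- An element of order 7. -/
def s8el7 : S8 := H57.dEl K8.card_eq (Units.mk0 ⟨2⟩ (by decide +kernel))

theorem s8_pow_eq_one_iff (g : S8) (n : ℕ) : g ^ n = 1 ↔ H57.szMat g ^ n = 1 := by
  rw [← map_pow, ← map_one (H57.szMat (F := K8) (m := 1))]
  exact ⟨fun h => by rw [h], fun h => H57.szMat_inj h⟩

/-- The matrix of `s8el13`. -/
def s8mat13 : Matrix (Fin 4) (Fin 4) K8 :=
  !![⟨7⟩, ⟨3⟩, 0, 1; ⟨3⟩, 0, 1, 0; 0, 1, 0, 0; 1, 0, 0, 0]

theorem s8mat13_eq : H57.szMat s8el13 = s8mat13 := by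
  show H57.tMat 1 (0 : K8) ⟨3⟩ * Cfsg.suzukiForm K8 = s8mat13
  decide +kernel

/-- The matrix of `s8el5`. -/
def s8mat5 : Matrix (Fin 4) (Fin 4) K8 := !![1, 1, 0, 1; 1, 0, 1, 0; 0, 1, 0, 0; 1, 0, 0, 0]

theorem s8mat5_eq : H57.szMat s8el5 = s8mat5 := by
  show H57.tMat 1 (0 : K8) 1 * Cfsg.suzukiForm K8 = s8mat5
  decide +kernel

/-- The matrix of `s8el7`. -/
def s8mat7 : Matrix (Fin 4) (Fin 4) K8 := !![⟨3⟩, 0, 0, 0; 0, ⟨4⟩, 0, 0; 0, 0, ⟨7⟩, 0; 0, 0, 0, ⟨6⟩]

theorem s8mat7_eq : H57.szMat s8el7 = s8mat7 := by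
  show H57.dMat 1 (⟨2⟩ : K8) = s8mat7
  decide +kernel

theorem orderOf_s8el13 : orderOf s8el13 = 13 :=
  orderOf_eq_of_prime_checks (by norm_num) ((s8_pow_eq_one_iff _ _).2 (by rw [s8mat13_eq]; decide +kernel))
    fun d hd hlt h => (by decide +kernel : ∀ d ∈ (13 : ℕ).divisors, d < 13 → s8mat13 ^ d ≠ 1) d hd hlt
      (s8mat13_eq ▸ (s8_pow_eq_one_iff _ _).1 h)

theorem orderOf_s8el7 : orderOf s8el7 = 7 :=
  orderOf_eq_of_prime_checks (by norm_num) ((s8_pow_eq_one_iff _ _).2 (by rw [s8mat7_eq]; decide +kernel))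
    fun d hd hlt h => (by decide +kernel : ∀ d ∈ (7 : ℕ).divisors, d < 7 → s8mat7 ^ d ≠ 1) d hd hlt
      (s8mat7_eq ▸ (s8_pow_eq_one_iff _ _).1 h)

theorem orderOf_s8el5 : orderOf s8el5 = 5 :=
  orderOf_eq_of_prime_checks (by norm_num) ((s8_pow_eq_one_iff _ _).2 (by rw [s8mat5_eq]; decide +kernel))
    fun d hd hlt h => (by decide +kernel : ∀ d ∈ (5 : ℕ).divisors, d < 5 → s8mat5 ^ d ≠ 1) d hd hlt
      (s8mat5_eq ▸ (s8_pow_eq_one_iff _ _).1 h)

/-- Elements of order 7 or 13 are moved by the field automorphisms. -/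
theorem s8_moved {g : S8} {p : ℕ} (hp : p = 7 ∨ p = 13) (hg : orderOf g = p)
    (b : Multiplicative (ZMod 3)) (hb : b ≠ 1) : sz8Act b g ≠ g := by
  intro hfix
  haveI : Fact p.Prime := ⟨by rcases hp with rfl | rfl <;> norm_num⟩
  obtain ⟨w, hw, hwt⟩ : ∃ w : S8, orderOf w = p ∧
      ∀ k : ℕ, k % p ≠ 0 → (H57.szMat w ^ k).trace ≠ 0 ∧ (H57.szMat w ^ k).trace ≠ 1 := by
    rcases hp with rfl | rfl
    · refine ⟨s8el7, orderOf_s8el7, fun k hk => ?_⟩
      rw [← map_pow, ← pow_mod_orderOf, orderOf_s8el7, map_pow, s8mat7_eq]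
      exact (show ∀ j < 7, j ≠ 0 → (s8mat7 ^ j).trace ≠ 0 ∧ (s8mat7 ^ j).trace ≠ 1 by decide +kernel)
        (k % 7) (Nat.mod_lt _ (by norm_num)) hk
    · refine ⟨s8el13, orderOf_s8el13, fun k hk => ?_⟩
      rw [← map_pow, ← pow_mod_orderOf, orderOf_s8el13, map_pow, s8mat13_eq]
      exact (show ∀ j < 13, j ≠ 0 → (s8mat13 ^ j).trace ≠ 0 ∧ (s8mat13 ^ j).trace ≠ 1 by decide +kernel)
        (k % 13) (Nat.mod_lt _ (by norm_num)) hk
  have h1 : p ∣ Nat.card S8 := hw ▸ orderOf_dvd_natCard w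
  have h2 : ¬ p ^ 2 ∣ Nat.card S8 := by rw [card_s8]; rcases hp with rfl | rfl <;> norm_num
  obtain ⟨h, k, hk⟩ := sylow_conj p h1 h2 hg hw
  have hkp : k % p ≠ 0 := fun h0 => by
    rw [← pow_mod_orderOf, hw, h0, pow_zero, mul_one, mul_inv_cancel] at hk
    rw [hk, orderOf_one] at hg
    rcases hp with rfl | rfl <;> omega
  have htr : (H57.szMat g).trace = (H57.szMat w ^ k).trace := by
    rw [hk, map_mul, map_mul, map_pow, Matrix.trace_mul_cycle, ← map_mul, inv_mul_cancel, map_one, one_mul]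
  have hfx : K8.galHom b (H57.szMat g).trace = (H57.szMat g).trace := by
    conv_rhs => rw [← hfix]
    simp only [Matrix.trace, Matrix.diag, map_sum]
    rfl
  have hk8 : ∀ (b : ZMod 3) (a : K8), b ≠ 0 → (K8.frob ^ b.val) a = a → a = 0 ∨ a = 1 := by decide +kernel
  rcases hk8 b.toAdd _ (fun h0 => hb (Multiplicative.toAdd.injective h0)) hfx with e | e
  · exact (hwt k hkp).1 (htr ▸ e)
  · exact (hwt k hkp).2 (htr ▸ e)

theorem t8_pow_three_right (x : T8) : (x ^ 3).right = 1 := by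
  have : ∀ c : Multiplicative (ZMod 3), c ^ 3 = 1 := by decide
  exact (map_pow (SemidirectProduct.rightHom (φ := sz8Act)) x 3).trans (this _)

theorem z3_gen : (Multiplicative.ofAdd (1 : ZMod 3)) ^ 3 = 1 ∧ Multiplicative.ofAdd (1 : ZMod 3) ≠ 1 := by
  decide

/-- No element of order 3 centralises one of order 7 or 13. -/
theorem t8_no_order_three_mul {p : ℕ} (hp : p = 7 ∨ p = 13) (x : T8) : orderOf x ≠ 3 * p := by
  intro hx
  haveI : Fact (Nat.Prime 3) := ⟨Nat.prime_three⟩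
  have hp0 : 0 < p := by rcases hp with rfl | rfl <;> norm_num
  set y := x ^ p with hy
  have hyo : orderOf y = 3 := by
    rw [hy, orderOf_pow_of_dvd hp0.ne' (hx ▸ dvd_mul_left p 3), hx, Nat.mul_div_cancel _ hp0]
  set σ : T8 := SemidirectProduct.inr (Multiplicative.ofAdd (1 : ZMod 3)) with hσ
  have hσo : orderOf σ = 3 := by
    rw [hσ, orderOf_injective _ SemidirectProduct.inr_injective]
    exact orderOf_eq_prime z3_gen.1 z3_gen.2
  obtain ⟨h, k, hk⟩ := sylow_conj 3 (hσo ▸ orderOf_dvd_natCard σ) (by rw [card_t8]; norm_num) hyo hσo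
  have hk3 : k % 3 ≠ 0 := fun h0 => by
    rw [← pow_mod_orderOf, hσo, h0, pow_zero, mul_one, mul_inv_cancel] at hk
    rw [hk, orderOf_one] at hyo
    omega
  set z := h⁻¹ * x ^ 3 * h with hz
  have hzo : orderOf z = p := by
    rw [hz, show h⁻¹ * x ^ 3 * h = MulAut.conj h⁻¹ (x ^ 3) by simp [MulAut.conj_apply], MulEquiv.orderOf_eq,
      orderOf_pow_of_dvd (by norm_num) (hx ▸ dvd_mul_right 3 p), hx, Nat.mul_div_cancel_left _ (by norm_num)]
  have hzr : z.right = 1 := by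
    rw [hz, SemidirectProduct.mul_right, SemidirectProduct.mul_right, t8_pow_three_right,
      SemidirectProduct.inv_right, mul_one, inv_mul_cancel]
  have hzl : z = SemidirectProduct.inl z.left := SemidirectProduct.ext rfl hzr
  have hcomm : σ ^ k * z = z * σ ^ k := by
    have h1 : σ ^ k = h⁻¹ * y * h := by rw [hk]; group
    rw [h1, hz, hy]
    have : x ^ p * x ^ 3 = x ^ 3 * x ^ p := by rw [← pow_add, ← pow_add, add_comm]
    calc h⁻¹ * x ^ p * h * (h⁻¹ * x ^ 3 * h) = h⁻¹ * (x ^ p * x ^ 3) * h := by group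
      _ = h⁻¹ * (x ^ 3 * x ^ p) * h := by rw [this]
      _ = _ := by group
  have hfix : sz8Act ((Multiplicative.ofAdd (1 : ZMod 3)) ^ k) z.left = z.left := by
    have h2 : (SemidirectProduct.inr ((Multiplicative.ofAdd (1 : ZMod 3)) ^ k) : T8) * SemidirectProduct.inl z.left =
        SemidirectProduct.inl z.left * SemidirectProduct.inr ((Multiplicative.ofAdd (1 : ZMod 3)) ^ k) := by
      rw [← hzl, map_pow]; exact hcomm
    generalize (Multiplicative.ofAdd (1 : ZMod 3)) ^ k = c at h2 ⊢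
    simpa using congrArg SemidirectProduct.left h2
  refine s8_moved hp ?_ _ (fun h0 => hk3 ?_) hfix
  · rw [← hzo, hzl, orderOf_injective _ SemidirectProduct.inl_injective]
    rfl
  · have := orderOf_dvd_of_pow_eq_one h0
    rw [orderOf_eq_prime z3_gen.1 z3_gen.2] at this
    omega

/-- The pairs of the prime graph: `2 - 3`, `2 - 5`, `2 - 7`, `3 - 5`. -/
theorem t8_pairs (x : T8) {r s : ℕ} (hr : r.Prime) (hs : s.Prime) (hrs : r < s) (hx : orderOf x = r * s) :
    (r = 2 ∧ s = 3) ∨ (r = 3 ∧ s = 5) := by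
  obtain ⟨n, hn, hd⟩ := s8_orderOf (x ^ 3).left
  have hd3 : orderOf x ∣ 3 * n := by
    refine orderOf_dvd_of_pow_eq_one ?_
    rw [pow_mul, show x ^ 3 = SemidirectProduct.inl (x ^ 3).left from
      SemidirectProduct.ext rfl (t8_pow_three_right x), ← map_pow, orderOf_dvd_iff_pow_eq_one.1 hd, map_one]
  rw [hx] at hd3
  have hle := Nat.le_of_dvd (by simp at hn; omega) hd3
  have hr2 := hr.two_le
  have hs2 := hs.two_le
  have key : ∀ n ∈ ([4, 5, 7, 13] : List ℕ), ∀ p ∈ (List.range 40).product (List.range 40),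
      (p.1.Prime ∧ p.2.Prime ∧ p.1 < p.2 ∧ p.1 * p.2 ∣ 3 * n) →
      (p.1 = 2 ∧ p.2 = 3) ∨ (p.1 = 3 ∧ p.2 = 5) ∨ (p.1 = 3 ∧ p.2 = 7) ∨ (p.1 = 3 ∧ p.2 = 13) := by decide +kernel
  have h39 : 3 * n ≤ 39 := by simp at hn; omega
  have hr40 : r < 40 := by nlinarith
  have hs40 : s < 40 := by nlinarith
  rcases key n hn (r, s) (List.pair_mem_product.2 ⟨List.mem_range.2 hr40, List.mem_range.2 hs40⟩)
    ⟨hr, hs, hrs, hd3⟩ with h | h | ⟨rfl, rfl⟩ | ⟨rfl, rfl⟩
  · exact Or.inl h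
  · exact Or.inr h
  · exact absurd hx (t8_no_order_three_mul (Or.inl rfl) x)
  · exact absurd hx (t8_no_order_three_mul (Or.inr rfl) x)

theorem t8_witness : (∃ x : T8, orderOf x = 2 * 3) ∧ (∃ x : T8, orderOf x = 3 * 5) := by
  set σ : T8 := SemidirectProduct.inr (Multiplicative.ofAdd (1 : ZMod 3)) with hσ
  have hσo : orderOf σ = 3 := by
    haveI : Fact (Nat.Prime 3) := ⟨Nat.prime_three⟩
    rw [hσ, orderOf_injective _ SemidirectProduct.inr_injective]
    exact orderOf_eq_prime z3_gen.1 z3_gen.2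
  have main : ∀ g : S8, Nat.Coprime (orderOf g) 3 →
      (H57.szMat g).map (fun a => a * a) = H57.szMat g → ∃ x : T8, orderOf x = orderOf g * 3 := by
    intro g hcop hent
    have hfix : sz8Act (Multiplicative.ofAdd (1 : ZMod 3)) g = g := by
      refine H57.szMat_inj (Matrix.ext fun i j => ?_)
      show (K8.frob ^ (1 : ZMod 3).val) (H57.szMat g i j) = H57.szMat g i j
      rw [show (1 : ZMod 3).val = 1 from rfl, pow_one]
      exact congrFun (congrFun hent i) j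
    have hc : Commute (SemidirectProduct.inl g : T8) σ := by
      refine SemidirectProduct.ext ?_ ?_
      · simp [hσ, hfix]
      · simp [hσ]
    refine ⟨SemidirectProduct.inl g * σ, ?_⟩
    have hg : orderOf (SemidirectProduct.inl g : T8) = orderOf g :=
      orderOf_injective _ SemidirectProduct.inl_injective g
    rw [hc.orderOf_mul_eq_mul_orderOf_of_coprime (by rwa [hg, hσo]), hg, hσo]
  set t := H57.tEl (F := K8) (m := 1) K8.card_eq 0 1
  have ht : orderOf t = 2 := by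
    haveI : Fact (Nat.Prime 2) := ⟨Nat.prime_two⟩
    refine orderOf_eq_prime ((s8_pow_eq_one_iff _ _).2 ?_) (fun h => ?_)
    · show H57.tMat 1 (0 : K8) 1 ^ 2 = 1
      decide +kernel
    · have h1 : H57.szMat t = 1 := by rw [h, map_one]
      change H57.tMat 1 (0 : K8) 1 = 1 at h1
      revert h1
      decide +kernel
  obtain ⟨x, hx⟩ := main t (by rw [ht]; norm_num) (by
    show (H57.tMat 1 (0 : K8) 1).map (fun a => a * a) = H57.tMat 1 (0 : K8) 1
    decide +kernel)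
  obtain ⟨y, hy⟩ := main s8el5 (by rw [orderOf_s8el5]; norm_num) (by rw [s8mat5_eq]; decide +kernel)
  exact ⟨⟨x, by rw [hx, ht]⟩, ⟨y, by rw [hy, orderOf_s8el5]⟩⟩

end H64
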