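import Cfsg.Agent.H44.DirectSum
import Cfsg.Agent.H44.InvolCount
import Cfsg.Agent.H44.Classify
import Cfsg.Agent.H48.QuadEven

/-!
Orthogonal pieces in characteristic two: a type sign given by a Gauss sum, tori and unipotent blocks.
-/

set_option autoImplicit false

namespace H64

open H43
open H48.QuadEven (theta_sum_sq)

variable {F : Type*} [Field F] [Fintype F] [DecidableEq F]

/-- The Gauss sum of a quadratic form. -/
def gsum {V : Type*} [AddCommGroup V] [Module F V] [Fintype V] (Q : QuadraticForm F V) : ℤ :=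
  ∑ v : V, H48.QuadEven.theta (Q v)

/-- An isometry whose order doubles in the semidirect product with the natural module. -/
def Doub {V : Type*} [AddCommGroup V] [Module F V] {Q : QuadraticForm F V} (g : orthGroup Q) : Prop :=
  ∃ v : V, (∑ i ∈ Finset.range (orderOf g), (g ^ i).1 v) ≠ 0

/-- A torus-like piece: an isometry of order `o` of a space of sign `ε` and dimension `2n`. -/
def Tor (F : Type*) [Field F] [Fintype F] [DecidableEq F] (n : ℕ) (ε : ℤ) (o : ℕ) : Prop :=
  ∃ (ι : Type) (_ : Fintype ι) (_ : DecidableEq ι) (Q : QuadraticForm F (ι → F)) (g : orthGroup Q),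
    (polB Q).Nondegenerate ∧ Fintype.card ι = 2 * n ∧ gsum Q = ε * (Fintype.card F : ℤ) ^ n ∧ orderOf g = o

/-- A unipotent piece with prescribed Dickson invariant whose order doubles on the module. -/
def Uni (F : Type*) [Field F] [Fintype F] [DecidableEq F] (n : ℕ) (ε : ℤ) (o : ℕ)
    (d : Multiplicative (ZMod 2)) : Prop :=
  ∃ (ι : Type) (_ : Fintype ι) (_ : DecidableEq ι) (Q : QuadraticForm F (ι → F)) (g : orthGroup Q),
    (polB Q).Nondegenerate ∧ Fintype.card ι = 2 * n ∧ gsum Q = ε * (Fintype.card F : ℤ) ^ n ∧ orderOf g = o ∧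
      dickson g = d ∧ Doub g

theorem Uni.tor {n o : ℕ} {ε : ℤ} {d : Multiplicative (ZMod 2)} (h : Uni F n ε o d) : Tor F n ε o := by
  obtain ⟨ι, i1, i2, Q, g, h1, h2, h3, h4, -⟩ := h
  exact ⟨ι, i1, i2, Q, g, h1, h2, h3, h4⟩

/-! ### Transport -/

omit [Fintype F] [DecidableEq F] in
theorem nondeg_left {V : Type*} [AddCommGroup V] [Module F V] (Q : QuadraticForm F V)
    (h : ∀ u, (∀ v, polB Q u v = 0) → u = 0) : (polB Q).Nondegenerate :=
  ⟨h, fun v hv => h v fun u => by rw [polB_comm]; exact hv u⟩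

section Transport

variable {V W : Type*} [AddCommGroup V] [Module F V] [AddCommGroup W] [Module F W]
  {Q : QuadraticForm F V} {R : QuadraticForm F W}

/-- Conjugation by an isometry. -/
def orthConj (φ : V ≃ₗ[F] W) (h : ∀ v, R (φ v) = Q v) : orthGroup Q ≃* orthGroup R where
  toFun g := ⟨φ.symm.trans (g.1.trans φ), fun x => by
    show R (φ (g.1 (φ.symm x))) = R x
    rw [h, orth_qmap, ← h, LinearEquiv.apply_symm_apply]⟩
  invFun g := ⟨φ.trans (g.1.trans φ.symm), fun x => by
    show Q (φ.symm (g.1 (φ x))) = Q x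
    rw [← h, LinearEquiv.apply_symm_apply, orth_qmap, h]⟩
  left_inv g := orth_ext fun x => by simp
  right_inv g := orth_ext fun x => by simp
  map_mul' g g' := orth_ext fun x => by
    show φ ((g * g').1 (φ.symm x)) = _
    rw [orth_mul_apply, orth_mul_apply]
    show _ = φ (g.1 (φ.symm (φ (g'.1 (φ.symm x)))))
    rw [LinearEquiv.symm_apply_apply]

theorem orthConj_apply (φ : V ≃ₗ[F] W) (h : ∀ v, R (φ v) = Q v) (g : orthGroup Q) (v : V) :
    (orthConj φ h g).1 (φ v) = φ (g.1 v) := by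
  show φ (g.1 (φ.symm (φ v))) = _
  rw [LinearEquiv.symm_apply_apply]

theorem orthConj_dickson (φ : V ≃ₗ[F] W) (h : ∀ v, R (φ v) = Q v) (g : orthGroup Q) :
    dickson (orthConj φ h g) = dickson g := by
  rw [dickson, dickson]
  congr 2
  have e : resid (orthConj φ h g) = (resid g).map (φ : V →ₗ[F] W) := by
    ext w
    simp only [resid, LinearMap.mem_range, Submodule.mem_map]
    constructor
    · rintro ⟨x, rfl⟩
      refine ⟨resMap g (φ.symm x), ⟨_, rfl⟩, ?_⟩
      rw [LinearEquiv.coe_coe, resMap_apply, resMap_apply, map_sub, LinearEquiv.apply_symm_apply]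
      rfl
    · rintro ⟨_, ⟨y, rfl⟩, rfl⟩
      refine ⟨φ y, ?_⟩
      rw [LinearEquiv.coe_coe, resMap_apply, resMap_apply, map_sub, orthConj_apply]
  rw [e, LinearEquiv.finrank_map_eq]

theorem orthConj_doub (φ : V ≃ₗ[F] W) (h : ∀ v, R (φ v) = Q v) {g : orthGroup Q} (hg : Doub g) :
    Doub (orthConj φ h g) := by
  obtain ⟨v, hv⟩ := hg
  refine ⟨φ v, ?_⟩
  rw [MulEquiv.orderOf_eq, Finset.sum_congr rfl fun i _ => by rw [← map_pow, orthConj_apply], ← map_sum]
  exact fun e => hv (φ.map_eq_zero_iff.1 e)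

theorem gsum_congr [Fintype V] [Fintype W] (φ : V ≃ₗ[F] W) (h : ∀ v, R (φ v) = Q v) : gsum Q = gsum R := by
  refine Fintype.sum_equiv φ.toEquiv _ _ fun v => ?_
  rw [← h]
  rfl

/-- Coordinates for a piece given on an arbitrary space. -/
theorem exists_coords [FiniteDimensional F V] [Fintype V] (hQ : (polB Q).Nondegenerate) {n : ℕ}
    (hV : Module.finrank F V = 2 * n) :
    ∃ (Q' : QuadraticForm F (Fin (2 * n) → F)) (φ : V ≃ₗ[F] (Fin (2 * n) → F)),
      (∀ v, Q' (φ v) = Q v) ∧ (polB Q').Nondegenerate ∧ gsum Q' = gsum Q := by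
  let φ : V ≃ₗ[F] (Fin (2 * n) → F) := (Module.finBasisOfFinrankEq F V hV).equivFun
  refine ⟨Q.comp φ.symm.toLinearMap, φ, fun v => by simp, ?_, (gsum_congr φ fun v => by simp).symm⟩
  refine nondeg_left _ fun x hx => ?_
  refine φ.symm.map_eq_zero_iff.1 (hQ.1 _ fun y => ?_)
  have := hx (φ y)
  rw [polB_apply, QuadraticMap.polar] at this ⊢
  simpa using this

end Transport

/-- A piece given on an arbitrary space. -/
theorem tor_mk {V : Type*} [AddCommGroup V] [Module F V] [FiniteDimensional F V] [Fintype V]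
    (Q : QuadraticForm F V) (hQ : (polB Q).Nondegenerate) (g : orthGroup Q) {n : ℕ}
    (hV : Module.finrank F V = 2 * n) {ε : ℤ} (hs : gsum Q = ε * (Fintype.card F : ℤ) ^ n) :
    Tor F n ε (orderOf g) := by
  obtain ⟨Q', φ, h1, h2, h3⟩ := exists_coords hQ hV
  exact ⟨Fin (2 * n), inferInstance, inferInstance, Q', orthConj φ h1 g, h2, Fintype.card_fin _,
    h3.trans hs, MulEquiv.orderOf_eq _ _⟩

theorem tor_pow {n o : ℕ} {ε : ℤ} (h : Tor F n ε o) (ho : 0 < o) {d : ℕ} (hd : d ∣ o) : Tor F n ε d := by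
  obtain ⟨ι, i1, i2, Q, g, h1, h2, h3, h4⟩ := h
  refine ⟨ι, i1, i2, Q, g ^ (o / d), h1, h2, h3, ?_⟩
  rw [orderOf_pow_of_dvd (Nat.div_pos (Nat.le_of_dvd ho hd) (Nat.pos_of_dvd_of_pos hd ho)).ne'
    (by rw [h4]; exact Nat.div_dvd_of_dvd hd), h4, Nat.div_div_self hd ho.ne']

/-! ### Orthogonal sums -/

section Sums

open H44

variable {α β : Type} [Fintype α] [DecidableEq α] [Fintype β] [DecidableEq β]
  {Q₁ : QuadraticForm F (α → F)} {Q₂ : QuadraticForm F (β → F)}

theorem theta_zero : H48.QuadEven.theta (0 : F) = 1 := if_pos ⟨0, by simp⟩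

theorem gsum_sumForm [CharP F 2] (Q₁ : QuadraticForm F (α → F)) (Q₂ : QuadraticForm F (β → F)) :
    gsum (sumForm Q₁ Q₂) = gsum Q₁ * gsum Q₂ := by
  rw [gsum, gsum, gsum, Finset.sum_mul_sum, ← Finset.sum_product']
  refine Fintype.sum_equiv (Equiv.sumArrowEquivProdArrow α β F) _ _ fun v => ?_
  rw [coe_sumForm, H48.QuadEven.theta_add]
  rfl

/-- The pair homomorphism. -/
def sumHom : orthGroup Q₁ × orthGroup Q₂ →* orthGroup (sumForm Q₁ Q₂) :=
  MonoidHom.mk' (fun p => sumOrth p.1 p.2) fun p q => sumOrth_mul _ _ _ _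

theorem orderOf_sumOrth (g : orthGroup Q₁) (h : orthGroup Q₂) :
    orderOf (sumOrth g h) = Nat.lcm (orderOf g) (orderOf h) := by
  have hinj : Function.Injective (sumHom (Q₁ := Q₁) (Q₂ := Q₂)) := by
    rintro ⟨a, b⟩ ⟨a', b'⟩ e
    have e' : ∀ x, (sumOrth a b).1 x = (sumOrth a' b').1 x := fun x => by
      have := congrArg (fun t : orthGroup (sumForm Q₁ Q₂) => t.1 x) e
      exact this
    refine Prod.ext (orth_ext fun x => ?_) (orth_ext fun x => ?_)
    · simpa [sumOrth_apply] using congrArg (fun t => t ∘ Sum.inl) (e' (Sum.elim x 0))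
    · simpa [sumOrth_apply] using congrArg (fun t => t ∘ Sum.inr) (e' (Sum.elim 0 x))
  rw [show sumOrth g h = sumHom (g, h) from rfl, orderOf_injective _ hinj, Prod.orderOf_mk]

theorem sumOrth_pow (g : orthGroup Q₁) (h : orthGroup Q₂) (i : ℕ) :
    sumOrth g h ^ i = sumOrth (g ^ i) (h ^ i) := (map_pow (sumHom (Q₁ := Q₁) (Q₂ := Q₂)) (g, h) i).symm

omit [DecidableEq F] [Fintype F] in
theorem sum_range_mul_pow {V : Type*} [AddCommGroup V] [Module F V] {Q : QuadraticForm F V}
    (g : orthGroup Q) (c : ℕ) (v : V) :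
    ∑ i ∈ Finset.range (c * orderOf g), (g ^ i).1 v = c • ∑ i ∈ Finset.range (orderOf g), (g ^ i).1 v := by
  induction c with
  | zero => simp
  | succ c ih =>
    rw [Nat.succ_mul, Finset.sum_range_add, ih, succ_nsmul]
    congr 1
    refine Finset.sum_congr rfl fun i _ => ?_
    rw [pow_add, pow_mul', pow_orderOf_eq_one, one_pow, one_mul]

theorem doub_left [CharP F 2] {g : orthGroup Q₁} (h : orthGroup Q₂) (hg : Doub g) {c : ℕ} (hc : Odd c)
    (ho : Nat.lcm (orderOf g) (orderOf h) = c * orderOf g) : Doub (sumOrth g h) := by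
  obtain ⟨v, hv⟩ := hg
  refine ⟨Sum.elim v 0, fun e => hv ?_⟩
  have e1 := congrArg (fun t : α ⊕ β → F => t ∘ Sum.inl) e
  simp only [orderOf_sumOrth, ho, sumOrth_pow, sumOrth_apply, Sum.elim_comp_inl] at e1
  have e2 : ∑ i ∈ Finset.range (c * orderOf g), (g ^ i).1 v = 0 := by
    funext a
    simpa [Finset.sum_apply] using congrFun e1 a
  rw [sum_range_mul_pow] at e2
  obtain ⟨k, rfl⟩ := hc
  have h2 : (2 : F) = 0 := CharTwo.two_eq_zero
  rwa [← Nat.cast_smul_eq_nsmul F, Nat.cast_add, Nat.cast_mul, Nat.cast_ofNat, h2, zero_mul, zero_add,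
    Nat.cast_one, one_smul] at e2

theorem doub_right [CharP F 2] (g : orthGroup Q₁) {h : orthGroup Q₂} (hh : Doub h) {c : ℕ} (hc : Odd c)
    (ho : Nat.lcm (orderOf g) (orderOf h) = c * orderOf h) : Doub (sumOrth g h) := by
  obtain ⟨v, hv⟩ := hh
  refine ⟨Sum.elim 0 v, fun e => hv ?_⟩
  have e1 := congrArg (fun t : α ⊕ β → F => t ∘ Sum.inr) e
  simp only [orderOf_sumOrth, ho, sumOrth_pow, sumOrth_apply, Sum.elim_comp_inr] at e1
  have e2 : ∑ i ∈ Finset.range (c * orderOf h), (h ^ i).1 v = 0 := by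
    funext a
    simpa [Finset.sum_apply] using congrFun e1 a
  rw [sum_range_mul_pow] at e2
  obtain ⟨k, rfl⟩ := hc
  have h2 : (2 : F) = 0 := CharTwo.two_eq_zero
  rwa [← Nat.cast_smul_eq_nsmul F, Nat.cast_add, Nat.cast_mul, Nat.cast_ofNat, h2, zero_mul, zero_add,
    Nat.cast_one, one_smul] at e2

variable [CharP F 2]

theorem Tor.add {n m o o' : ℕ} {ε δ : ℤ} (h : Tor F n ε o) (h' : Tor F m δ o') :
    Tor F (n + m) (ε * δ) (Nat.lcm o o') := by
  obtain ⟨ι, i1, i2, Q, g, h1, h2, h3, rfl⟩ := h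
  obtain ⟨κ, j1, j2, R, k, k1, k2, k3, rfl⟩ := h'
  refine ⟨ι ⊕ κ, inferInstance, inferInstance, sumForm Q R, sumOrth g k, sumForm_nondeg h1 k1, ?_, ?_,
    orderOf_sumOrth g k⟩
  · rw [Fintype.card_sum, h2, k2]; ring
  · rw [gsum_sumForm, h3, k3, pow_add]; ring

theorem Uni.add {n m o o' : ℕ} {ε δ : ℤ} {d d' : Multiplicative (ZMod 2)} (h : Uni F n ε o d)
    (h' : Uni F m δ o' d') (hd : o' ∣ o) : Uni F (n + m) (ε * δ) o (d * d') := by
  obtain ⟨ι, i1, i2, Q, g, h1, h2, h3, rfl, rfl, h6⟩ := h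
  obtain ⟨κ, j1, j2, R, k, k1, k2, k3, rfl, rfl, -⟩ := h'
  have hl : Nat.lcm (orderOf g) (orderOf k) = 1 * orderOf g := by rw [one_mul, Nat.lcm_eq_left hd]
  refine ⟨ι ⊕ κ, inferInstance, inferInstance, sumForm Q R, sumOrth g k, sumForm_nondeg h1 k1, ?_, ?_,
    by rw [orderOf_sumOrth, Nat.lcm_eq_left hd], sumOrth_dickson g k, doub_left k h6 odd_one hl⟩
  · rw [Fintype.card_sum, h2, k2]; ring
  · rw [gsum_sumForm, h3, k3, pow_add]; ring

end Sums

/-! ### Linear sums -/

theorem sum_theta_linear [CharP F 2] {U : Type*} [AddCommGroup U] [Module F U] [Fintype U]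
    (φ : U →ₗ[F] F) [Decidable (φ = 0)] :
    ∑ u : U, H48.QuadEven.theta (φ u) = if φ = 0 then (Fintype.card U : ℤ) else 0 := by
  split_ifs with h
  · simp [h, theta_zero]
  · obtain ⟨u, hu⟩ : ∃ u, φ u ≠ 0 := by
      by_contra hcon
      push Not at hcon
      exact h (LinearMap.ext hcon)
    obtain ⟨x, hx⟩ := H48.QuadEven.exists_theta_neg (F := F)
    have h1 : φ ((x / φ u) • u) = x := by rw [map_smul, smul_eq_mul, div_mul_cancel₀ _ hu]
    have : ∑ v : U, H48.QuadEven.theta (φ v) = -∑ v : U, H48.QuadEven.theta (φ v) := by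
      conv_lhs => rw [← Fintype.sum_equiv (Equiv.addLeft ((x / φ u) • u)) _ _ (fun _ => rfl)]
      rw [← Finset.sum_neg_distrib]
      refine Finset.sum_congr rfl fun v _ => ?_
      simp only [Equiv.coe_addLeft, Function.comp_apply, map_add, h1, H48.QuadEven.theta_add, hx]
      ring
    omega

theorem gsum_sq [CharP F 2] {V : Type*} [AddCommGroup V] [Module F V] [Fintype V] {Q : QuadraticForm F V}
    (hQ : (polB Q).Nondegenerate) : gsum Q * gsum Q = (Fintype.card V : ℤ) := by
  refine H48.QuadEven.theta_sum_sq (P := polB Q) ⟨fun v w => qmap_add v w, fun a v => qmap_smul a v, fun v => ?_⟩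
    fun u hu => ?_
  · rw [polB_self, CharTwo.two_eq_zero, zero_mul]
  · obtain ⟨w, hw⟩ := exists_polB_ne_zero hQ hu
    exact ⟨w, by rwa [polB_comm]⟩

/-! ### Tori -/

section Tori

variable [CharP F 2]

theorem tor_split {n : ℕ} (hn : 0 < n) : Tor F n 1 (Fintype.card F ^ n - 1) := by
  classical
  haveI : Fact (Nat.Prime 2) := ⟨Nat.prime_two⟩
  haveI : NeZero n := ⟨hn.ne'⟩
  set K := FiniteField.Extension F 2 n
  letI := Fintype.ofFinite K
  have hK : Fintype.card K = Fintype.card F ^ n := by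
    rw [← Nat.card_eq_fintype_card, FiniteField.natCard_extension, Nat.card_eq_fintype_card]
  let B : LinearMap.BilinForm F (K × K) :=
    (Algebra.traceForm F K).compl₁₂ (LinearMap.fst F K K) (LinearMap.snd F K K)
  set Q : QuadraticForm F (K × K) := B.toQuadraticMap with hQdef
  have hQ : ∀ x y, Q (x, y) = Algebra.trace F K (x * y) := fun x y => by
    rw [hQdef, LinearMap.BilinMap.toQuadraticMap_apply]
    rfl
  have hpol : ∀ a b c d, polB Q (a, b) (c, d) = Algebra.trace F K (a * d) + Algebra.trace F K (c * b) := by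
    intro a b c d
    rw [polB_apply, QuadraticMap.polar, Prod.mk_add_mk, hQ, hQ, hQ, add_mul, mul_add, mul_add, map_add,
      map_add, map_add]
    ring
  have hnd : (polB Q).Nondegenerate := nondeg_left _ fun ⟨a, b⟩ h => by
    have ha : a = 0 := (traceForm_nondegenerate F K).1 a fun d => by
      have := h (0, d); rw [hpol, zero_mul, map_zero, add_zero] at this; exact this
    have hb : b = 0 := (traceForm_nondegenerate F K).1 b fun c => by
      have := h (c, 0)
      rw [hpol, mul_zero, map_zero, zero_add, mul_comm] at this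
      exact this
    rw [ha, hb]; rfl
  have hS : gsum Q = 1 * (Fintype.card F : ℤ) ^ n := by
    rw [gsum, Fintype.sum_prod_type, one_mul]
    have e : ∀ x : K, ∑ y : K, H48.QuadEven.theta (Q (x, y)) = if x = 0 then (Fintype.card K : ℤ) else 0 := by
      intro x
      have h1 := sum_theta_linear ((Algebra.traceForm F K) x)
      simp only [Algebra.traceForm_apply] at h1
      simp only [hQ]
      rw [h1]
      by_cases hx : x = 0
      · rw [if_pos hx, if_pos (by rw [hx, map_zero])]
      · rw [if_neg hx, if_neg fun e => hx ((traceForm_nondegenerate F K).1 x fun y => by rw [e]; rfl)]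
    rw [Finset.sum_congr rfl fun x _ => e x, Finset.sum_ite_eq' Finset.univ (0 : K)]
    simp [hK]
  obtain ⟨ω, hω⟩ := IsCyclic.exists_ofOrder_eq_natCard (α := Kˣ)
  let φ : Kˣ →* orthGroup Q :=
    MonoidHom.mk' (fun u => ⟨(LinearEquiv.prodCongr (u.mulLeftLinearEquiv F K) ((u⁻¹).mulLeftLinearEquiv F K)),
      fun ⟨x, y⟩ => by
        show Q ((u : K) * x, ((u⁻¹ : Kˣ) : K) * y) = Q (x, y)
        rw [hQ, hQ]
        congr 1
        rw [mul_mul_mul_comm, Units.mul_inv, one_mul]⟩)
      fun u v => orth_ext fun ⟨x, y⟩ => by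
        show (((u * v : Kˣ) : K) * x, (((u * v)⁻¹ : Kˣ) : K) * y) =
          ((u : K) * ((v : K) * x), ((u⁻¹ : Kˣ) : K) * (((v⁻¹ : Kˣ) : K) * y))
        rw [mul_inv, Units.val_mul, Units.val_mul, mul_assoc, mul_assoc]
  have hinj : Function.Injective φ := fun u v e => Units.ext (by
    have := congrArg (fun g : orthGroup Q => (g.1 (1, 1)).1) e
    exact (by simpa [φ] using this))
  have h := tor_mk Q hnd (φ ω) (n := n) (by rw [Module.finrank_prod, FiniteField.finrank_extension]; ring) hS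
  rwa [orderOf_injective φ hinj, hω, Nat.card_units, Nat.card_eq_fintype_card, hK] at h

theorem tor_nonsplit {n : ℕ} (hn : 0 < n) : Tor F n (-1) (Fintype.card F ^ n + 1) := by
  classical
  haveI : Fact (Nat.Prime 2) := ⟨Nat.prime_two⟩
  haveI : NeZero (2 * n) := ⟨by omega⟩
  set L := FiniteField.Extension F 2 (2 * n)
  letI := Fintype.ofFinite L
  haveI : CharP L 2 := charP_of_injective_algebraMap (algebraMap F L).injective 2
  set Qn := Fintype.card F ^ n with hQn
  have hQ2 : 2 ≤ Qn := le_trans Fintype.one_lt_card (Nat.le_self_pow hn.ne' _)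
  have hL : Fintype.card L = Qn * Qn := by
    rw [← Nat.card_eq_fintype_card, FiniteField.natCard_extension, Nat.card_eq_fintype_card, two_mul, pow_add]
  let σ : L ≃ₐ[F] L := FiniteField.frobeniusAlgEquivOfAlgebraic F L ^ n
  have hσ : ∀ x, σ x = x ^ Qn := fun x => by
    show (FiniteField.frobeniusAlgEquivOfAlgebraic F L ^ n) x = _
    rw [AlgEquiv.coe_pow, FiniteField.coe_frobeniusAlgEquivOfAlgebraic_iterate]
  have hσσ : ∀ x, σ (σ x) = x := fun x => by rw [hσ, hσ, ← pow_mul, ← hL, FiniteField.pow_card]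
  have htr : ∀ x, Algebra.trace F L (σ x) = Algebra.trace F L x := fun x => Algebra.trace_eq_of_algEquiv σ x
  have hord : ∃ γ : Lˣ, orderOf γ = Qn * Qn - 1 := by
    obtain ⟨γ, hγ⟩ := IsCyclic.exists_ofOrder_eq_natCard (α := Lˣ)
    exact ⟨γ, by rw [hγ, Nat.card_units, Nat.card_eq_fintype_card, hL]⟩
  obtain ⟨γ, hγ⟩ := hord
  have hfac : (Qn - 1) * (Qn + 1) = Qn * Qn - 1 := by
    rw [mul_comm]; exact (Nat.mul_self_sub_mul_self_eq Qn 1).symm.trans (by rw [one_mul])
  -- an element whose sum with its conjugate is one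
  obtain ⟨c, hc⟩ : ∃ c : L, c + σ c = 1 := by
    have hne : (γ : L) ^ Qn ≠ γ := fun e => by
      have h1 : γ ^ (Qn - 1) = 1 := by
        refine mul_right_cancel (b := γ) ?_
        rw [← pow_succ, Nat.sub_add_cancel (by omega), one_mul]
        exact Units.ext (by rw [Units.val_pow_eq_pow_val]; exact e)
      have := Nat.le_of_dvd (by omega) (hγ ▸ orderOf_dvd_of_pow_eq_one h1)
      have : Qn * 1 < Qn * Qn := Nat.mul_lt_mul_of_pos_left (by omega) (by omega)
      omega
    have hs : (γ : L) + σ γ ≠ 0 := by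
      rw [hσ]; intro e
      exact hne (by linear_combination e - (γ : L) * (CharTwo.two_eq_zero (R := L)))
    refine ⟨(γ : L) / ((γ : L) + σ γ), ?_⟩
    rw [map_div₀, map_add, hσσ, add_comm (σ (γ : L)) (γ : L), ← add_div, div_self hs]
  let B : LinearMap.BilinForm F L :=
    (Algebra.traceForm F L).compl₁₂ (LinearMap.mulLeft F c) σ.toLinearMap
  set Q : QuadraticForm F L := B.toQuadraticMap with hQdef
  have hQ : ∀ x, Q x = Algebra.trace F L (c * x * σ x) := fun x => by
    rw [hQdef, LinearMap.BilinMap.toQuadraticMap_apply]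
    rfl
  have hpol : ∀ x y, polB Q x y = Algebra.trace F L (x * σ y) := fun x y => by
    rw [polB_apply, QuadraticMap.polar, hQ, hQ, hQ, map_add]
    have e : c * (x + y) * (σ x + σ y) = c * x * σ x + c * y * σ y + (c * x * σ y + c * y * σ x) := by ring
    rw [e, map_add, map_add, map_add, ← htr (c * y * σ x)]
    have e2 : σ (c * y * σ x) = σ c * (x * σ y) := by rw [map_mul, map_mul, hσσ]; ring
    have e3 : Algebra.trace F L (c * x * σ y) + Algebra.trace F L (σ c * (x * σ y)) =
        Algebra.trace F L (x * σ y) := by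
      rw [← map_add, show c * x * σ y + σ c * (x * σ y) = (c + σ c) * (x * σ y) by ring, hc, one_mul]
    rw [e2]
    linear_combination e3
  have hnd : (polB Q).Nondegenerate := nondeg_left _ fun x h =>
    (traceForm_nondegenerate F L).1 x fun y => by
      have := h (σ y); rw [hpol, hσσ] at this; exact this
  -- the norm one torus
  let π : Lˣ →* Lˣ := powMonoidHom (Qn + 1)
  have hker : Nat.card π.ker = Qn + 1 := by
    rw [IsCyclic.card_powMonoidHom_ker, Nat.card_units, Nat.card_eq_fintype_card, hL, ← hfac,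
      Nat.gcd_mul_left_left]
  have hS : gsum Q = -1 * (Fintype.card F : ℤ) ^ n := by
    have hsq := gsum_sq hnd
    rw [hL] at hsq
    have hdiv : ((Qn + 1 : ℕ) : ℤ) ∣ gsum Q - 1 := by
      rw [gsum, ← Finset.add_sum_erase _ _ (Finset.mem_univ (0 : L)),
        show H48.QuadEven.theta (Q (0 : L)) = 1 by rw [map_zero, theta_zero], add_sub_cancel_left]
      let f : Lˣ → ℤ := fun z => H48.QuadEven.theta (Algebra.trace F L (c * (z : L)))
      have e1 : ∑ x ∈ (Finset.univ : Finset L).erase 0, H48.QuadEven.theta (Q x) = ∑ u : Lˣ, f (π u) := by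
        symm
        refine Finset.sum_bij (fun u _ => (u : L)) (fun u _ => by simp [u.ne_zero]) (fun u _ v _ e => Units.ext e)
          (fun x hx => ⟨Units.mk0 x (Finset.ne_of_mem_erase hx), Finset.mem_univ _, rfl⟩) fun u _ => ?_
        simp only [f, π, powMonoidHom_apply, Units.val_pow_eq_pow_val, Units.val_mul, hQ, hσ, pow_succ]
        congr 2
        ring
      rw [e1, ← Finset.sum_fiberwise_of_maps_to (g := π) (t := Finset.univ.image π)
        (fun u _ => Finset.mem_image_of_mem _ (Finset.mem_univ u))]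
      refine Finset.dvd_sum fun z hz => ?_
      obtain ⟨u₀, -, rfl⟩ := Finset.mem_image.1 hz
      rw [Finset.sum_congr rfl fun u hu => by rw [(Finset.mem_filter.1 hu).2], Finset.sum_const, nsmul_eq_mul]
      refine Dvd.dvd.mul_right ?_ _
      rw [← hker, Nat.card_eq_fintype_card, Fintype.card_subtype]
      refine Int.natCast_dvd_natCast.2 (dvd_of_eq ?_)
      refine Finset.card_bij (fun u _ => u₀ * u) (fun u hu => ?_) (fun u _ v _ e => mul_left_cancel e)
        fun u hu => ⟨u₀⁻¹ * u, ?_, mul_inv_cancel_left _ _⟩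
      · simp only [Finset.mem_filter, Finset.mem_univ, true_and, MonoidHom.mem_ker] at hu ⊢
        rw [map_mul, hu, mul_one]
      · simp only [Finset.mem_filter, Finset.mem_univ, true_and, MonoidHom.mem_ker] at hu ⊢
        rw [map_mul, hu, map_inv, inv_mul_cancel]
    have hpm : gsum Q = Qn ∨ gsum Q = -(Qn : ℤ) := by
      have h0 : (gsum Q - Qn) * (gsum Q + Qn) = 0 := by push_cast at hsq; linear_combination hsq
      rcases mul_eq_zero.1 h0 with h | h
      · exact Or.inl (sub_eq_zero.1 h)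
      · exact Or.inr (eq_neg_of_add_eq_zero_left h)
    rcases hpm with e | e
    · exfalso
      rw [e] at hdiv
      have := Int.le_of_dvd (by omega) hdiv
      omega
    · rw [e, hQn]; push_cast; ring
  let ω : Lˣ := γ ^ (Qn - 1)
  have hωo : orderOf ω = Qn + 1 := by
    rw [orderOf_pow_of_dvd (by omega) (hγ ▸ hfac ▸ dvd_mul_right _ _), hγ, ← hfac,
      Nat.mul_div_cancel_left _ (by omega)]
  let φ : π.ker →* orthGroup Q :=
    MonoidHom.mk' (fun u => ⟨(u : Lˣ).mulLeftLinearEquiv F L, fun x => by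
        have hu : ((u : Lˣ) : L) * σ ((u : Lˣ) : L) = 1 := by
          rw [hσ, mul_comm, ← pow_succ, ← Units.val_pow_eq_pow_val]
          exact (congrArg Units.val u.2).trans Units.val_one
        show Q (((u : Lˣ) : L) * x) = Q x
        rw [hQ, hQ]
        refine congrArg (Algebra.trace F L) ?_
        rw [map_mul σ]
        linear_combination (c * x * σ x) * hu⟩)
      fun u v => orth_ext fun x => by
        show (((u * v : π.ker) : Lˣ) : L) * x = ((u : Lˣ) : L) * (((v : Lˣ) : L) * x)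
        rw [Subgroup.coe_mul, Units.val_mul, mul_assoc]
  have hinj : Function.Injective φ := fun u v e => Subtype.ext (Units.ext (by
    have := congrArg (fun g : orthGroup Q => g.1 1) e
    exact (by simpa [φ] using this)))
  have hωmem : ω ∈ π.ker := by
    rw [MonoidHom.mem_ker, powMonoidHom_apply, ← hωo, pow_orderOf_eq_one]
  have h := tor_mk Q hnd (φ ⟨ω, hωmem⟩) (n := n) (FiniteField.finrank_extension F 2 (2 * n)) hS
  rwa [orderOf_injective φ hinj, ← Subgroup.orderOf_coe, hωo] at h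

end Tori

end H64
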