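import Mathlib

/-! A fixed-point-free copy of `2·S₅` in `GL(4,7)`, as codes. -/

namespace H64

/-- Product of `4×4` matrix codes modulo 7. -/
def c7Mul (A B : List ℕ) : List ℕ :=
  (List.range 16).map fun k => (A.getD (4 * (k / 4)) 0 * B.getD (k % 4) 0 +
    A.getD (4 * (k / 4) + 1) 0 * B.getD (k % 4 + 4) 0 + A.getD (4 * (k / 4) + 2) 0 * B.getD (k % 4 + 8) 0 +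
    A.getD (4 * (k / 4) + 3) 0 * B.getD (k % 4 + 12) 0) % 7

/-- The identity code. -/
def c7One : List ℕ := [1, 0, 0, 0, 0, 1, 0, 0, 0, 0, 1, 0, 0, 0, 0, 1]

/-- The code of `-1`. -/
def c7Neg : List ℕ := [6, 0, 0, 0, 0, 6, 0, 0, 0, 0, 6, 0, 0, 0, 0, 6]

/-- The zero code. -/
def c7Zero : List ℕ := [0, 0, 0, 0, 0, 0, 0, 0, 0, 0, 0, 0, 0, 0, 0, 0]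

/-- Sum of codes. -/
def c7Add (A B : List ℕ) : List ℕ := (List.range 16).map fun k => (A.getD k 0 + B.getD k 0) % 7

/-- Power and geometric sum. -/
def c7Geom (A : List ℕ) : ℕ → List ℕ × List ℕ
  | 0 => (c7One, c7Zero)
  | n + 1 => (c7Mul (c7Geom A n).1 A, c7Add (c7Geom A n).2 (c7Geom A n).1)

/-- First generator (order 8). -/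
def twoS5a : List ℕ := [4, 4, 0, 3, 1, 3, 6, 0, 6, 6, 4, 4, 5, 1, 1, 3]

/-- Second generator (order 3). -/
def twoS5b : List ℕ := [0, 6, 4, 6, 2, 0, 2, 4, 4, 3, 6, 1, 1, 4, 5, 6]

/-- The 240 elements with their orders. -/
def twoS5List : List (List ℕ × ℕ) := [
  ([1, 0, 0, 0, 0, 1, 0, 0, 0, 0, 1, 0, 0, 0, 0, 1], 1),
  ([0, 3, 6, 0, 1, 0, 0, 6, 4, 0, 0, 4, 0, 4, 6, 0], 4),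
  ([0, 6, 4, 6, 2, 0, 2, 4, 4, 3, 6, 1, 1, 4, 5, 6], 3),
  ([4, 4, 0, 3, 1, 3, 6, 0, 6, 6, 4, 4, 5, 1, 1, 3], 8),
  ([6, 0, 0, 0, 0, 6, 0, 0, 0, 0, 6, 0, 0, 0, 0, 6], 2),
  ([1, 3, 1, 3, 1, 1, 1, 1, 6, 2, 2, 0, 3, 6, 0, 2], 5),
  ([4, 3, 0, 3, 6, 3, 6, 0, 1, 6, 4, 3, 5, 6, 6, 3], 8),
  ([2, 4, 0, 4, 6, 2, 6, 0, 4, 5, 1, 6, 4, 4, 2, 1], 5),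
  ([6, 1, 3, 1, 5, 6, 5, 3, 3, 4, 0, 6, 6, 3, 2, 0], 3),
  ([4, 1, 4, 2, 2, 3, 4, 3, 4, 1, 3, 4, 2, 3, 1, 4], 12),
  ([4, 6, 2, 6, 5, 3, 5, 5, 4, 6, 1, 4, 5, 3, 1, 6], 12),
  ([0, 4, 1, 0, 6, 0, 0, 1, 3, 0, 0, 3, 0, 3, 1, 0], 4),
  ([0, 1, 3, 1, 5, 0, 5, 3, 3, 4, 1, 6, 6, 3, 2, 1], 6),
  ([3, 3, 0, 4, 6, 4, 1, 0, 1, 1, 3, 3, 2, 6, 6, 4], 8),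
  ([4, 1, 1, 3, 5, 4, 1, 1, 2, 1, 4, 6, 5, 2, 2, 4], 6),
  ([6, 1, 0, 4, 5, 6, 6, 0, 4, 5, 5, 3, 4, 4, 1, 5], 10),
  ([3, 6, 1, 1, 5, 4, 2, 6, 6, 0, 6, 4, 0, 1, 1, 1], 8),
  ([0, 1, 4, 2, 2, 0, 4, 3, 3, 0, 6, 5, 0, 4, 3, 1], 8),
  ([6, 0, 3, 2, 0, 6, 3, 3, 5, 0, 5, 4, 0, 5, 6, 5], 10),
  ([2, 1, 2, 5, 2, 5, 3, 5, 3, 2, 6, 3, 4, 4, 6, 1], 8),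
  ([5, 0, 1, 3, 0, 5, 1, 1, 6, 2, 6, 4, 3, 6, 6, 6], 10),
  ([6, 2, 3, 2, 4, 1, 4, 4, 4, 0, 0, 6, 0, 3, 5, 0], 8),
  ([5, 5, 0, 2, 3, 2, 4, 0, 6, 1, 5, 3, 2, 1, 6, 2], 8),
  ([4, 3, 0, 4, 6, 3, 1, 0, 1, 1, 5, 6, 2, 6, 5, 2], 8),
  ([6, 4, 5, 5, 1, 1, 3, 2, 4, 2, 2, 6, 4, 3, 5, 5], 8),
  ([2, 3, 3, 6, 1, 2, 2, 3, 6, 6, 1, 1, 2, 6, 5, 1], 5),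
  ([6, 4, 6, 4, 6, 6, 6, 6, 1, 5, 5, 0, 4, 1, 0, 5], 10),
  ([3, 4, 0, 4, 1, 4, 1, 0, 6, 1, 3, 4, 2, 1, 1, 4], 8),
  ([5, 3, 0, 3, 1, 5, 1, 0, 3, 2, 6, 1, 3, 3, 5, 6], 10),
  ([1, 6, 4, 6, 2, 1, 2, 4, 4, 3, 0, 1, 1, 4, 5, 0], 6),
  ([3, 6, 3, 5, 5, 4, 3, 4, 3, 6, 4, 3, 5, 4, 6, 3], 12),
  ([3, 1, 5, 1, 2, 4, 2, 2, 3, 1, 6, 3, 2, 4, 6, 1], 12),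
  ([5, 5, 6, 5, 4, 5, 4, 6, 6, 3, 5, 6, 1, 6, 2, 5], 5),
  ([2, 5, 0, 0, 3, 5, 0, 0, 5, 0, 1, 1, 0, 2, 2, 6], 12),
  ([4, 6, 6, 4, 2, 4, 6, 6, 5, 6, 4, 1, 2, 5, 5, 4], 6),
  ([0, 5, 6, 3, 3, 0, 6, 1, 0, 1, 4, 0, 2, 0, 0, 3], 12),
  ([5, 2, 0, 2, 4, 2, 4, 0, 0, 2, 5, 5, 4, 0, 3, 2], 4),
  ([3, 0, 6, 4, 0, 4, 1, 1, 0, 6, 0, 5, 5, 0, 3, 0], 12),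
  ([3, 3, 3, 2, 6, 4, 4, 4, 3, 1, 4, 6, 2, 4, 5, 3], 12),
  ([1, 2, 6, 2, 3, 1, 3, 6, 3, 1, 0, 5, 5, 3, 4, 0], 6),
  ([2, 4, 4, 5, 6, 2, 4, 4, 3, 6, 1, 0, 2, 3, 0, 1], 5),
  ([6, 3, 4, 1, 1, 6, 5, 4, 5, 2, 1, 4, 3, 5, 6, 1], 4),
  ([3, 4, 0, 0, 1, 4, 0, 0, 0, 0, 3, 3, 0, 0, 6, 4], 4),
  ([6, 6, 1, 6, 5, 1, 5, 6, 1, 0, 3, 5, 0, 6, 3, 4], 12),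
  ([0, 4, 3, 2, 6, 0, 3, 3, 3, 5, 0, 3, 4, 3, 1, 0], 4),
  ([1, 3, 5, 6, 6, 6, 5, 2, 3, 6, 4, 1, 5, 4, 2, 3], 12),
  ([5, 3, 5, 6, 6, 2, 5, 2, 4, 0, 1, 0, 0, 3, 0, 6], 8),
  ([3, 5, 0, 4, 3, 4, 1, 0, 0, 3, 3, 2, 6, 0, 4, 4], 4),
  ([5, 1, 3, 3, 2, 2, 6, 4, 4, 5, 6, 0, 3, 3, 0, 1], 8),
  ([3, 3, 6, 0, 1, 3, 0, 6, 3, 1, 5, 4, 5, 3, 6, 5], 6),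
  ([3, 2, 0, 1, 4, 4, 2, 0, 0, 5, 3, 5, 3, 0, 3, 4], 4),
  ([4, 0, 5, 1, 0, 4, 5, 5, 2, 1, 4, 0, 5, 2, 0, 4], 6),
  ([6, 1, 0, 0, 2, 1, 0, 0, 5, 0, 5, 5, 0, 2, 3, 2], 12),
  ([5, 1, 5, 1, 5, 5, 5, 5, 4, 1, 6, 2, 5, 4, 3, 6], 10),
  ([0, 2, 4, 0, 3, 0, 0, 4, 0, 4, 1, 5, 6, 0, 4, 1], 6),
  ([3, 6, 6, 4, 2, 3, 6, 6, 5, 6, 3, 1, 2, 5, 5, 3], 3),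
  ([1, 6, 0, 3, 2, 1, 1, 0, 3, 2, 2, 4, 3, 3, 6, 2], 5),
  ([4, 1, 6, 6, 2, 3, 5, 1, 1, 0, 1, 3, 0, 6, 6, 6], 8),
  ([0, 6, 3, 5, 5, 0, 3, 4, 4, 0, 1, 2, 0, 3, 4, 6], 8),
  ([1, 0, 4, 5, 0, 1, 4, 4, 2, 0, 2, 3, 0, 2, 1, 2], 5),
  ([5, 6, 5, 2, 5, 2, 4, 2, 4, 5, 1, 4, 3, 3, 1, 6], 8),
  ([2, 0, 6, 4, 0, 2, 6, 6, 1, 5, 1, 3, 4, 1, 1, 1], 5),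
  ([1, 5, 4, 5, 3, 6, 3, 3, 3, 0, 0, 1, 0, 4, 2, 0], 8),
  ([2, 2, 0, 5, 4, 5, 3, 0, 1, 6, 2, 4, 5, 6, 1, 5], 8),
  ([3, 4, 0, 3, 1, 4, 6, 0, 6, 6, 2, 1, 5, 1, 2, 5], 8),
  ([1, 3, 2, 2, 6, 6, 4, 5, 3, 5, 5, 1, 3, 4, 2, 2], 8),
  ([5, 4, 4, 1, 6, 5, 5, 4, 1, 1, 6, 6, 5, 1, 2, 6], 10),
  ([6, 5, 0, 5, 4, 6, 4, 0, 3, 2, 4, 5, 3, 3, 4, 4], 5),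
  ([5, 1, 0, 6, 5, 5, 2, 0, 6, 3, 5, 2, 1, 6, 3, 5], 5),
  ([4, 2, 4, 3, 4, 3, 6, 3, 5, 5, 4, 5, 3, 2, 3, 3], 12),
  ([3, 0, 2, 5, 0, 4, 3, 5, 5, 2, 1, 5, 4, 2, 3, 6], 12),
  ([2, 1, 5, 1, 5, 2, 5, 5, 5, 0, 1, 2, 0, 5, 3, 1], 5),
  ([2, 6, 0, 3, 5, 5, 6, 0, 1, 6, 3, 3, 5, 6, 6, 4], 8),
  ([2, 4, 3, 3, 1, 5, 6, 4, 4, 5, 3, 4, 3, 3, 1, 4], 8),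
  ([5, 4, 0, 2, 1, 2, 4, 0, 1, 1, 5, 2, 2, 6, 4, 2], 8),
  ([6, 6, 6, 4, 5, 1, 1, 1, 1, 5, 3, 5, 3, 6, 3, 4], 8),
  ([6, 2, 4, 0, 3, 6, 0, 4, 0, 4, 0, 5, 6, 0, 4, 0], 3),
  ([2, 6, 3, 5, 5, 5, 3, 4, 3, 6, 2, 0, 5, 4, 0, 5], 12),
  ([6, 2, 2, 6, 3, 6, 2, 2, 3, 6, 5, 1, 2, 3, 5, 5], 10),
  ([1, 4, 1, 6, 1, 6, 5, 6, 6, 0, 4, 6, 0, 1, 5, 3], 8),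
  ([0, 5, 1, 5, 4, 0, 4, 1, 4, 6, 1, 2, 2, 4, 3, 1], 6),
  ([4, 0, 0, 0, 0, 4, 0, 0, 1, 6, 2, 0, 2, 1, 0, 2], 3),
  ([4, 5, 0, 2, 4, 4, 3, 0, 4, 5, 6, 5, 4, 4, 4, 6], 5),
  ([3, 5, 4, 4, 3, 4, 1, 3, 5, 2, 3, 2, 4, 2, 4, 4], 12),
  ([5, 2, 0, 1, 3, 5, 5, 0, 1, 4, 5, 1, 6, 1, 5, 5], 5),
  ([2, 2, 5, 2, 4, 5, 4, 2, 4, 5, 5, 1, 3, 3, 2, 2], 8),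
  ([6, 3, 6, 1, 6, 1, 2, 1, 1, 0, 3, 1, 0, 6, 2, 4], 8),
  ([0, 3, 5, 6, 6, 0, 5, 2, 3, 6, 2, 5, 5, 4, 3, 5], 12),
  ([6, 0, 4, 3, 0, 1, 6, 3, 3, 5, 5, 6, 3, 4, 5, 2], 8),
  ([2, 4, 5, 4, 6, 2, 6, 5, 0, 3, 4, 3, 1, 0, 1, 4], 3),
  ([1, 2, 2, 6, 3, 1, 2, 2, 2, 0, 2, 1, 0, 2, 5, 2], 5),
  ([2, 3, 3, 2, 1, 2, 3, 3, 5, 0, 1, 0, 0, 5, 0, 1], 5),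
  ([1, 4, 6, 6, 1, 6, 5, 1, 1, 0, 5, 0, 0, 6, 0, 2], 8),
  ([1, 0, 2, 6, 0, 6, 5, 5, 3, 0, 5, 4, 0, 4, 1, 2], 8),
  ([0, 6, 0, 6, 5, 0, 5, 0, 6, 3, 6, 6, 6, 1, 5, 1], 8),
  ([3, 2, 6, 6, 4, 4, 5, 1, 6, 0, 6, 1, 0, 1, 2, 1], 12),
  ([5, 1, 0, 4, 2, 2, 1, 0, 6, 1, 4, 4, 2, 1, 1, 3], 8),
  ([0, 1, 2, 0, 5, 0, 0, 2, 4, 3, 6, 6, 1, 4, 2, 6], 3),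
  ([2, 1, 5, 5, 2, 5, 3, 2, 4, 2, 5, 2, 4, 3, 4, 2], 8),
  ([2, 0, 1, 3, 0, 2, 1, 1, 0, 1, 1, 4, 5, 0, 6, 1], 5),
  ([5, 0, 3, 2, 0, 2, 4, 4, 3, 1, 5, 6, 2, 4, 5, 2], 12),
  ([0, 2, 0, 2, 4, 0, 4, 0, 6, 1, 6, 3, 2, 1, 6, 1], 8),
  ([3, 5, 4, 5, 4, 3, 4, 4, 5, 6, 3, 2, 2, 5, 3, 3], 3),
  ([4, 4, 3, 4, 1, 3, 1, 4, 4, 2, 5, 4, 4, 3, 1, 2], 8),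
  ([4, 0, 2, 6, 0, 4, 2, 2, 5, 6, 4, 0, 2, 5, 0, 4], 6),
  ([6, 2, 2, 4, 3, 6, 6, 2, 1, 1, 4, 2, 5, 1, 3, 4], 5),
  ([2, 3, 6, 0, 1, 2, 0, 6, 3, 1, 4, 4, 5, 3, 6, 4], 3),
  ([2, 1, 0, 5, 2, 5, 3, 0, 0, 0, 2, 6, 0, 0, 5, 5], 4),
  ([2, 2, 1, 2, 3, 2, 3, 1, 1, 4, 2, 1, 6, 1, 5, 2], 10),
  ([5, 2, 0, 0, 4, 2, 0, 0, 2, 0, 6, 6, 0, 5, 5, 1], 12),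
  ([3, 1, 1, 3, 5, 3, 1, 1, 2, 1, 3, 6, 5, 2, 2, 3], 3),
  ([0, 2, 1, 4, 4, 0, 1, 6, 0, 6, 3, 0, 5, 0, 0, 4], 12),
  ([2, 5, 0, 5, 3, 5, 3, 0, 0, 5, 2, 2, 3, 0, 4, 5], 4),
  ([4, 0, 1, 3, 0, 3, 6, 6, 0, 1, 0, 2, 2, 0, 4, 0], 12),
  ([4, 4, 4, 5, 1, 3, 3, 3, 4, 6, 3, 1, 5, 3, 2, 4], 12),
  ([6, 5, 1, 5, 4, 6, 4, 1, 4, 6, 0, 2, 2, 4, 3, 0], 3),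
  ([5, 3, 3, 2, 1, 5, 3, 3, 4, 1, 6, 0, 5, 4, 0, 6], 10),
  ([1, 4, 3, 6, 6, 1, 2, 3, 2, 5, 6, 3, 4, 2, 1, 6], 4),
  ([4, 3, 0, 0, 6, 3, 0, 0, 0, 0, 4, 4, 0, 0, 1, 3], 4),
  ([1, 1, 6, 1, 2, 6, 2, 1, 6, 0, 4, 2, 0, 1, 4, 3], 12),
  ([0, 3, 4, 5, 1, 0, 4, 4, 4, 2, 0, 4, 3, 4, 6, 0], 4),
  ([6, 4, 2, 1, 1, 1, 2, 5, 4, 1, 3, 6, 2, 3, 5, 4], 12),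
  ([2, 4, 2, 1, 1, 5, 2, 5, 3, 0, 6, 0, 0, 4, 0, 1], 8),
  ([4, 2, 0, 3, 4, 3, 6, 0, 0, 4, 4, 5, 1, 0, 3, 3], 4),
  ([2, 6, 4, 4, 5, 5, 1, 3, 3, 2, 1, 0, 4, 4, 0, 6], 8),
  ([4, 4, 1, 0, 6, 4, 0, 1, 4, 6, 2, 3, 2, 4, 1, 2], 3),
  ([4, 5, 0, 6, 3, 3, 5, 0, 0, 2, 4, 2, 4, 0, 4, 3], 4),
  ([3, 0, 2, 6, 0, 3, 2, 2, 5, 6, 3, 0, 2, 5, 0, 3], 3),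
  ([1, 6, 0, 0, 5, 6, 0, 0, 2, 0, 2, 2, 0, 5, 4, 5], 12),
  ([2, 6, 2, 6, 2, 2, 2, 2, 3, 6, 1, 5, 2, 3, 4, 1], 5),
  ([0, 5, 3, 0, 4, 0, 0, 3, 0, 3, 6, 2, 1, 0, 3, 6], 3),
  ([5, 6, 1, 2, 2, 5, 3, 1, 1, 4, 5, 5, 6, 1, 4, 5], 5),
  ([0, 4, 0, 4, 1, 0, 1, 0, 0, 2, 0, 3, 4, 0, 6, 0], 4),
  ([2, 5, 1, 5, 4, 2, 4, 1, 3, 0, 5, 2, 0, 3, 3, 5], 4),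
  ([1, 0, 3, 4, 0, 6, 1, 4, 4, 2, 2, 1, 4, 3, 2, 5], 8),
  ([2, 3, 1, 3, 6, 5, 6, 6, 0, 1, 6, 2, 2, 0, 4, 1], 12),
  ([3, 1, 1, 2, 5, 3, 3, 1, 5, 5, 4, 6, 4, 5, 2, 4], 4),
  ([3, 6, 0, 6, 2, 3, 2, 0, 1, 3, 4, 1, 1, 1, 5, 4], 4),
  ([1, 0, 3, 2, 0, 1, 3, 3, 4, 1, 2, 4, 5, 4, 6, 2], 5),
  ([1, 6, 0, 1, 5, 6, 2, 0, 6, 4, 0, 6, 1, 1, 5, 0], 8),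
  ([6, 3, 1, 1, 6, 1, 2, 6, 6, 0, 2, 0, 0, 1, 0, 5], 8),
  ([5, 5, 5, 1, 3, 2, 2, 2, 3, 1, 0, 3, 2, 4, 6, 0], 12),
  ([2, 0, 0, 0, 0, 2, 0, 0, 6, 1, 4, 0, 5, 6, 0, 4], 3),
  ([0, 5, 0, 5, 3, 0, 3, 0, 1, 6, 1, 4, 5, 6, 1, 6], 8),
  ([4, 4, 2, 4, 6, 4, 6, 2, 5, 2, 3, 3, 3, 5, 1, 3], 4),
  ([5, 2, 0, 5, 4, 2, 3, 0, 0, 5, 5, 5, 3, 0, 3, 2], 4),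
  ([0, 1, 6, 4, 5, 0, 6, 6, 4, 2, 0, 6, 3, 4, 2, 0], 4),
  ([2, 0, 6, 1, 0, 5, 2, 1, 1, 0, 6, 4, 0, 6, 1, 1], 8),
  ([1, 1, 4, 1, 5, 1, 5, 4, 1, 1, 2, 3, 5, 1, 1, 2], 5),
  ([3, 6, 4, 6, 2, 3, 2, 4, 3, 4, 4, 1, 6, 3, 5, 4], 4),
  ([6, 6, 5, 0, 2, 6, 0, 5, 3, 4, 0, 1, 6, 3, 5, 0], 3),
  ([1, 5, 0, 6, 3, 6, 5, 0, 1, 3, 1, 1, 6, 6, 2, 6], 8),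
  ([1, 5, 3, 0, 4, 1, 0, 3, 0, 3, 0, 2, 1, 0, 3, 0], 6),
  ([6, 2, 0, 1, 4, 1, 2, 0, 6, 4, 6, 6, 1, 1, 5, 1], 8),
  ([1, 3, 0, 5, 6, 6, 3, 0, 6, 6, 0, 2, 5, 1, 4, 0], 8),
  ([5, 0, 1, 6, 0, 2, 5, 6, 6, 0, 1, 3, 0, 1, 6, 6], 8),
  ([6, 6, 3, 6, 2, 6, 2, 3, 6, 6, 5, 4, 2, 6, 6, 5], 10),
  ([1, 6, 0, 6, 5, 6, 5, 0, 6, 3, 1, 2, 6, 1, 4, 6], 8),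
  ([4, 3, 0, 5, 1, 4, 4, 0, 5, 2, 3, 4, 3, 5, 6, 3], 4),
  ([4, 5, 6, 3, 3, 3, 6, 1, 1, 2, 1, 6, 4, 6, 5, 6], 8),
  ([5, 2, 6, 2, 3, 5, 3, 6, 4, 0, 2, 5, 0, 4, 4, 2], 4),
  ([0, 3, 2, 3, 1, 0, 1, 2, 6, 5, 0, 4, 4, 6, 6, 0], 4),
  ([5, 4, 1, 0, 6, 5, 0, 1, 4, 6, 3, 3, 2, 4, 1, 3], 6),
  ([3, 2, 1, 4, 4, 4, 1, 6, 6, 5, 6, 1, 3, 1, 2, 1], 8),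
  ([4, 1, 3, 1, 5, 4, 5, 3, 4, 3, 3, 6, 1, 4, 2, 3], 4),
  ([6, 4, 0, 2, 1, 1, 4, 0, 1, 1, 0, 5, 2, 6, 3, 0], 8),
  ([6, 5, 2, 2, 3, 1, 4, 5, 5, 5, 4, 0, 3, 2, 0, 3], 12),
  ([0, 6, 1, 3, 2, 0, 1, 1, 3, 5, 0, 1, 4, 3, 5, 0], 4),
  ([6, 1, 0, 6, 2, 1, 5, 0, 1, 3, 0, 1, 6, 6, 2, 0], 8),
  ([0, 5, 2, 6, 4, 0, 2, 2, 0, 0, 0, 2, 0, 0, 3, 0], 4),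
  ([2, 2, 4, 0, 3, 2, 0, 4, 6, 5, 5, 5, 4, 6, 4, 5], 4),
  ([1, 4, 6, 4, 6, 1, 6, 6, 0, 6, 2, 0, 2, 0, 0, 2], 5),
  ([0, 2, 5, 1, 3, 0, 5, 5, 0, 0, 0, 5, 0, 0, 4, 0], 4),
  ([6, 5, 6, 3, 3, 1, 6, 1, 0, 1, 2, 4, 2, 0, 1, 5], 12),
  ([6, 0, 5, 1, 0, 1, 2, 2, 4, 0, 2, 3, 0, 3, 6, 5], 8),
  ([4, 2, 5, 3, 3, 4, 1, 5, 6, 6, 6, 2, 2, 6, 3, 6], 5),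
  ([4, 1, 0, 1, 5, 4, 5, 0, 6, 4, 3, 6, 6, 6, 2, 3], 4),
  ([1, 3, 0, 4, 1, 1, 6, 0, 2, 5, 6, 4, 4, 2, 6, 6], 4),
  ([3, 4, 0, 2, 6, 3, 3, 0, 2, 5, 4, 3, 4, 2, 1, 4], 4),
  ([6, 1, 0, 1, 2, 1, 2, 0, 1, 4, 6, 5, 1, 6, 3, 1], 8),
  ([1, 2, 0, 2, 3, 1, 3, 0, 4, 5, 3, 2, 4, 4, 3, 3], 10),
  ([2, 6, 0, 1, 2, 2, 5, 0, 1, 4, 2, 5, 6, 1, 4, 2], 10),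
  ([3, 5, 3, 4, 3, 4, 1, 4, 2, 2, 3, 2, 4, 5, 4, 4], 12),
  ([4, 0, 5, 2, 0, 3, 4, 2, 2, 5, 6, 2, 3, 5, 4, 1], 12),
  ([5, 6, 2, 6, 2, 5, 2, 2, 2, 0, 6, 5, 0, 2, 4, 6], 10),
  ([5, 3, 4, 4, 6, 2, 1, 3, 3, 2, 4, 3, 4, 4, 6, 3], 8),
  ([2, 3, 0, 5, 6, 5, 3, 0, 6, 6, 2, 5, 5, 1, 3, 5], 8),
  ([1, 1, 1, 3, 2, 6, 6, 6, 6, 2, 4, 2, 4, 1, 4, 3], 8),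
  ([5, 1, 4, 2, 2, 2, 4, 3, 4, 1, 5, 0, 2, 3, 0, 2], 12),
  ([1, 5, 5, 1, 4, 1, 5, 5, 4, 1, 2, 6, 5, 4, 2, 2], 5),
  ([0, 2, 6, 2, 3, 0, 3, 6, 3, 1, 6, 5, 5, 3, 4, 6], 3),
  ([3, 0, 0, 0, 0, 3, 0, 0, 6, 1, 5, 0, 5, 6, 0, 5], 6),
  ([3, 2, 0, 5, 3, 3, 4, 0, 3, 2, 1, 2, 3, 3, 3, 1], 10),
  ([4, 2, 3, 3, 4, 3, 6, 4, 2, 5, 4, 5, 3, 5, 3, 3], 12),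
  ([2, 5, 0, 6, 4, 2, 2, 0, 6, 3, 2, 6, 1, 6, 2, 2], 10),
  ([5, 5, 2, 5, 3, 2, 3, 5, 3, 2, 2, 6, 4, 4, 5, 5], 8),
  ([0, 4, 2, 1, 1, 0, 2, 5, 4, 1, 5, 2, 2, 3, 4, 2], 12),
  ([5, 3, 2, 3, 1, 5, 1, 2, 0, 4, 3, 4, 6, 0, 6, 3], 6),
  ([6, 5, 5, 1, 4, 6, 5, 5, 5, 0, 5, 6, 0, 5, 2, 5], 10),
  ([5, 4, 4, 5, 6, 5, 4, 4, 2, 0, 6, 0, 0, 2, 0, 6], 10),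
  ([0, 1, 0, 1, 2, 0, 2, 0, 1, 4, 1, 1, 1, 6, 2, 6], 8),
  ([4, 5, 1, 1, 3, 3, 2, 6, 1, 0, 1, 6, 0, 6, 5, 6], 12),
  ([0, 6, 5, 0, 2, 0, 0, 5, 3, 4, 1, 1, 6, 3, 5, 1], 6),
  ([5, 6, 2, 2, 5, 2, 4, 5, 3, 5, 2, 5, 3, 4, 3, 5], 8),
  ([5, 0, 6, 4, 0, 5, 6, 6, 0, 6, 6, 3, 2, 0, 1, 6], 10),
  ([2, 0, 4, 5, 0, 5, 3, 3, 4, 6, 2, 1, 5, 3, 2, 5], 12),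
  ([4, 2, 3, 2, 3, 4, 3, 3, 2, 1, 4, 5, 5, 2, 4, 4], 6),
  ([3, 3, 4, 3, 6, 4, 6, 3, 3, 5, 2, 3, 3, 4, 6, 5], 8),
  ([3, 0, 5, 1, 0, 3, 5, 5, 2, 1, 3, 0, 5, 2, 0, 3], 3),
  ([1, 5, 5, 3, 4, 1, 1, 5, 6, 6, 3, 5, 2, 6, 4, 3], 10),
  ([5, 6, 0, 2, 5, 2, 4, 0, 0, 0, 5, 1, 0, 0, 2, 2], 4),
  ([6, 6, 0, 1, 5, 1, 2, 0, 0, 5, 6, 1, 3, 0, 2, 1], 4),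
  ([3, 4, 5, 4, 6, 3, 6, 5, 0, 3, 5, 3, 1, 0, 1, 5], 6),
  ([4, 5, 4, 5, 4, 4, 4, 4, 5, 6, 4, 2, 2, 5, 3, 4], 6),
  ([1, 1, 2, 0, 5, 1, 0, 2, 4, 3, 0, 6, 1, 4, 2, 0], 6),
  ([6, 3, 1, 3, 1, 6, 1, 1, 0, 1, 5, 0, 5, 0, 0, 5], 10),
  ([4, 6, 5, 0, 2, 4, 0, 5, 4, 3, 3, 1, 1, 4, 5, 3], 4),
  ([1, 2, 5, 5, 4, 6, 3, 2, 2, 2, 3, 0, 4, 5, 0, 4], 12),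
  ([3, 5, 2, 4, 4, 3, 6, 2, 1, 1, 1, 5, 5, 1, 4, 1], 10),
  ([4, 3, 2, 3, 1, 4, 1, 2, 0, 4, 2, 4, 6, 0, 6, 2], 3),
  ([1, 1, 0, 6, 2, 6, 5, 0, 0, 2, 1, 6, 4, 0, 5, 6], 4),
  ([5, 0, 0, 0, 0, 5, 0, 0, 1, 6, 3, 0, 2, 1, 0, 3], 6),
  ([6, 3, 0, 1, 6, 1, 2, 0, 0, 4, 6, 4, 1, 0, 1, 1], 4),
  ([6, 4, 0, 3, 6, 6, 1, 0, 5, 2, 1, 3, 3, 5, 1, 1], 4),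
  ([4, 6, 0, 3, 5, 3, 6, 0, 0, 5, 4, 1, 3, 0, 2, 3], 4),
  ([2, 2, 2, 6, 4, 5, 5, 5, 4, 6, 0, 4, 5, 3, 1, 0], 12),
  ([3, 1, 0, 4, 2, 4, 1, 0, 0, 2, 3, 6, 4, 0, 5, 4], 4),
  ([1, 4, 0, 6, 1, 6, 5, 0, 0, 3, 1, 3, 6, 0, 6, 6], 4),
  ([3, 2, 3, 2, 3, 3, 3, 3, 2, 1, 3, 5, 5, 2, 4, 3], 3),
  ([3, 1, 2, 0, 5, 3, 0, 2, 3, 4, 4, 6, 6, 3, 2, 4], 4),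
  ([3, 3, 5, 3, 1, 3, 1, 5, 2, 5, 4, 4, 4, 2, 6, 4], 4),
  ([2, 1, 6, 5, 5, 2, 4, 6, 6, 3, 2, 2, 1, 6, 3, 2], 10),
  ([0, 3, 0, 3, 6, 0, 6, 0, 0, 5, 0, 4, 3, 0, 1, 0], 4),
  ([5, 4, 6, 4, 1, 2, 1, 1, 0, 6, 1, 5, 5, 0, 3, 6], 12),
  ([4, 6, 6, 5, 2, 4, 4, 6, 2, 2, 3, 1, 3, 2, 5, 3], 4),
  ([6, 0, 4, 5, 0, 6, 4, 4, 3, 6, 5, 3, 2, 3, 1, 5], 10),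
  ([2, 5, 0, 2, 3, 5, 4, 0, 0, 2, 2, 2, 4, 0, 4, 5], 4),
  ([0, 4, 5, 4, 6, 0, 6, 5, 1, 2, 0, 3, 3, 1, 1, 0], 4),
  ([5, 5, 3, 0, 4, 5, 0, 3, 1, 2, 2, 2, 3, 1, 3, 2], 4),
  ([1, 2, 1, 4, 4, 6, 1, 6, 0, 6, 5, 3, 5, 0, 6, 2], 12)]

theorem twoS5_closed : ∀ e ∈ twoS5List,
    c7Mul twoS5a e.1 ∈ twoS5List.map Prod.fst ∧ c7Mul twoS5b e.1 ∈ twoS5List.map Prod.fst := by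
  decide +kernel

theorem twoS5_elements : ∀ e ∈ twoS5List, e.2 ∈ [1, 2, 3, 4, 5, 6, 8, 10, 12] ∧ (c7Geom e.1 e.2).1 = c7One ∧
    (e.2 = 1 ∨ (c7Geom e.1 e.2).2 = c7Zero) ∧ (e.2 % 2 = 0 → (c7Geom e.1 (e.2 / 2)).1 = c7Neg) := by
  decide +kernel

end H64
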