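import Cfsg.Prelude.Def_Classical
import Cfsg.Agent.H50.Center
import Cfsg.Agent.H50.Count
import Cfsg.Agent.H64.CubicOrders
import Cfsg.Agent.H64.U34Data

/-! `SU₃(4)` over the kernel-cheap model of `GF(16)`: orders, centre, Sylow 13-subgroups. -/

namespace H64

open Matrix

/-- `SU₃(4)`. -/
abbrev G34 := Cfsg.SU 3 K16 4

/-- The matrix of an element. -/
abbrev mat34 (g : G34) : Matrix (Fin 3) (Fin 3) K16 := ((g : Matrix.SpecialLinearGroup (Fin 3) K16) : Matrix (Fin 3) (Fin 3) K16)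

theorem isIso_of_columns (M : Matrix (Fin 3) (Fin 3) K16)
    (hM : ∀ j k, ∑ i, M i j * M i k ^ 4 = if j = k then 1 else 0) : H50.IsIso 4 M := by
  intro u v
  have h00 := hM 0 0; have h01 := hM 0 1; have h02 := hM 0 2
  have h10 := hM 1 0; have h11 := hM 1 1; have h12 := hM 1 2
  have h20 := hM 2 0; have h21 := hM 2 1; have h22 := hM 2 2
  simp [Fin.sum_univ_three] at h00 h01 h02 h10 h11 h12 h20 h21 h22
  simp only [Cfsg.hermForm, Matrix.mulVec, dotProduct, Fin.sum_univ_three, K16.add_pow_four, mul_pow]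
  linear_combination (u 0 * v 0 ^ 4) * h00 + (u 0 * v 1 ^ 4) * h01 + (u 0 * v 2 ^ 4) * h02 +
    (u 1 * v 0 ^ 4) * h10 + (u 1 * v 1 ^ 4) * h11 + (u 1 * v 2 ^ 4) * h12 +
    (u 2 * v 0 ^ 4) * h20 + (u 2 * v 1 ^ 4) * h21 + (u 2 * v 2 ^ 4) * h22

/-- A matrix from nine codes. -/
def mk34 (a b c d e f g h i : Fin 16) : Matrix (Fin 3) (Fin 3) K16 :=
  !![⟨a⟩, ⟨b⟩, ⟨c⟩; ⟨d⟩, ⟨e⟩, ⟨f⟩; ⟨g⟩, ⟨h⟩, ⟨i⟩]

/-- Witnesses of element orders. -/
def u34Witness : List (ℕ × Matrix (Fin 3) (Fin 3) K16) :=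
  [(13, mk34 3 8 3 12 10 10 3 12 7), (10, mk34 14 8 4 4 5 10 15 4 4),
   (15, mk34 6 6 12 6 12 6 15 14 14)]

theorem u34Witness_ok : ∀ x ∈ u34Witness, x.2.det = 1 ∧
    (∀ j k, ∑ i, x.2 i j * x.2 i k ^ 4 = if j = k then 1 else 0) ∧
    x.2 ^ x.1 = 1 ∧ ∀ d ∈ x.1.divisors, d < x.1 → x.2 ^ d ≠ 1 := by
  decide +kernel

theorem u34_cover : ∀ a : K16, ∃ n ∈ ([13, 15, 4, 10] : List ℕ), triPow a (a ^ 4) n = (0, 0, 1) := by
  decide +kernel

theorem u34_center : Subgroup.center G34 = ⊥ := by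
  rw [eq_bot_iff]
  intro g hg
  obtain ⟨l, h5, hl⟩ := H50.scalar_of_mem_center (q := 4) (by rw [K16.card_eq]; norm_num) (by norm_num) hg
  have hd : (mat34 g).det = 1 := (g : Matrix.SpecialLinearGroup (Fin 3) K16).2
  have hl' : mat34 g = l • 1 := hl
  rw [hl', Matrix.det_smul, Matrix.det_one, mul_one, Fintype.card_fin] at hd
  have h1 : l = 1 := by
    have hl6 : l ^ 6 = 1 := by rw [show 6 = 3 * 2 from rfl, pow_mul, hd, one_pow]
    calc l = l ^ (4 + 1) * l := by rw [h5, one_mul]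
      _ = l ^ 6 := by ring
      _ = 1 := hl6
  rw [Subgroup.mem_bot]
  refine Subtype.ext (Subtype.ext ?_)
  show mat34 g = 1
  rw [hl', h1, one_smul]

theorem pow_eq_one_iff34 (g : G34) (n : ℕ) : g ^ n = 1 ↔ mat34 g ^ n = 1 := by
  unfold mat34
  rw [← Matrix.SpecialLinearGroup.coe_pow, ← Subgroup.coe_pow]
  exact ⟨fun h => by rw [h]; rfl, fun h => Subtype.ext (Subtype.ext h)⟩

theorem adjugate_trace34 (g : G34) : (mat34 g).adjugate.trace = (mat34 g).trace ^ 4 := by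
  set M := mat34 g
  have hd : M.det = 1 := (g : Matrix.SpecialLinearGroup (Fin 3) K16).2
  have he : ∀ j k, ∑ i, M i k * M i j ^ 4 = if j = k then 1 else 0 := by
    intro j k
    have h := H50.SU_isIso g (Pi.single k 1) (Pi.single j 1)
    simp only [Cfsg.hermForm, Matrix.mulVec_single_one, Matrix.col_apply] at h
    rw [h]
    fin_cases j <;> fin_cases k <;> simp [Fin.sum_univ_three]
  set N : Matrix (Fin 3) (Fin 3) K16 := Matrix.of fun j i => M i j ^ 4 with hN
  have h1 : N * M = 1 := by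
    ext j k
    rw [Matrix.mul_apply, Matrix.one_apply, ← he j k]
    exact Finset.sum_congr rfl fun i _ => mul_comm _ _
  have h2 : M.adjugate = N := by
    calc M.adjugate = (N * M) * M.adjugate := by rw [h1, one_mul]
      _ = N := by rw [mul_assoc, Matrix.mul_adjugate, hd, one_smul, mul_one]
  rw [h2, Matrix.trace_fin_three, Matrix.trace_fin_three]
  have e : ∀ i, N i i = M i i ^ 4 := fun i => rfl
  rw [e, e, e, K16.add_pow_four, K16.add_pow_four]

theorem orderOf_dvd34 (g : G34) : ∃ n ∈ ([13, 15, 4, 10] : List ℕ), orderOf g ∣ n := by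
  obtain ⟨n, hn, h⟩ := u34_cover (mat34 g).trace
  refine ⟨n, hn, orderOf_dvd_of_pow_eq_one ((pow_eq_one_iff34 g n).2 ?_)⟩
  exact pow_eq_one_of_triPow _ (g : Matrix.SpecialLinearGroup (Fin 3) K16).2 n
    (by rw [adjugate_trace34]; exact h)

theorem exists_witness34 (n : ℕ) (M : Matrix (Fin 3) (Fin 3) K16) (h : (n, M) ∈ u34Witness) :
    ∃ g : G34, mat34 g = M ∧ orderOf g = n := by
  obtain ⟨h1, h2, h3, h4⟩ := u34Witness_ok _ h
  refine ⟨H50.mkSU M (isIso_of_columns M h2) h1, rfl, ?_⟩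
  have hpos : 0 < n := by
    simp only [u34Witness, List.mem_cons, List.not_mem_nil, or_false, Prod.mk.injEq] at h
    rcases h with h | h | h <;> omega
  exact orderOf_eq_of_prime_checks hpos ((pow_eq_one_iff34 _ _).2 h3) fun d hd hlt hc =>
    h4 d hd hlt ((pow_eq_one_iff34 _ _).1 hc)

theorem card34 : Nat.card G34 = 62400 := by
  have hF : Fintype.card K16 = 4 ^ 2 := by rw [K16.card_eq]; norm_num
  have h1 := H50.card_SU_mul (n := 3) (q := 4) hF (by norm_num)
  have h2 := H50.card_GU (n := 3) (q := 4) hF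
  simp only [Finset.prod_range_succ, Finset.prod_range_zero] at h2
  norm_num [Nat.even_iff] at h2
  show Nat.card (Cfsg.SU 3 K16 4) = 62400
  omega

theorem conj_of_order13 {s t : G34} (hs : orderOf s = 13) (ht : orderOf t = 13) :
    ∃ (h : G34) (k : ℕ), s = h * t ^ k * h⁻¹ := by
  haveI : Fact (Nat.Prime 13) := ⟨by norm_num⟩
  have hfac : (Nat.card G34).factorization 13 = 1 := by
    rw [card34, show (62400 : ℕ) = 13 * 4800 by norm_num, Nat.factorization_mul (by norm_num) (by norm_num),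
      Finsupp.add_apply, Nat.Prime.factorization_self (by norm_num), Nat.factorization_eq_zero_of_not_dvd (by norm_num)]
  have hP : ∀ x : G34, orderOf x = 13 → Nat.card (Subgroup.zpowers x) = 13 ^ (Nat.card G34).factorization 13 := by
    intro x hx
    rw [Nat.card_zpowers, hx, hfac, pow_one]
  obtain ⟨h, hh⟩ := MulAction.exists_smul_eq G34 (Sylow.ofCard _ (hP t ht)) (Sylow.ofCard _ (hP s hs))
  have hmem : s ∈ ((h • Sylow.ofCard _ (hP t ht) : Sylow 13 G34) : Subgroup G34) := by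
    rw [hh]
    exact Subgroup.mem_zpowers s
  rw [Sylow.coe_subgroup_smul, Subgroup.mem_pointwise_smul_iff_inv_smul_mem] at hmem
  have hmem' : h⁻¹ * s * h ∈ Subgroup.zpowers t := by
    simpa [MulAut.smul_def, mul_assoc] using hmem
  obtain ⟨k, hk⟩ := mem_powers_iff_mem_zpowers.2 hmem'
  refine ⟨h, k, ?_⟩
  simp only at hk
  rw [hk]
  group

end H64
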