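import Cfsg.Agent.H64.U34Module

/-! Groups `5^m : U₃(4)` with the prime graph of `U₃(4)`. -/

namespace H64

open Matrix

/-- Action of `SU₃(4)` on functions of pairs of vectors. -/
def pairAct (g : G34) (F : V34 × V34 → ZMod 5) : V34 × V34 → ZMod 5 :=
  fun p => F (mat34 g⁻¹ *ᵥ p.1, mat34 g⁻¹ *ᵥ p.2)

theorem mat34_mul (g h : G34) : mat34 (g * h) = mat34 g * mat34 h := rfl

theorem mat34_one : mat34 (1 : G34) = 1 := rfl

theorem pairAct_one (F : V34 × V34 → ZMod 5) : pairAct 1 F = F := by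
  funext p
  simp [pairAct, mat34_one]

theorem pairAct_mul (g h : G34) (F : V34 × V34 → ZMod 5) :
    pairAct (g * h) F = pairAct g (pairAct h F) := by
  funext p
  simp only [pairAct, _root_.mul_inv_rev, mat34_mul, Matrix.mulVec_mulVec]

/-- Differences of a function at isotropic vectors. -/
def diff34 : (V34 → ZMod 5) →+ (V34 × V34 → ZMod 5) where
  toFun f p := if Iso34 p.1 ∧ Iso34 p.2 then f p.1 - f p.2 else 0
  map_zero' := funext fun p => by simp
  map_add' f g := funext fun p => by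
    simp only [Pi.add_apply]
    split_ifs <;> ring

/-- The 12-dimensional module. -/
def mod34 : AddSubgroup (V34 × V34 → ZMod 5) := code34.map diff34

theorem iso_iff34 (g : G34) (u : V34) : Iso34 (mat34 g *ᵥ u) ↔ Iso34 u := by
  refine ⟨fun h => ?_, iso_mulVec (H50.SU_isIso g)⟩
  have := iso_mulVec (H50.SU_isIso g⁻¹) h
  rwa [Matrix.mulVec_mulVec, ← mat34_mul, inv_mul_cancel, mat34_one, Matrix.one_mulVec] at this

theorem code34_comp (g : G34) {f : V34 → ZMod 5} (hf : f ∈ code34) :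
    (fun u => f (mat34 g *ᵥ u)) ∈ code34 := by
  refine ⟨fun c u hc => by simp only [Matrix.mulVec_smul, hf.1 c _ hc], fun x y hx hy hxy => ?_⟩
  simp only [Matrix.mulVec_add, Matrix.mulVec_smul]
  refine hf.2 _ _ ((iso_iff34 g x).2 hx) ((iso_iff34 g y).2 hy) ?_
  rw [hm34, H50.SU_isIso g x y]
  exact hxy

theorem pairAct_diff (g : G34) (f : V34 → ZMod 5) :
    pairAct g (diff34 f) = diff34 (fun u => f (mat34 g⁻¹ *ᵥ u)) := by
  funext p
  simp only [pairAct, diff34, AddMonoidHom.coe_mk, ZeroHom.coe_mk, iso_iff34]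

theorem mod34_invariant (g : G34) {F : V34 × V34 → ZMod 5} (hF : F ∈ mod34) : pairAct g F ∈ mod34 := by
  obtain ⟨f, hf, rfl⟩ := AddSubgroup.mem_map.1 hF
  rw [pairAct_diff]
  exact AddSubgroup.mem_map_of_mem _ (code34_comp g⁻¹ hf)

/-- The action on `k` copies of the module. -/
def modAct34 (k : ℕ) : G34 →* MulAut (Multiplicative (Fin k → mod34)) :=
  mulAutHom (fun g w i => ⟨pairAct g (w i), mod34_invariant g (w i).2⟩)
    (fun w => funext fun i => Subtype.ext (pairAct_one _))
    (fun g h w => funext fun i => Subtype.ext (pairAct_mul g h _))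
    (fun g v w => funext fun i => Subtype.ext (funext fun p => rfl))

theorem fpf34 (g : G34) (hg : orderOf g = 13) {F : V34 × V34 → ZMod 5} (hF : F ∈ mod34)
    (hfix : pairAct g F = F) : F = 0 := by
  obtain ⟨f, hf, rfl⟩ := AddSubgroup.mem_map.1 hF
  obtain ⟨u0, v0, hu0, -, -⟩ := word34_nonconst
  set t := g⁻¹ with ht
  set δ := f (mat34 t *ᵥ u0) - f u0 with hδ
  have hstep : ∀ u, Iso34 u → f (mat34 t *ᵥ u) = f u + δ := fun u hu => by
    have := congrFun hfix (u, u0)
    simp only [pairAct, diff34, AddMonoidHom.coe_mk, ZeroHom.coe_mk, iso_iff34, hu, hu0, and_self,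
      if_true] at this
    rw [hδ, ← ht] at *
    linear_combination this
  have hn : ∀ (n : ℕ) (u : V34), Iso34 u → f (mat34 (t ^ n) *ᵥ u) = f u + n * δ := by
    intro n
    induction n with
    | zero => intro u _; simp [mat34_one]
    | succ n ih =>
      intro u hu
      rw [pow_succ', mat34_mul, ← Matrix.mulVec_mulVec, hstep _ ((iso_iff34 _ u).2 hu), ih u hu]
      push_cast
      ring
  have hto : orderOf t = 13 := by rw [ht, orderOf_inv, hg]
  have hδ0 : δ = 0 := by
    have := hn 13 u0 hu0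
    rw [← hto, pow_orderOf_eq_one, mat34_one, Matrix.one_mulVec, hto] at this
    have h13 : ∀ d : ZMod 5, ((13 : ℕ) : ZMod 5) * d = 0 → d = 0 := by decide +kernel
    exact h13 δ (by linear_combination -this)
  obtain ⟨s, hs, hso⟩ := exists_witness34 13 s34Mat (by simp [u34Witness, s34Mat])
  obtain ⟨h, k, hk⟩ := conj_of_order13 hso hto
  have hinv : ∀ u, Iso34 u → f (mat34 h⁻¹ *ᵥ (s34Mat *ᵥ u)) = f (mat34 h⁻¹ *ᵥ u) := by
    intro u hu
    rw [← hs, Matrix.mulVec_mulVec, ← mat34_mul, show h⁻¹ * s = t ^ k * h⁻¹ by rw [hk]; group,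
      mat34_mul, ← Matrix.mulVec_mulVec, hn k _ ((iso_iff34 _ u).2 hu), hδ0, mul_zero, add_zero]
  have hconst := const_of_invariant (code34_comp h⁻¹ hf) hinv
  have hf' : ∀ u v, Iso34 u → Iso34 v → f u = f v := fun u v hu hv => by
    have := hconst (mat34 h *ᵥ u) (mat34 h *ᵥ v) ((iso_iff34 h u).2 hu) ((iso_iff34 h v).2 hv)
    simpa only [Matrix.mulVec_mulVec, ← mat34_mul, inv_mul_cancel, mat34_one, Matrix.one_mulVec] using this
  funext p
  simp only [diff34, AddMonoidHom.coe_mk, ZeroHom.coe_mk, Pi.zero_apply]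
  split_ifs with hp
  · exact sub_eq_zero.2 (hf' _ _ hp.1 hp.2)
  · rfl

theorem mod34_exponent {k : ℕ} (v : Multiplicative (Fin k → mod34)) : v ^ 5 = 1 := by
  refine Multiplicative.toAdd.injective ?_
  rw [toAdd_pow, toAdd_one]
  funext i
  refine Subtype.ext (funext fun p => ?_)
  simp only [Pi.smul_apply, AddSubgroupClass.coe_nsmul, Pi.zero_apply, ZeroMemClass.coe_zero, nsmul_eq_mul]
  exact mul_eq_zero_of_left (ZMod.natCast_self 5) _

theorem two_le_card_mod34 : 2 ≤ Nat.card mod34 := by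
  obtain ⟨u, v, hu, hv, hne⟩ := word34_nonconst
  have : Nontrivial mod34 := by
    refine ⟨⟨diff34 word34, AddSubgroup.mem_map_of_mem _ word34_mem⟩, 0, fun h => hne ?_⟩
    have := congrFun (congrArg Subtype.val h) (u, v)
    simp only [diff34, AddMonoidHom.coe_mk, ZeroHom.coe_mk, hu, hv, and_self, if_true] at this
    exact sub_eq_zero.1 this
  exact Finite.one_lt_card

end H64
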