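import Cfsg.Agent.H64.U34Base
import Cfsg.Agent.H64.FpfSemidirect

/-! A module over `GF(5)` for `SU₃(4)` on which elements of order 13 fix only zero. -/

namespace H64

open Matrix

/-- Vectors. -/
abbrev V34 := Fin 3 → K16

/-- The form. -/
abbrev hm34 (u v : V34) : K16 := Cfsg.hermForm 3 K16 4 u v

/-- Non-zero isotropic vectors. -/
def Iso34 (u : V34) : Prop := u ≠ 0 ∧ hm34 u u = 0

instance : DecidablePred Iso34 := fun _ => instDecidableAnd

/-- Code of a vector. -/
def code (u : V34) : C3 := ((u 0).v, (u 1).v, (u 2).v)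

theorem code_inj {u v : V34} (h : code u = code v) : u = v := by
  obtain ⟨h0, h1, h2⟩ := Prod.ext_iff.1 h |>.imp_right Prod.ext_iff.1
  funext i
  fin_cases i
  · exact K16.val_inj.1 h0
  · exact K16.val_inj.1 h1
  · exact K16.val_inj.1 h2

theorem code_zero : code 0 = (0, 0, 0) := rfl

theorem code_add (u v : V34) : code (u + v) = cVAdd (code u) (code v) := rfl

theorem code_smul (c : K16) (u : V34) : code (c • u) = cVSmul c.v (code u) := rfl

theorem pow_four34 (a : K16) : a ^ 4 = (a * a) * (a * a) := by ring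

theorem code_herm (u v : V34) : ((hm34 u v).v : ℕ) = cHerm (code u) (code v) := by
  simp only [hm34, Cfsg.hermForm, Fin.sum_univ_three, pow_four34]
  rfl

theorem code_lt (u : V34) : (code u).1 < 16 ∧ (code u).2.1 < 16 ∧ (code u).2.2 < 16 :=
  ⟨(u 0).v.2, (u 1).v.2, (u 2).v.2⟩

theorem iso_code {u : V34} (hu : Iso34 u) :
    cHerm (code u) (code u) = 0 ∧ code u ≠ (0, 0, 0) :=
  ⟨by rw [← code_herm, hu.2]; rfl, fun h => hu.1 (code_inj (h.trans code_zero.symm))⟩

theorem exists_of_code {x : C3} (h1 : x.1 < 16) (h2 : x.2.1 < 16) (h3 : x.2.2 < 16)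
    (hx : cHerm x x = 0) (hx0 : x ≠ (0, 0, 0)) : ∃ u : V34, code u = x ∧ Iso34 u := by
  refine ⟨![⟨⟨x.1, h1⟩⟩, ⟨⟨x.2.1, h2⟩⟩, ⟨⟨x.2.2, h3⟩⟩], rfl, fun h => hx0 ?_, ?_⟩
  · have := congrArg code h
    exact this
  · refine K16.val_inj.1 ?_
    rw [code_herm]
    exact hx

/-- The scalar taking a vector to the representative of its line. -/
def lead34 (u : V34) : K16 := (if u 0 = 0 then (if u 1 = 0 then u 2 else u 1) else u 0)⁻¹

theorem lead34_ne {u : V34} (hu : u ≠ 0) : lead34 u ≠ 0 := by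
  unfold lead34
  apply inv_ne_zero
  split_ifs with h0 h1
  · intro h2
    exact hu (funext fun i => by fin_cases i <;> assumption)
  · exact h1
  · exact h0

theorem code_norm (u : V34) : code (lead34 u • u) = cNorm (code u) := by
  rw [code_smul]
  unfold lead34 cNorm code
  have e : ∀ a : K16, (a.v : ℕ) = 0 ↔ a = 0 := fun a => K16.val_inj (b := 0)
  simp only [e]
  split_ifs <;> rfl

theorem norm_mem_reps {u : V34} (hu : Iso34 u) : cNorm (code u) ∈ u34Reps := by
  have h := u34_norm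
  simp only [List.all_eq_true, List.mem_range] at h
  have := h _ (code_lt u).1 _ (code_lt u).2.1 _ (code_lt u).2.2
  simpa [(iso_code hu).1, (iso_code hu).2] using this

/-- The 13-dimensional code: functions constant on lines, with zero sum on each chord. -/
def code34 : AddSubgroup (V34 → ZMod 5) where
  carrier := {f | (∀ (c : K16) (u : V34), c ≠ 0 → f (c • u) = f u) ∧
    ∀ x y : V34, Iso34 x → Iso34 y → hm34 x y ^ 3 = 1 →
      f x + f y + f (x + y) + f (x + (⟨6⟩ : K16) • y) + f (x + (⟨7⟩ : K16) • y) = 0}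
  zero_mem' := ⟨fun _ _ _ => rfl, fun _ _ _ _ _ => by simp⟩
  add_mem' {f g} hf hg := ⟨fun c u hc => by simp only [Pi.add_apply, hf.1 c u hc, hg.1 c u hc],
    fun x y hx hy hxy => by
      simp only [Pi.add_apply]
      linear_combination hf.2 x y hx hy hxy + hg.2 x y hx hy hxy⟩
  neg_mem' {f} hf := ⟨fun c u hc => by simp only [Pi.neg_apply, hf.1 c u hc],
    fun x y hx hy hxy => by
      simp only [Pi.neg_apply]
      linear_combination -(hf.2 x y hx hy hxy)⟩

/-- The chosen word. -/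
def word34 (u : V34) : ZMod 5 := (cWord (code u) : ZMod 5)

theorem cube_code : ∀ a : K16, a ^ 3 = 1 ↔ (a.v : ℕ) ∈ u34Cubes := by decide +kernel

theorem word34_scale (c : K16) (u : V34) (hc : c ≠ 0) : word34 (c • u) = word34 u := by
  have h := u34_scale
  simp only [List.all_eq_true, List.mem_range] at h
  have := h _ (code_lt u).1 _ (code_lt u).2.1 _ (code_lt u).2.2 _ c.v.2
  have hc' : (c.v : ℕ) ≠ 0 := fun e => hc (K16.val_inj.1 e)
  simp only [beq_eq_false_iff_ne.2 hc', Bool.false_or, beq_iff_eq] at this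
  unfold word34
  rw [code_smul, ZMod.natCast_eq_natCast_iff']
  exact this

theorem scale_cube : ∀ a h : K16, a ≠ 0 → h ^ 3 = 1 → (a * a ^ 4 * h) ^ 3 = 1 := by decide +kernel

theorem word34_chord (x y : V34) (hx : Iso34 x) (hy : Iso34 y) (hxy : hm34 x y ^ 3 = 1) :
    word34 x + word34 y + word34 (x + y) + word34 (x + (⟨6⟩ : K16) • y) +
      word34 (x + (⟨7⟩ : K16) • y) = 0 := by
  set a := lead34 x with ha
  have ha0 : a ≠ 0 := lead34_ne hx.1
  have hyy : Iso34 (a • y) := by
    refine ⟨smul_ne_zero ha0 hy.1, ?_⟩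
    have : hm34 (a • y) (a • y) = a * a ^ 4 * hm34 y y := by
      simp only [hm34, Cfsg.hermForm, Fin.sum_univ_three, Pi.smul_apply, smul_eq_mul]; ring
    rw [this, hy.2, mul_zero]
  have hxy' : hm34 (a • x) (a • y) ^ 3 = 1 := by
    have e : hm34 (a • x) (a • y) = a * a ^ 4 * hm34 x y := by
      simp only [hm34, Cfsg.hermForm, Fin.sum_univ_three, Pi.smul_apply, smul_eq_mul]; ring
    rw [e]
    exact scale_cube a _ ha0 hxy
  have h := u34_chord
  simp only [List.all_eq_true, List.mem_range] at h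
  have h' := h _ (code_lt (a • y)).1 _ (code_lt (a • y)).2.1 _ (code_lt (a • y)).2.2
  rw [show ((code (a • y)).1, (code (a • y)).2.1, (code (a • y)).2.2) = code (a • y) from rfl,
    (iso_code hyy).1] at h'
  simp only [bne_self_eq_false, Bool.false_or, List.all_eq_true] at h'
  have hc := h' _ (norm_mem_reps hx)
  rw [← code_norm, ← ha, ← code_herm] at hc
  have hm : u34Cubes.contains ((hm34 (a • x) (a • y)).v : ℕ) = true :=
    List.contains_iff_mem.2 ((cube_code _).1 hxy')
  rw [hm] at hc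
  simp only [Bool.not_true, Bool.false_or, beq_iff_eq] at hc
  have hsum : ((cWord (code (a • x)) + cWord (code (a • y)) + cWord (code (a • x + a • y)) +
      cWord (code (a • x + (⟨6⟩ : K16) • (a • y))) + cWord (code (a • x + (⟨7⟩ : K16) • (a • y))) : ℕ) : ZMod 5) = 0 := by
    rw [← ZMod.natCast_mod]
    simp only [code_smul] at hc
    simp only [code_add, code_smul]
    exact (congrArg (Nat.cast : ℕ → ZMod 5) hc).trans Nat.cast_zero
  push_cast at hsum
  rw [show a • x + a • y = a • (x + y) from (smul_add _ _ _).symm, smul_comm (⟨6⟩ : K16) a y,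
    smul_comm (⟨7⟩ : K16) a y, ← smul_add, ← smul_add] at hsum
  have e : ∀ u : V34, (cWord (code (a • u)) : ZMod 5) = word34 u := fun u => word34_scale a u ha0
  simpa only [e] using hsum

theorem word34_mem : word34 ∈ code34 := ⟨word34_scale, word34_chord⟩

theorem word34_nonconst : ∃ u v : V34, Iso34 u ∧ Iso34 v ∧ word34 u ≠ word34 v := by
  obtain ⟨x, hx, y, hy, hx0, hy0, hxx, hyy, hne⟩ := u34_nonconst
  have hlt : ∀ z ∈ u34Reps, z.1 < 16 ∧ z.2.1 < 16 ∧ z.2.2 < 16 := by decide +kernel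
  obtain ⟨u, hu, hu'⟩ := exists_of_code (hlt x hx).1 (hlt x hx).2.1 (hlt x hx).2.2 hxx hx0
  obtain ⟨v, hv, hv'⟩ := exists_of_code (hlt y hy).1 (hlt y hy).2.1 (hlt y hy).2.2 hyy hy0
  refine ⟨u, v, hu', hv', fun h => hne ?_⟩
  unfold word34 at h
  rwa [hu, hv, ZMod.natCast_eq_natCast_iff'] at h

/-- An element of order 13 as a matrix. -/
def s34Mat : Matrix (Fin 3) (Fin 3) K16 := mk34 3 8 3 12 10 10 3 12 7

theorem code_s (u : V34) : code (s34Mat *ᵥ u) = cS (code u) := by
  simp only [code, Matrix.mulVec, dotProduct, Fin.sum_univ_three]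
  rfl

theorem iso_mulVec {M : Matrix (Fin 3) (Fin 3) K16} (hM : H50.IsIso 4 M) {u : V34} (hu : Iso34 u) :
    Iso34 (M *ᵥ u) := by
  refine ⟨fun h => hu.1 ?_, by rw [hm34, hM]; exact hu.2⟩
  exact H50.IsIso.injective (q := 4) (by rw [K16.card_eq]; norm_num) hM
    (h.trans (Matrix.mulVec_zero M).symm)

theorem const_of_invariant {f : V34 → ZMod 5} (hf : f ∈ code34)
    (hs : ∀ u, Iso34 u → f (s34Mat *ᵥ u) = f u) : ∀ u v, Iso34 u → Iso34 v → f u = f v := by
  have hS : H50.IsIso 4 s34Mat := isIso_of_columns _ (u34Witness_ok (13, s34Mat) (by simp [u34Witness, s34Mat])).2.1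
  have hroot : ∀ j : Fin 5, ∃ r, code r = u34Roots.getD j (0, 0, 0) ∧ Iso34 r := fun j => by
    have hlt : ∀ j < 5, (u34Roots.getD j (0, 0, 0)).1 < 16 ∧ (u34Roots.getD j (0, 0, 0)).2.1 < 16 ∧
        (u34Roots.getD j (0, 0, 0)).2.2 < 16 := by decide +kernel
    exact exists_of_code (hlt j j.2).1 (hlt j j.2).2.1 (hlt j j.2).2.2 (u34_roots j j.2).1 (u34_roots j j.2).2
  choose r hr hri using hroot
  set a : Fin 5 → ZMod 5 := fun j => f (r j) with ha
  have horb : ∀ (j : Fin 5) (i : ℕ), ∃ u, code u = cOrb j i ∧ Iso34 u ∧ f u = a j := by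
    intro j i
    induction i with
    | zero => exact ⟨r j, hr j, hri j, rfl⟩
    | succ i ih =>
      obtain ⟨u, hu, hui, hfu⟩ := ih
      have hsu := iso_mulVec hS hui
      have hl := lead34_ne hsu.1
      refine ⟨lead34 (s34Mat *ᵥ u) • (s34Mat *ᵥ u), by rw [code_norm, code_s, hu]; rfl, ?_, ?_⟩
      · refine ⟨smul_ne_zero hl hsu.1, ?_⟩
        have : ∀ (c : K16) (w : V34), hm34 (c • w) (c • w) = c * c ^ 4 * hm34 w w := fun c w => by
          simp only [hm34, Cfsg.hermForm, Fin.sum_univ_three, Pi.smul_apply, smul_eq_mul]; ring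
        rw [this, hsu.2, mul_zero]
      · rw [hf.1 _ _ hl, hs u hui, hfu]
  have hval : ∀ (u : V34) (j : Fin 5) (i : ℕ), u ≠ 0 → cNorm (code u) = cOrb j i → f u = a j := by
    intro u j i hu h
    obtain ⟨w, hw, -, hfw⟩ := horb j i
    rw [← code_norm, ← hw] at h
    rw [← hf.1 _ u (lead34_ne hu), code_inj h, hfw]
  have hconst : ∀ i, a i = a 0 := by
    refine u34_solve a fun e he => ?_
    obtain ⟨hxx, hx0, hyy, hy0, hxy, hmap⟩ := u34_eqs e he
    have hlt : ∀ e ∈ u34Eqs, e.1.1 < 16 ∧ e.1.2.1 < 16 ∧ e.1.2.2 < 16 ∧ e.2.1.1 < 16 ∧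
        e.2.1.2.1 < 16 ∧ e.2.1.2.2 < 16 ∧ e.2.2.length = 5 ∧ ∀ l ∈ e.2.2, l.1 < 5 := by decide +kernel
    obtain ⟨l1, l2, l3, l4, l5, l6, hlen, hl5⟩ := hlt e he
    obtain ⟨x, hx, hxi⟩ := exists_of_code l1 l2 l3 hxx hx0
    obtain ⟨y, hy, hyi⟩ := exists_of_code l4 l5 l6 hyy hy0
    have hxy' : hm34 x y ^ 3 = 1 := (cube_code _).2 (by rw [code_herm, hx, hy]; exact hxy)
    have hsum := hf.2 x y hxi hyi hxy'
    have hne : ∀ c : K16, x + c • y ≠ 0 := fun c h => by
      have h1 : hm34 x y = 0 := by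
        have hxc : x = c • y := by
          funext k
          have := congrFun h k
          simp only [Pi.add_apply, Pi.smul_apply, Pi.zero_apply] at this
          exact eq_of_add_eq_zero34 this
        have e1 : hm34 (c • y) y = c * hm34 y y := by
          simp only [hm34, Cfsg.hermForm, Fin.sum_univ_three, Pi.smul_apply, smul_eq_mul]; ring
        rw [hxc, e1, hyi.2, mul_zero]
      rw [h1, zero_pow (by norm_num)] at hxy'
      exact zero_ne_one hxy'
    obtain ⟨p1, p2, p3, p4, p5, hp⟩ : ∃ p1 p2 p3 p4 p5 : ℕ × ℕ, e.2.2 = [p1, p2, p3, p4, p5] := by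
      match h : e.2.2, hlen with
      | [p1, p2, p3, p4, p5], _ => exact ⟨p1, p2, p3, p4, p5, rfl⟩
    rw [hp] at hmap hl5 ⊢
    simp only [List.map_cons, List.map_nil, List.cons.injEq, and_true] at hmap
    obtain ⟨m1, m2, m3, m4, m5⟩ := hmap
    have hj : ∀ p : ℕ × ℕ, p.1 < 5 → ∀ u : V34, u ≠ 0 → cNorm (code u) = cOrb p.1 p.2 →
        f u = a (Fin.ofNat 5 p.1) := fun p hp u hu h => by
      refine hval u _ p.2 hu ?_
      rw [h, Fin.val_ofNat, Nat.mod_eq_of_lt hp]
    have ex : x + y = x + (1 : K16) • y := by rw [one_smul]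
    simp only [List.map_cons, List.map_nil, List.sum_cons, List.sum_nil, add_zero]
    rw [hj p1 (hl5 p1 (by simp)) x hxi.1 (by rw [hx]; exact m1),
      hj p2 (hl5 p2 (by simp)) y hyi.1 (by rw [hy]; exact m2),
      hj p3 (hl5 p3 (by simp)) (x + y) (ex ▸ hne 1) (by rw [code_add, hx, hy]; exact m3),
      hj p4 (hl5 p4 (by simp)) _ (hne _) (by rw [code_add, code_smul, hx, hy]; exact m4),
      hj p5 (hl5 p5 (by simp)) _ (hne _) (by rw [code_add, code_smul, hx, hy]; exact m5)] at hsum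
    linear_combination hsum
  have hall : ∀ u, Iso34 u → f u = a 0 := fun u hu => by
    have h := u34_orbit
    simp only [List.all_eq_true, List.any_eq_true, List.mem_range, beq_iff_eq] at h
    obtain ⟨j, hj, i, -, hji⟩ := h _ (norm_mem_reps hu)
    rw [hval u ⟨j, hj⟩ i hu.1 hji.symm, hconst]
  exact fun u v hu hv => (hall u hu).trans (hall v hv).symm
where
  eq_of_add_eq_zero34 {a b : K16} (h : a + b = 0) : a = b := eq_neg_of_add_eq_zero_left h

end H64
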